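import Groth.Agent.ExtShX.Stalk
import Groth.Agent.Lib.CurveHom
import Groth.Prelude.Def_KLin
import Groth.Agent.InvX.Tensor

/-!
# Linearity of tensor and internal hom
-/

set_option linter.style.haveILetI false
set_option linter.unusedSectionVars false
set_option backward.isDefEq.respectTransparency false
set_option backward.isDefEq.respectTransparency.types false
set_option maxHeartbeats 1000000

universe u

open CategoryTheory CategoryTheory.Limits AlgebraicGeometry TopologicalSpace Opposite MonoidalCategory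
open scoped TensorProduct

noncomputable section

namespace Groth.Agent.ExtShX

variable {A : Type u} [CommRing A] {X : Scheme.{u}} [X.Over (Spec (CommRingCat.of A))]

theorem stalk_smulMod (M : X.Modules) (a : A) (x : X) :
    (DerSch.stalkFunctor X x).map (Formal.smulMod A M a) =
      (X.presheaf.germ ⊤ x trivial (Coh.toGlobal (X ↘ Spec (CommRingCat.of A)) a)) •
        𝟙 ((DerSch.stalkFunctor X x).obj M) := by
  refine ModuleCat.hom_ext (LinearMap.ext fun v => ?_)
  obtain ⟨U, hx, m, rfl⟩ := TopCat.Presheaf.exists_germ_eq M.presheaf v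
  show RefHull.stalkMapₗ (Formal.smulMod A M a) x (M.presheaf.germ U x hx m) =
    (show X.presheaf.stalk x from X.presheaf.germ ⊤ x trivial (Coh.toGlobal (X ↘ Spec (CommRingCat.of A)) a)) •
      M.presheaf.germ U x hx m
  rw [RefHull.stalkMapₗ_germ, ← X.presheaf.germ_res_apply (homOfLE (le_top : U ≤ ⊤)) x hx]
  exact QCoh.germ_smul' M hx _ _

/-- Tensoring is linear. -/
theorem ten_smulMod (L Z : X.Modules) (a : A) :
    (SheafHomX.ten L).map (Formal.smulMod A Z a) = Formal.smulMod A ((SheafHomX.ten L).obj Z) a := by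
  rw [← sub_eq_zero]
  refine CurveHom.eq_zero_of_stalk _ fun x v => ?_
  have h : (DerSch.stalkFunctor X x).map ((SheafHomX.ten L).map (Formal.smulMod A Z a)) =
      (DerSch.stalkFunctor X x).map (Formal.smulMod A ((SheafHomX.ten L).obj Z) a) := by
    have e := KFlatLib.stalkTensorIso_naturality (x := x) (Formal.smulMod A Z a) (𝟙 L)
    simp only [CategoryTheory.Functor.map_id, NatTrans.id_app, Category.comp_id] at e
    rw [stalk_smulMod] at e
    show (DerSch.stalkFunctor X x).map (((DCoh.tensorBi (X := X)).map (Formal.smulMod A Z a)).app L) = _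
    rw [stalk_smulMod, ← cancel_epi (KFlatLib.stalkTensorIso x Z L).hom]
    rw [Linear.comp_smul]
    refine e.symm.trans (Eq.trans ?_ (congrArg (HSMul.hSMul (X.presheaf.germ ⊤ x trivial
      (Coh.toGlobal (X ↘ Spec (CommRingCat.of A)) a))) (Category.comp_id _).symm))
    set r := X.presheaf.germ ⊤ x trivial (Coh.toGlobal (X ↘ Spec (CommRingCat.of A)) a)
    rw [show (r • 𝟙 ((DerSch.stalkFunctor X x).obj Z)) ⊗ₘ 𝟙 ((DerSch.stalkFunctor X x).obj L) =
        r • 𝟙 ((DerSch.stalkFunctor X x).obj Z ⊗ (DerSch.stalkFunctor X x).obj L) from by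
      refine ModuleCat.hom_ext (TensorProduct.ext' fun m l => ?_)
      show (r • m) ⊗ₜ l = r • (m ⊗ₜ[X.presheaf.stalk x] l)
      exact TensorProduct.smul_tmul' _ _ _]
    rw [Linear.smul_comp, Category.id_comp]
  show (DerSch.stalkFunctor X x).map ((SheafHomX.ten L).map (Formal.smulMod A Z a) -
    Formal.smulMod A ((SheafHomX.ten L).obj Z) a) v = 0
  rw [Functor.map_sub, h, sub_self]
  rfl

/-- Internal hom is linear. -/
theorem hom_smulMod (M N : X.Modules) (a : A) :
    (SheafHomX.hom M).map (Formal.smulMod A N a) = Formal.smulMod A ((SheafHomX.hom M).obj N) a := by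
  refine SheafHomX.hom_ext ?_
  rw [← Category.id_comp ((SheafHomX.hom M).map (Formal.smulMod A N a)), Adjunction.homEquiv_naturality_right_symm,
    ← Category.comp_id (Formal.smulMod A ((SheafHomX.hom M).obj N) a), Adjunction.homEquiv_naturality_left_symm,
    ten_smulMod]
  exact (KLin.comp_smulModΓ _ _)

/-- `Hom(O, ℋom(M, N)) = Hom(M, N)`, linearly. -/
def evLin (M N : X.Modules) : (Coh.structureModule X ⟶ (SheafHomX.hom M).obj N) ≃ₗ[A] (M ⟶ N) :=
  { SheafHomX.ev M N with
    map_smul' := fun a x => by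
      show SheafHomX.ev M N (Formal.smulMod A _ a ≫ x) = Formal.smulMod A _ a ≫ SheafHomX.ev M N x
      rw [show Formal.smulMod A (Coh.structureModule X) a ≫ x = x ≫ Formal.smulMod A _ a from
          (KLin.comp_smulModΓ x _).symm, ← hom_smulMod, SheafHomX.ev_naturality]
      exact KLin.comp_smulModΓ (SheafHomX.ev M N x) _ }

/-- Global sections are the maps from the structure sheaf. -/
theorem exists_hom_HH0 (M : X.Modules) :
    Nonempty ((Coh.structureModule X ⟶ M) ≃ₗ[A] Coh.HH X M 0) := by
  let e₀ : Coh.HH X M 0 ≃+ Γ(M, ⊤) := Sheaf.H.equiv₀ (Coh.toAb M) isTerminalTop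
  let f : (Coh.structureModule X ⟶ M) →ₗ[A] Coh.HH X M 0 :=
    { toFun := fun φ => e₀.symm (φ.app ⊤ (show Γ(X, ⊤) from 1))
      map_add' := fun φ ψ => map_add e₀.symm _ _
      map_smul' := fun a φ => by
        apply e₀.injective
        rw [AddEquiv.apply_symm_apply, KLin.smul_app_apply, RingHom.id_apply]
        refine Eq.trans ?_ (Sheaf.H.equiv₀_naturality isTerminalTop
          (Coh.smulAb M (Coh.toGlobal (X ↘ Spec (CommRingCat.of A)) a)) _)
        show _ = X.presheaf.map (homOfLE (le_top : (⊤ : X.Opens) ≤ ⊤)).op _ • e₀ (e₀.symm _)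
        rw [e₀.apply_symm_apply] }
  refine ⟨LinearEquiv.ofBijective f ?_⟩
  refine ⟨fun φ ψ h => ?_, fun t => ⟨InvX.ofSect (e₀ t), ?_⟩⟩
  · have e : ∀ z : Coh.structureModule X ⟶ M, ∀ V : X.Opens,
        AModX.res M (le_top : V ≤ ⊤) (InvX.one z) = z.app V (1 : Γ(X, V)) := fun z V => by
      rw [InvX.one, ← AModX.app_res]
      exact congrArg _ (map_one (X.presheaf.map (homOfLE (le_top : V ≤ ⊤)).op).hom)
    refine (SheafOfModules.unitHomEquiv M).injective (Subtype.ext (funext fun V => ?_))
    exact (e φ V.unop).symm.trans ((congrArg _ (e₀.symm.injective h)).trans (e ψ V.unop))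
  · show e₀.symm (InvX.one (InvX.ofSect (e₀ t))) = t
    rw [InvX.one_ofSect, e₀.symm_apply_apply]

end Groth.Agent.ExtShX
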