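import Groth.Agent.KFlatLib.Scheme.RpushQCoh
import Groth.Agent.Lib.PnDualSheafHom
import Groth.Agent.PnVan.HomEpi
import Groth.Agent.InvX.Tensor
import Groth.Agent.SheafHomX.Coherent
import Groth.Prelude.Def_ModSite2
import Mathlib.Algebra.Homology.HomologySequence
import Mathlib.CategoryTheory.Abelian.RightDerived

/-!
# Local Ext sheaves of modules on a scheme
-/

set_option linter.style.haveILetI false
set_option linter.unusedSectionVars false
set_option backward.isDefEq.respectTransparency false
set_option backward.isDefEq.respectTransparency.types false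
set_option maxHeartbeats 1000000

universe u

open CategoryTheory CategoryTheory.Limits AlgebraicGeometry TopologicalSpace Opposite

noncomputable section

attribute [local instance] CategoryTheory.Abelian.hasFiniteBiproducts

namespace Groth.Agent.ExtShX

variable {X : Scheme.{u}}

instance hasInjRes : HasInjectiveResolutions X.Modules := KFlatLib.hasInjectiveResolutions_modules

/-- The local Ext sheaves. -/
abbrev E (F : X.Modules) (i : ℕ) : X.Modules ⥤ X.Modules := (SheafHomX.hom F).rightDerived i

instance preservesFiniteLimits_hom (F : X.Modules) : PreservesFiniteLimits (SheafHomX.hom F) :=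
  haveI : PreservesLimits (SheafHomX.hom F) := (SheafHomX.adj F).rightAdjoint_preservesLimits
  inferInstance

/-- `Ext⁰ = Hom`. -/
def zeroIso (F : X.Modules) : E F 0 ≅ SheafHomX.hom F := (SheafHomX.hom F).rightDerivedZeroIsoSelf

/-- The frozen internal `Hom`, on `X.Modules`. -/
def shom (F : X.Modules) [ModSite.HasSheafHom (O := X.sheaf) F] : X.Modules ⥤ X.Modules :=
  ModSite.sheafHom (O := X.sheaf) F

instance (F : X.Modules) [ModSite.HasSheafHom (O := X.sheaf) F] : (shom F).Additive :=
  ModSite.sheafHom_additive X.sheaf F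

/-- The frozen internal `Hom` is `SheafHomX.hom`. -/
def sheafHomIso (F : X.Modules) [ModSite.HasSheafHom (O := X.sheaf) F] : shom F ≅ SheafHomX.hom F :=
  Adjunction.rightAdjointUniq (F := SheafHomX.ten F) (ModSite.sheafHomAdj (O := X.sheaf) F) (SheafHomX.adj F)

/-- The frozen Ext sheaves are the `E F i`. -/
theorem extSh_iso (F : X.Modules) [ModSite.HasSheafHom (O := X.sheaf) F]
    [HasInjectiveResolutions (ModSite.Mod X.sheaf)] (i : ℕ) (G : X.Modules) :
    Nonempty ((ModSite.extSh (O := X.sheaf) F i).obj G ≅ (E F i).obj G) := by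
  show Nonempty (((shom F).rightDerived i).obj G ≅ _)
  let e := sheafHomIso F
  exact ⟨{
    hom := (NatTrans.rightDerived e.hom i).app G
    inv := (NatTrans.rightDerived e.inv i).app G
    hom_inv_id := by
      rw [← NatTrans.comp_app, ← NatTrans.rightDerived_comp, e.hom_inv_id, NatTrans.rightDerived_id]
      rfl
    inv_hom_id := by
      rw [← NatTrans.comp_app, ← NatTrans.rightDerived_comp, e.inv_hom_id, NatTrans.rightDerived_id]
      rfl }⟩

/-- `Ext` sheaves of isomorphic modules. -/
theorem iso_of_iso {F F' : X.Modules} (e : F ≅ F') (i : ℕ) (G : X.Modules) :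
    Nonempty ((E F i).obj G ≅ (E F' i).obj G) :=
  ⟨{ hom := (NatTrans.rightDerived (SheafHomX.homMap e.inv) i).app G
     inv := (NatTrans.rightDerived (SheafHomX.homMap e.hom) i).app G
     hom_inv_id := by
       rw [← NatTrans.comp_app, ← NatTrans.rightDerived_comp,
         show SheafHomX.homMap e.inv ≫ SheafHomX.homMap e.hom = 𝟙 _ from NatTrans.ext (funext fun N => by
           rw [NatTrans.comp_app, ← SheafHomX.homMap_comp, e.hom_inv_id, SheafHomX.homMap_id]; rfl),
         NatTrans.rightDerived_id]
       rfl
     inv_hom_id := by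
       rw [← NatTrans.comp_app, ← NatTrans.rightDerived_comp,
         show SheafHomX.homMap e.hom ≫ SheafHomX.homMap e.inv = 𝟙 _ from NatTrans.ext (funext fun N => by
           rw [NatTrans.comp_app, ← SheafHomX.homMap_comp, e.inv_hom_id, SheafHomX.homMap_id]; rfl),
         NatTrans.rightDerived_id]
       rfl }⟩

/-- Higher Ext sheaves out of a finite locally free module vanish. -/
theorem isZero_of_isFinLocFree {F : X.Modules} (hF : FlatMod.IsFinLocFree F) (G : X.Modules) (i : ℕ) :
    IsZero ((E F (i + 1)).obj G) := by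
  haveI : (SheafHomX.hom F).PreservesHomology :=
    ((Functor.exact_tfae (SheafHomX.hom F)).out 0 2).1 fun S hS => PnDual.shortExact_hom hF hS
  let I := injectiveResolution G
  refine IsZero.of_iso ?_ (I.isoRightDerivedObj (SheafHomX.hom F) (i + 1))
  refine ((HomologicalComplex.exactAt_iff_isZero_homology _ _)).1 ?_
  exact (I.cocomplex_exactAt_succ i).map (SheafHomX.hom F)

theorem isInjective_restrict {U : Scheme.{u}} (j : U ⟶ X) [IsOpenImmersion j] (I : X.Modules) [Injective I] :
    Injective ((Scheme.Modules.restrictFunctor j).obj I) :=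
  Injective.injective_of_adjoint (KFlatLib.lshAdj j) I

/-- Ext sheaves commute with restriction to opens. -/
theorem restrict_iso {U : Scheme.{u}} (j : U ⟶ X) [IsOpenImmersion j] (F G : X.Modules) (i : ℕ) :
    Nonempty ((Scheme.Modules.restrictFunctor j).obj ((E F i).obj G) ≅
      (E ((Scheme.Modules.restrictFunctor j).obj F) i).obj ((Scheme.Modules.restrictFunctor j).obj G)) := by
  let R := Scheme.Modules.restrictFunctor j
  haveI : R.IsLeftAdjoint := ⟨_, ⟨Scheme.Modules.restrictAdjunction j⟩⟩
  haveI : PreservesLimits R := (KFlatLib.lshAdj j).rightAdjoint_preservesLimits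
  haveI : PreservesFiniteLimits R := inferInstance
  haveI : PreservesFiniteColimits R := inferInstance
  haveI : R.Additive := Functor.additive_of_preserves_binary_products _
  haveI : R.PreservesHomology := inferInstance
  let I := injectiveResolution G
  let J : InjectiveResolution (R.obj G) :=
    { cocomplex := (R.mapHomologicalComplex _).obj I.cocomplex
      injective := fun n => isInjective_restrict j _
      ι := (HomologicalComplex.singleMapHomologicalComplex R _ 0).inv.app G ≫ (R.mapHomologicalComplex _).map I.ι }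
  let T := (SheafHomX.hom (R.obj F)).mapHomologicalComplex (ComplexShape.up ℕ)
  let H := SheafHomX.restrictIso j F
  let C := ((SheafHomX.hom F).mapHomologicalComplex (ComplexShape.up ℕ)).obj I.cocomplex
  let ε : (R.mapHomologicalComplex _).obj C ≅ T.obj J.cocomplex :=
    HomologicalComplex.Hom.isoOfComponents (fun n => H.app (I.cocomplex.X n))
      fun a b _ => (H.hom.naturality (I.cocomplex.d a b)).symm
  exact ⟨R.mapIso (I.isoRightDerivedObj (SheafHomX.hom F) i) ≪≫ ((C.sc i).mapHomologyIso R).symm ≪≫
    (HomologicalComplex.homologyFunctor _ _ i).mapIso ε ≪≫ (J.isoRightDerivedObj (SheafHomX.hom (R.obj F)) i).symm⟩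

/-- Morphisms are epimorphisms if maps from extensions by zero lift. -/
theorem epi_of_lift {M N : X.Modules} (g : M ⟶ N)
    (h : ∀ (U : X.Opens) (σ : (KFlatLib.lsh U.ι).obj (Coh.structureModule U) ⟶ N),
      ∃ τ, τ ≫ g = σ) : Epi g := by
  refine ⟨fun {W} a b hab => (Scheme.Modules.hom_ext (f := a) b) fun U => AddCommGrpCat.hom_ext (AddMonoidHom.ext fun s => ?_)⟩
  let A := KFlatLib.lshAdj U.ι
  let t : Γ((Scheme.Modules.restrictFunctor U.ι).obj N, ⊤) := AModX.res N (U.ι_image_le ⊤) s
  let ξ := InvX.ofSect t
  obtain ⟨τ, hτ⟩ := h U ((A.homEquiv _ _).symm ξ)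
  have h1 : ξ ≫ (Scheme.Modules.restrictFunctor U.ι).map a = ξ ≫ (Scheme.Modules.restrictFunctor U.ι).map b := by
    apply (A.homEquiv _ _).symm.injective
    rw [Adjunction.homEquiv_naturality_right_symm, Adjunction.homEquiv_naturality_right_symm, ← hτ, Category.assoc,
      Category.assoc, hab]
  have h2 : a.app (U.ι ''ᵁ ⊤) (InvX.one (X := (U : Scheme.{u})) ξ) =
      b.app (U.ι ''ᵁ ⊤) (InvX.one (X := (U : Scheme.{u})) ξ) :=
    congrArg (fun q => InvX.one (X := (U : Scheme.{u})) q) h1
  rw [InvX.one_ofSect] at h2
  have h3 := congrArg (AModX.res W (show U ≤ U.ι ''ᵁ ⊤ by simp)) h2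
  rw [← AModX.app_res, ← AModX.app_res, show AModX.res N (show U ≤ U.ι ''ᵁ ⊤ by simp) t = s from
    (AModX.res_res _ _ s).trans (AModX.res_self s)] at h3
  exact h3

/-- Maps into an injective module extend, so `Hom(-, I)` is exact. -/
theorem epi_homMap_injective {K M : X.Modules} (f : K ⟶ M) [Mono f] (I : X.Modules) [Injective I] :
    Epi ((SheafHomX.homMap f).app I) := by
  refine epi_of_lift _ fun U σ => ?_
  let l := ((SheafHomX.adj K).homEquiv _ _).symm σ
  let T := (DCoh.tensorBi (X := X)).obj ((KFlatLib.lsh U.ι).obj (Coh.structureModule U))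
  haveI : Mono (T.map f) := by
    let F := Scheme.Modules.restrictFunctor U.ι
    haveI : F.PreservesMonomorphisms :=
      haveI : PreservesLimits F := (KFlatLib.lshAdj U.ι).rightAdjoint_preservesLimits
      inferInstance
    haveI : Mono ((KFlatLib.lsh U.ι).map (F.map f)) := inferInstance
    have h : T.map f = (PnVan.shriekTen U K).inv ≫ (KFlatLib.lsh U.ι).map (F.map f) ≫ (PnVan.shriekTen U M).hom := by
      rw [PnVan.shriekTen_naturality, Iso.inv_hom_id_assoc]
    rw [h]
    infer_instance
  refine ⟨(SheafHomX.adj M).homEquiv _ _ (Injective.factorThru l (T.map f)), SheafHomX.hom_ext ?_⟩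
  rw [SheafHomX.homEquiv_homMap, Equiv.symm_apply_apply]
  exact Injective.comp_factorThru l (T.map f)

end Groth.Agent.ExtShX
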