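import Groth.Agent.ExtShX.HighTwist
import Groth.Agent.QCoh.Devissage
import Groth.Agent.H23.SpClosed
import Groth.Agent.H23.UnitSec
import Groth.Agent.H23.ClosedPushLen

/-!
# Modules killed by the ideal of a closed subscheme
-/

set_option linter.style.haveILetI false
set_option linter.unusedSectionVars false
set_option backward.isDefEq.respectTransparency false
set_option backward.isDefEq.respectTransparency.types false
set_option maxHeartbeats 1000000

universe u

open CategoryTheory CategoryTheory.Limits AlgebraicGeometry TopologicalSpace Opposite MonoidalCategory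
open scoped TensorProduct

noncomputable section

attribute [local instance] CategoryTheory.Abelian.hasFiniteBiproducts

namespace Groth.Agent.ExtShX

variable {P : Scheme.{u}}

/-- `ℋom(O, -)` is the identity. -/
def homStructIso : SheafHomX.hom (Coh.structureModule P) ≅ 𝟭 P.Modules :=
  Adjunction.rightAdjointUniq (SheafHomX.adj (Coh.structureModule P))
    (Adjunction.id.ofNatIsoLeft (AmpleVan.twUnit (X := P)).symm)

variable {Q : P.Modules} (π : Coh.structureModule P ⟶ Q)

/-- `G ⊗ π` is an isomorphism. -/
def Killed (G : P.Modules) : Prop := IsIso ((DCoh.tensorBi.obj G).map π)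

theorem epi_tensor (G : P.Modules) [Epi π] : Epi ((DCoh.tensorBi.obj G).map π) := by
  haveI : PreservesColimitsOfSize.{u, u} ((DCoh.tensorBi (X := P)).obj G) :=
    ⟨fun {K} _ => preservesColimitsOfShape_of_natIso ((KFlatLib.tensorBiFlipIso P).app G)⟩
  haveI : PreservesFiniteColimits ((DCoh.tensorBi (X := P)).obj G) :=
    PreservesColimitsOfSize.preservesFiniteColimits _
  exact ((DCoh.tensorBi (X := P)).obj G).map_epi π

theorem killed_of_mono [Epi π] {A B : P.Modules} (i : A ⟶ B) [Mono i] (hB : Killed π B) : Killed π A := by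
  haveI : IsIso ((DCoh.tensorBi.obj B).map π) := hB
  haveI := epi_tensor π A
  haveI : Mono (((DCoh.tensorBi (X := P)).map i).app (Coh.structureModule P)) := by
    have e := (AmpleVan.twUnit (X := P)).hom.naturality i
    haveI : Mono (((DCoh.tensorBi (X := P)).map i).app (Coh.structureModule P) ≫
        (AmpleVan.twUnit (X := P)).hom.app B) := by
      rw [show ((DCoh.tensorBi (X := P)).map i).app (Coh.structureModule P) ≫ (AmpleVan.twUnit (X := P)).hom.app B =
        (AmpleVan.twUnit (X := P)).hom.app A ≫ i from e]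
      exact mono_comp _ _
    exact mono_of_mono _ ((AmpleVan.twUnit (X := P)).hom.app B)
  haveI : Mono ((DCoh.tensorBi.obj A).map π ≫ ((DCoh.tensorBi (X := P)).map i).app Q) := by
    rw [((DCoh.tensorBi (X := P)).map i).naturality π]
    exact mono_comp _ _
  haveI : Mono ((DCoh.tensorBi.obj A).map π) := mono_of_mono _ (((DCoh.tensorBi (X := P)).map i).app Q)
  exact isIso_of_mono_of_epi _

/-- Evaluation at the unit. -/
def evUnit : SheafHomX.hom Q ⟶ 𝟭 P.Modules := SheafHomX.homMap π ≫ homStructIso.hom

/-- Maps out of a killed module only see the part killed. -/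
theorem bijective_comp_evUnit {G : P.Modules} (hG : Killed π G) (N : P.Modules) :
    Function.Bijective (fun v : G ⟶ (SheafHomX.hom Q).obj N => v ≫ (evUnit π).app N) := by
  haveI : IsIso ((DCoh.tensorBi.obj G).map π) := hG
  let a := (SheafHomX.adj Q).homEquiv G N
  let b := (SheafHomX.adj (Coh.structureModule P)).homEquiv G N
  let u : (SheafHomX.hom (Coh.structureModule P)).obj N ≅ N := homStructIso.app N
  have h : ∀ v : G ⟶ (SheafHomX.hom Q).obj N, v ≫ (evUnit π).app N =
      b ((DCoh.tensorBi.obj G).map π ≫ a.symm v) ≫ u.hom := fun v => by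
    show v ≫ (SheafHomX.homMap π).app N ≫ u.hom = _
    rw [← Category.assoc]
    exact congrArg (· ≫ u.hom) (b.symm.injective ((SheafHomX.homEquiv_homMap π v).trans
      (b.symm_apply_apply _).symm))
  refine ⟨fun v v' hv => ?_, fun w => ?_⟩
  · simp only [h] at hv
    exact a.symm.injective ((cancel_epi ((DCoh.tensorBi.obj G).map π)).1 (b.injective ((cancel_mono u.hom).1 hv)))
  · refine ⟨a (inv ((DCoh.tensorBi.obj G).map π) ≫ b.symm (w ≫ u.inv)), ?_⟩
    simp only [h]
    rw [a.symm_apply_apply, IsIso.hom_inv_id_assoc, b.apply_symm_apply, Category.assoc, u.inv_hom_id]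
    exact Category.comp_id w

/-- `ℋom(Q, N)` is killed. -/
theorem killed_hom [Epi π] (hQ : Killed π Q) (N : P.Modules) : Killed π ((SheafHomX.hom Q).obj N) := by
  let J := (SheafHomX.hom Q).obj N
  let T := (DCoh.tensorBi.obj J).map π
  let c := (KFlatLib.tensorBiFlipIso P).app Q
  haveI : IsIso ((DCoh.tensorBi.obj Q).map π) := hQ
  haveI : IsIso ((SheafHomX.ten Q).map π) := by
    haveI : IsIso ((DCoh.tensorBi.flip.obj Q).map π ≫ c.hom.app Q) := by
      rw [c.hom.naturality π]
      infer_instance
    exact IsIso.of_isIso_comp_right _ (c.hom.app Q)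
  haveI : IsIso ((SheafHomX.ten Q).map T) := by
    let α := ((KFlatLib.tensorAssocSch P).app J)
    have e : (SheafHomX.ten Q).map T ≫ (α.hom.app Q).app Q =
        (α.hom.app (Coh.structureModule P)).app Q ≫ (DCoh.tensorBi.obj J).map ((SheafHomX.ten Q).map π) :=
      congr_app (α.hom.naturality π) Q
    haveI : IsIso ((SheafHomX.ten Q).map T ≫ (α.hom.app Q).app Q) := by rw [e]; infer_instance
    exact IsIso.of_isIso_comp_right _ ((α.hom.app Q).app Q)
  let ru : (SheafHomX.ten (Coh.structureModule P)).obj J ≅ J := (AmpleVan.twUnit (X := P)).app J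
  let r : (SheafHomX.ten Q).obj J ⟶ J :=
    (SheafHomX.adj Q).homEquiv _ N (inv ((SheafHomX.ten Q).map T) ≫ ((SheafHomX.adj Q).homEquiv _ N).symm ru.hom)
  have hr : T ≫ r = ru.hom := by
    refine ((SheafHomX.adj Q).homEquiv_naturality_left T _).symm.trans ?_
    rw [IsIso.hom_inv_id_assoc, Equiv.apply_symm_apply]
  haveI : Epi T := epi_tensor π J
  haveI : Mono (T ≫ r) := by rw [hr]; infer_instance
  haveI : Mono T := mono_of_mono T r
  exact isIso_of_mono_of_epi T

/-- A module whose stalks are killed by the kernel of `π`. -/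
theorem killed_of_stalk [Epi π] (G : P.Modules)
    (h : ∀ (x : P) (a : P.presheaf.stalk x), a • ((DerSch.stalkFunctor P x).map π).hom (H23.UnitSec.one x) = 0 →
      ∀ g : G.presheaf.stalk x, a • g = 0) : Killed π G := by
  haveI := epi_tensor π G
  have hm : Mono ((DCoh.tensorBi.obj G).map π) := by
    refine Preadditive.mono_of_kernel_zero ((CurveCohLib.isZero_of_subsingleton_stalks fun x => ?_).eq_of_src _ _)
    haveI : PreservesLimit (parallelPair ((DCoh.tensorBi.obj G).map π) 0) (DerSch.stalkFunctor P x) := inferInstance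
    haveI : Mono ((DerSch.stalkFunctor P x).map ((DCoh.tensorBi.obj G).map π)) := by
      have e := KFlatLib.stalkTensorIso_naturality (x := x) (𝟙 G) π
      simp only [CategoryTheory.Functor.map_id, NatTrans.id_app, Category.id_comp] at e
      haveI : Mono ((𝟙 ((DerSch.stalkFunctor P x).obj G)) ⊗ₘ (DerSch.stalkFunctor P x).map π) := by
        refine (ModuleCat.mono_iff_injective _).2 ((injective_iff_map_eq_zero _).2 fun z hz => ?_)
        obtain ⟨g, rfl⟩ : ∃ g : G.presheaf.stalk x, z = g ⊗ₜ[P.presheaf.stalk x] H23.UnitSec.one x := by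
          refine TensorProduct.induction_on z ⟨0, (TensorProduct.zero_tmul _ _).symm⟩ (fun g m => ?_) ?_
          · obtain ⟨a, rfl⟩ := Submodule.mem_span_singleton.1
              ((H23.UnitSec.span_one x).ge (Submodule.mem_top : m ∈ ⊤))
            exact ⟨a • (show G.presheaf.stalk x from g), (TensorProduct.smul_tmul _ _ _).symm⟩
          · rintro _ _ ⟨g, rfl⟩ ⟨g', rfl⟩
            exact ⟨g + g', (TensorProduct.add_tmul _ _ _).symm⟩
        have hπs : Function.Surjective ((DerSch.stalkFunctor P x).map π).hom :=
          (ModuleCat.epi_iff_surjective _).1 inferInstance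
        let R := P.presheaf.stalk x
        let m₀ := ((DerSch.stalkFunctor P x).map π).hom (H23.UnitSec.one x)
        let κ : R →ₗ[R] (DerSch.stalkFunctor P x).obj Q := LinearMap.toSpanSingleton R _ m₀
        have hκs : Function.Surjective κ := fun q => by
          obtain ⟨m, rfl⟩ := hπs q
          obtain ⟨a, rfl⟩ := Submodule.mem_span_singleton.1
            ((H23.UnitSec.span_one x).ge (Submodule.mem_top : m ∈ ⊤))
          exact ⟨a, (map_smul _ _ _).symm⟩
        have h0 : (LinearMap.lTensor (G.presheaf.stalk x) κ) (g ⊗ₜ[R] (1 : R)) = 0 := by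
          rw [LinearMap.lTensor_tmul, LinearMap.toSpanSingleton_apply, one_smul]
          exact hz
        obtain ⟨w, hw⟩ := (lTensor_exact (G.presheaf.stalk x) (LinearMap.exact_subtype_ker_map κ) hκs _).1 h0
        have hw0 : ∀ w, (LinearMap.lTensor (G.presheaf.stalk x) (LinearMap.ker κ).subtype) w = 0 := fun w => by
          induction w using TensorProduct.induction_on with
          | zero => exact map_zero _
          | tmul g a =>
            rw [LinearMap.lTensor_tmul]
            show g ⊗ₜ[R] (a : R) = 0
            rw [show (a : R) = (a : R) • (1 : R) from (mul_one _).symm, ← TensorProduct.smul_tmul,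
              h x a a.2 g, TensorProduct.zero_tmul]
          | add a b ha hb => rw [map_add, ha, hb, add_zero]
        rw [hw0] at hw
        have hg := congrArg (TensorProduct.rid R (G.presheaf.stalk x)) hw.symm
        rw [TensorProduct.rid_tmul, one_smul, map_zero] at hg
        rw [hg, TensorProduct.zero_tmul]
      haveI : Mono ((KFlatLib.stalkTensorIso x G (Coh.structureModule P)).hom ≫
          (DerSch.stalkFunctor P x).map ((DCoh.tensorBi.obj G).map π)) := by
        rw [← e]; exact mono_comp _ _
      have e' : (DerSch.stalkFunctor P x).map ((DCoh.tensorBi.obj G).map π) =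
          (KFlatLib.stalkTensorIso x G (Coh.structureModule P)).inv ≫
            (KFlatLib.stalkTensorIso x G (Coh.structureModule P)).hom ≫
              (DerSch.stalkFunctor P x).map ((DCoh.tensorBi.obj G).map π) := (Iso.inv_hom_id_assoc _ _).symm
      rw [e']
      exact mono_comp _ _
    have hz : IsZero ((DerSch.stalkFunctor P x).obj (kernel ((DCoh.tensorBi.obj G).map π))) :=
      (isZero_kernel_of_mono ((DerSch.stalkFunctor P x).map ((DCoh.tensorBi.obj G).map π))).of_iso
        (PreservesKernel.iso _ _)
    exact ModuleCat.isZero_of_iff_subsingleton.1 hz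
  exact isIso_of_mono_of_epi _

variable {X : Scheme.{u}} (ι : X ⟶ P) [IsClosedImmersion ι]

/-- `O_P ⟶ ι_* O_X`. -/
def piMap : Coh.structureModule P ⟶ (Coh.push ι).obj (Coh.structureModule X) :=
  SheafOfModules.unitToPushforwardObjUnit ι.toRingCatSheafHom

instance epi_piMap : Epi (piMap ι) := by
  have hA : Coh.IsQCoh ((Coh.push ι).obj (Coh.structureModule X)) :=
    QCoh.isQCoh_pushforward ι QCoh.isQCoh_structureModule
  refine Preadditive.epi_of_cokernel_zero (IsZero.eq_of_tgt (QCoh.isZero_of_app_eq_zero
    (QCoh.isQCoh_cokernel QCoh.isQCoh_structureModule hA (piMap ι)) fun V x => ?_) _ _)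
  obtain ⟨y, rfl⟩ := QCoh.app_surjective_of_epi hA (QCoh.isQCoh_cokernel QCoh.isQCoh_structureModule hA (piMap ι))
    (cokernel.π (piMap ι)) V.2 x
  obtain ⟨a, rfl⟩ := ι.app_surjective V.1 V.2 y
  exact congr(($(cokernel.condition (piMap ι))).app V.1 a)

/-- Direct images are killed. -/
theorem killed_push (F : X.Modules) : Killed (piMap ι) ((Coh.push ι).obj F) := by
  refine killed_of_stalk _ _ fun y a ha g => ?_
  by_cases hy : y ∈ Set.range ι
  · obtain ⟨x, rfl⟩ := hy
    letI : Module (P.presheaf.stalk (ι x)) (F.presheaf.stalk x) := Module.compHom _ (ι.stalkMap x).hom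
    letI : Module (P.presheaf.stalk (ι x)) ((Coh.structureModule X).presheaf.stalk x) :=
      Module.compHom _ (ι.stalkMap x).hom
    obtain ⟨e⟩ := H23.SpClosed.nonempty_stalkEquiv ι F x
    obtain ⟨d⟩ := H23.SpClosed.nonempty_stalkEquiv ι (Coh.structureModule X) x
    haveI : Epi ((DerSch.stalkFunctor P (ι x)).map (piMap ι)) := inferInstance
    let m := ((DerSch.stalkFunctor P (ι x)).map (piMap ι)).hom (H23.UnitSec.one (ι x))
    have hgen : ∀ z : (Coh.structureModule X).presheaf.stalk x, ∃ b, (ι.stalkMap x).hom b • d m = z := fun z => by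
      obtain ⟨w, hw⟩ := (ModuleCat.epi_iff_surjective _).1 ‹Epi ((DerSch.stalkFunctor P (ι x)).map (piMap ι))› (d.symm z)
      obtain ⟨b, rfl⟩ := Submodule.mem_span_singleton.1
        ((H23.UnitSec.span_one (ι x)).ge (Submodule.mem_top : w ∈ ⊤))
      refine ⟨b, ?_⟩
      show b • d m = z
      rw [← map_smul d, show b • m = d.symm z from (map_smul _ _ _).symm.trans hw, d.apply_symm_apply]
    obtain ⟨b, hb⟩ := hgen (H23.UnitSec.one x)
    have h1 : (ι.stalkMap x).hom a • d m = 0 := by
      show a • d m = 0
      rw [← map_smul d, show a • m = 0 from ha, map_zero]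
    have h2 : (ι.stalkMap x).hom a = 0 := by
      refine H23.UnitSec.eq_zero_of_smul_one _ ?_
      rw [← hb, smul_comm, h1, smul_zero]
    refine e.injective ?_
    rw [map_smul, map_zero]
    show (ι.stalkMap x).hom a • e g = 0
    rw [h2, zero_smul]
  · haveI := H23.ClosedPushLen.subsingleton_stalk ι F hy
    exact Subsingleton.elim _ _

end Groth.Agent.ExtShX
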