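import Groth.Agent.ExtShX.Seq
import Groth.Agent.ExtShX.Killed
import Groth.Agent.AmpleVan.Tw
import Groth.Agent.H23.PicMul
import Groth.Agent.H23.InvStalk
import Groth.Agent.H23.PullPush
import Groth.Agent.Lib.CurvePoint

/-!
# `Ext¹(O_D, ω) ≅ O_D ⊗ L ⊗ ω` for an invertible ideal
-/

set_option linter.style.haveILetI false
set_option linter.unusedSectionVars false
set_option backward.isDefEq.respectTransparency false
set_option backward.isDefEq.respectTransparency.types false
set_option maxHeartbeats 1000000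

universe u

open CategoryTheory CategoryTheory.Limits AlgebraicGeometry TopologicalSpace Opposite

noncomputable section

attribute [local instance] CategoryTheory.Abelian.hasFiniteBiproducts

namespace Groth.Agent.ExtShX

variable {X : Scheme.{u}}

theorem isEquivalence_ten_of_inverse {I L : X.Modules} (e : CohB1.tensorMod L I ≅ Coh.structureModule X) :
    (SheafHomX.ten I).IsEquivalence := by
  obtain ⟨c⟩ := H23.PicMul.comm I L
  exact (CategoryTheory.Equivalence.mk (AmpleVan.tw I) (AmpleVan.tw L)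
    (AmpleVan.twUnit.symm ≪≫ (DCoh.tensorBi (X := X)).flip.mapIso (c ≪≫ e).symm ≪≫ (AmpleVan.twComp I L).symm)
    (AmpleVan.twComp L I ≪≫ (DCoh.tensorBi (X := X)).flip.mapIso e ≪≫ AmpleVan.twUnit)).isEquivalence_functor

/-- `Ext¹` out of the quotient by an invertible submodule of `O`. -/
theorem nonempty_E_one_iso {S : ShortComplex X.Modules} (hS : S.ShortExact)
    (h2 : S.X₂ = Coh.structureModule X) {L : X.Modules} (e : CohB1.tensorMod L S.X₁ ≅ Coh.structureModule X)
    (ω : X.Modules) :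
    Nonempty ((E S.X₃ 1).obj ω ≅ CohB1.tensorMod S.X₃ (CohB1.tensorMod L ω)) := by
  haveI := hS.epi_g
  have hz : IsZero ((E S.X₂ 1).obj ω) := by
    rw [h2]
    exact isZero_of_isFinLocFree (H23.PullPush.isFinLocFree_of_isInvertible
      H23.InvStalk.isInvertible_structureModule) ω 0
  obtain ⟨c⟩ := coker_iso hS ω hz
  let H := (SheafHomX.hom S.X₂).obj ω
  let g := (SheafHomX.homMap S.f).app ω
  let T := SheafHomX.ten S.X₁
  haveI : T.IsEquivalence := isEquivalence_ten_of_inverse e
  haveI : (SheafHomX.ten S.X₂).IsEquivalence := by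
    rw [h2]; exact Functor.isEquivalence_of_iso (KFlatLib.tensorStructureIso X).symm
  haveI : IsIso ((SheafHomX.adj S.X₂).counit.app ω) := inferInstance
  haveI : IsIso ((SheafHomX.adj S.X₁).counit.app ω) := inferInstance
  let F := (DCoh.tensorBi (X := X)).obj H
  haveI : PreservesColimitsOfSize.{u, u} F :=
    ⟨fun {K} _ => preservesColimitsOfShape_of_natIso ((KFlatLib.tensorBiFlipIso X).app H)⟩
  have hd : T.map g ≫ (SheafHomX.adj S.X₁).counit.app ω = F.map S.f ≫ (SheafHomX.adj S.X₂).counit.app ω := by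
    have hd := SheafHomX.homEquiv_homMap S.f (𝟙 H) (N := ω)
    rw [Category.id_comp] at hd
    erw [Adjunction.homEquiv_counit, Adjunction.homEquiv_counit, CategoryTheory.Functor.map_id,
      Category.id_comp] at hd
    exact hd
  let u₂ : T.obj ((SheafHomX.hom S.X₁).obj ω) ≅ F.obj S.X₂ :=
    asIso ((SheafHomX.adj S.X₁).counit.app ω) ≪≫ (asIso ((SheafHomX.adj S.X₂).counit.app ω)).symm
  let e₁ : T.obj (cokernel g) ≅ cokernel (F.map S.f) :=
    PreservesCokernel.iso T g ≪≫ cokernel.mapIso (T.map g) (F.map S.f) (Iso.refl _) u₂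
      (by simp only [u₂, Iso.trans_hom, asIso_hom, Iso.symm_hom, asIso_inv, ← Category.assoc, hd]
          simp)
  let e₂ : cokernel (F.map S.f) ≅ F.obj S.X₃ := (PreservesCokernel.iso F S.f).symm ≪≫
    F.mapIso (IsColimit.coconePointUniqueUpToIso (colimit.isColimit _) hS.exact.gIsCokernel)
  let v : H ≅ ω := (eqToIso (congrArg (fun M => (SheafHomX.hom M).obj ω) h2)) ≪≫ homStructIso.app ω
  let e₃ : F.obj S.X₃ ≅ CohB1.tensorMod ω S.X₃ := ((DCoh.tensorBi (X := X)).mapIso v).app S.X₃
  let Z := CohB1.tensorMod ω S.X₃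
  let TL := AmpleVan.tw L
  let e₄ : T.obj (TL.obj Z) ≅ Z :=
    ((AmpleVan.twComp L S.X₁) ≪≫ (DCoh.tensorBi (X := X)).flip.mapIso e ≪≫ AmpleVan.twUnit).app Z
  obtain ⟨k₁⟩ := H23.PicMul.comm ω S.X₃
  obtain ⟨k₂⟩ := H23.PicMul.comm ω L
  exact ⟨c.symm ≪≫ T.preimageIso (e₁ ≪≫ e₂ ≪≫ e₃ ≪≫ e₄.symm) ≪≫ TL.mapIso k₁ ≪≫
    (AmpleVan.twComp ω L).app S.X₃ ≪≫ ((DCoh.tensorBi (X := X)).obj S.X₃).mapIso k₂⟩

theorem shortExact_toSubscheme (J : X.IdealSheafData) :
    (ShortComplex.mk (ClSub.idealModι J) (ClSub.toSubscheme J) (kernel.condition _)).ShortExact := by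
  haveI := CurvePoint.epi_toSubscheme J
  haveI : Mono (ClSub.idealModι J) := inferInstanceAs (Mono (kernel.ι _))
  exact { exact := ShortComplex.exact_of_f_is_kernel _ (kernelIsKernel _)
          mono_f := inferInstance
          epi_g := inferInstance }

theorem nonempty_push_iso_quotMod {D : Scheme.{u}} (i : D ⟶ X) [IsClosedImmersion i] :
    Nonempty ((Coh.push i).obj (Coh.structureModule D) ≅ ClSub.quotMod i.ker) := by
  let q := i.toImage
  haveI : IsIso (ClSub.unitToPush q) :=
    Scheme.Modules.Hom.isIso_iff_isIso_app.mpr fun U => by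
      rw [ConcreteCategory.isIso_iff_bijective]
      exact ConcreteCategory.bijective_of_isIso (q.app U)
  exact ⟨(eqToIso (congrArg (fun f => (Scheme.Modules.pushforward f).obj (Coh.structureModule D))
      i.toImage_imageι.symm)) ≪≫
    ((Scheme.Modules.pushforwardComp q i.imageι).app (Coh.structureModule D)).symm ≪≫
    (Scheme.Modules.pushforward i.imageι).mapIso (asIso (ClSub.unitToPush q)).symm⟩

end Groth.Agent.ExtShX
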