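import Groth.Agent.ExtShX.Local
import Groth.Agent.H23.SpClosed
import Groth.Agent.Alg6.LocLoc
import Groth.Agent.LC.ExtDim
import Groth.Agent.LC.PdRegular
import Groth.Agent.S14116
import Groth.Agent.CurveCohLib.SubBundle
import Groth.Agent.H23.TopDim
import Groth.Agent.VarDim.Top
import Groth.Agent.VarDim.Local
import Groth.Agent.SmoothReg.Scheme
import Groth.Agent.GrpSchLib.SmoothRegular
import Mathlib.Topology.JacobsonSpace

/-!
# Vanishing of local Ext sheaves below the codimension
-/

set_option linter.style.haveILetI false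
set_option linter.unusedSectionVars false
set_option backward.isDefEq.respectTransparency false
set_option backward.isDefEq.respectTransparency.types false
set_option maxHeartbeats 1000000

universe u

open CategoryTheory CategoryTheory.Limits AlgebraicGeometry TopologicalSpace Opposite

noncomputable section

namespace Groth.Agent.ExtShX

variable {P X : Scheme.{u}}

/-- Vanishing is tested at closed points. -/
theorem isZero_of_closedPoints [IsLocallyNoetherian P] [JacobsonSpace P] {M : P.Modules} (hM : Coh.IsCoh M)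
    (h : ∀ y : P, IsClosed ({y} : Set P) → Subsingleton (M.presheaf.stalk y)) : IsZero M := by
  refine CurveCohLib.isZero_of_subsingleton_stalks fun y => ?_
  by_contra hy
  obtain ⟨z, hz, hzc⟩ := nonempty_inter_closedPoints (Z := CohB1.support M) ⟨y, hy⟩
    (QCoh.isClosed_support_of_isFT hM.1 hM.2).isLocallyClosed
  exact hz (h z hzc)

variable (ι : X ⟶ P) [IsClosedImmersion ι]

/-- `Ext^i(O_X, E)` vanishes when `i` is below the codimension at all closed points. -/
theorem isZero_E_structure [IsLocallyNoetherian P] [JacobsonSpace P]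
    (hreg : ∀ p : P, IsRegularLocalRing (P.presheaf.stalk p)) {Ev : P.Modules} (hE : FlatMod.IsFinLocFree Ev)
    (i : ℕ)
    (h : ∀ x : X, IsClosed ({ι x} : Set P) → ∃ a b : ℕ, ringKrullDim (X.presheaf.stalk x) ≤ a ∧
      ringKrullDim (P.presheaf.stalk (ι x)) = b ∧ i + a < b) :
    IsZero ((E ((Coh.push ι).obj (Coh.structureModule X)) i).obj Ev) := by
  haveI : IsLocallyNoetherian X := LocallyOfFiniteType.isLocallyNoetherian ι
  have hO : Coh.IsCoh ((Coh.push ι).obj (Coh.structureModule X)) :=
    QCoh.isCoh_pushforward_finite ι QCoh.isCoh_structureModule'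
  have hEc : Coh.IsCoh Ev := QCoh.isCoh_iff_isFP.2 (QCoh.isFP_of_isFinLocFree hE)
  refine isZero_of_closedPoints (isCoh_E hO hEc i) fun y hy => ?_
  obtain ⟨e⟩ := exists_stalk_ext hO Ev y i
  refine @Equiv.subsingleton _ _ e.toEquiv ?_
  by_cases hr : y ∈ Set.range ι
  · obtain ⟨x, rfl⟩ := hr
    obtain ⟨a, b, ha, hb, hab⟩ := h x hy
    set R := P.presheaf.stalk (ι x)
    haveI : IsRegularLocalRing R := hreg (ι x)
    haveI := QCoh.finite_stalk_of_isFT hO.1 hO.2 (ι x)
    haveI := QCoh.finite_stalk_of_isFT hEc.1 hEc.2 (ι x)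
    haveI := QCoh.free_stalk_of_isFinLocFree hE (ι x)
    haveI := LC.gorenstein_of_isRegularLocalRing (R := R)
    haveI := LC.isCohenMacaulayLocalRing_of_gorenstein (R := R)
    refine LC.subsingleton_ext_of_add_lt_depth (R := R) (Ev.presheaf.stalk (ι x))
      (((Coh.push ι).obj (Coh.structureModule X)).presheaf.stalk (ι x)) a i ?_ ?_
    · letI : Module R ((Coh.structureModule X).presheaf.stalk x) := Module.compHom _ (ι.stalkMap x).hom
      obtain ⟨s⟩ := H23.SpClosed.nonempty_stalkEquiv ι (Coh.structureModule X) x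
      obtain ⟨t⟩ := H23.InvStalk.exists_stalk_equiv (X := X) InvX.isInvertible_structureModule x
      rw [Alg6.supportDim_eq_of_semilinear (ι.stalkMap x).hom (ι.stalkMap_surjective x)
        (s.toAddEquiv.trans t.toAddEquiv) fun c m => by
          show t (s (c • m)) = _
          rw [s.map_smul]
          exact t.map_smul ((ι.stalkMap x).hom c) (s m)]
      rw [Module.supportDim_self_eq_ringKrullDim]
      exact ha
    · have hd : LocCoh.depth R R = (b : ℕ∞) := by
        have := LocCoh.IsCohenMacaulayLocalRing.supportDim_eq_depth (R := R)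
        rw [Module.supportDim_self_eq_ringKrullDim, hb] at this
        exact_mod_cast this.symm
      refine lt_of_lt_of_le ?_ (S14116.depth_le_of_free R (Ev.presheaf.stalk (ι x)))
      rw [hd]
      exact_mod_cast hab
  · haveI : Subsingleton (((Coh.push ι).obj (Coh.structureModule X)).presheaf.stalk y) :=
      H23.ClosedPushLen.subsingleton_stalk ι _ hr
    have h0 : IsZero ((DerSch.stalkFunctor P y).obj ((Coh.push ι).obj (Coh.structureModule X))) :=
      ModuleCat.isZero_of_iff_subsingleton.2 this
    refine subsingleton_of_forall_eq 0 fun z => ?_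
    rw [← z.mk₀_id_comp, h0.eq_of_src (𝟙 _) 0, Abelian.Ext.mk₀_zero, Abelian.Ext.zero_comp]

/-- The dimension at a closed point of a scheme of pure dimension. -/
theorem dim_closedPoint {k : Type u} [Field k] (f : P ⟶ Spec (CommRingCat.of k)) [LocallyOfFiniteType f] {n : ℕ}
    (hP : ∀ Z : Set P, Z ∈ irreducibleComponents P → topologicalKrullDim Z = (n : WithBot ℕ∞)) {x : P}
    (hx : IsClosed ({x} : Set P)) : ringKrullDim (P.presheaf.stalk x) = n := by
  obtain ⟨b, hb, ⟨η, hη, hηb⟩, hle⟩ := VarDim.exists_deg_add_stalk f x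
  have h0 := (VarDim.closedPoint_iff_deg_eq_zero f x).1 hx
  have hdeg : ∀ y : P, ∃ g : P, g ⤳ y ∧ VarDim.deg f g = n := fun y => by
    obtain ⟨Z, hZ, hyZ⟩ := exists_mem_irreducibleComponents_subset_of_isIrreducible ({y} : Set P) isIrreducible_singleton
    have hZc := isClosed_of_mem_irreducibleComponents Z hZ
    obtain ⟨g, hg⟩ := QuasiSober.sober hZ.1 hZc
    refine ⟨g, hg.specializes (hyZ rfl), ?_⟩
    have h1 := VarDim.topologicalKrullDim_closure_singleton f g
    rw [hg.def, hP Z hZ] at h1
    exact_mod_cast h1.symm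
  rw [hb]
  congr 1
  refine le_antisymm ?_ ?_
  · obtain ⟨g, hg, hgn⟩ := hdeg η
    have h1 := VarDim.deg_le_of_specializes f hg
    have : b ≤ n := by omega
    exact_mod_cast this
  · obtain ⟨g, hg, hgn⟩ := hdeg x
    have h1 := hle g hg
    have : n ≤ b := by omega
    exact_mod_cast this

/-- Stalks are at most as big as the dimension of a scheme of pure dimension. -/
theorem dim_stalk_le {r : ℕ}
    (hX : ∀ Z : Set X, Z ∈ irreducibleComponents X → topologicalKrullDim Z = (r : WithBot ℕ∞)) (x : X) :
    topologicalKrullDim X ≤ r ∧ ringKrullDim (X.presheaf.stalk x) ≤ r := by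
  have h : topologicalKrullDim X ≤ r := by
    rw [H23.TopDim.dim_eq_iSup_irreducibleComponents]
    exact iSup₂_le fun Z hZ => (hX Z hZ).le
  exact ⟨h, (CurveCohLib.ringKrullDim_stalk_le_topologicalKrullDim x).trans h⟩

end Groth.Agent.ExtShX
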