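import Groth.Agent.ExtShX.KoszulGlobal
import Groth.Agent.KFlatLib.Scheme.ProjModule
import Groth.Agent.SpObjSS.SiteLeray
import Groth.Agent.AmpleVan.ThickPush
import Groth.Agent.RelTildeX.SheafCrit
import Groth.Agent.ExtPowSh.Functor

/-!
# `ℋom(ι_* E, -) ≅ ι_* ℋom(E, ι^! -)` along a closed immersion
-/

set_option autoImplicit false
set_option linter.style.haveILetI false
set_option linter.unusedSectionVars false
set_option backward.isDefEq.respectTransparency false
set_option backward.isDefEq.respectTransparency.types false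
set_option maxHeartbeats 1000000

universe u

open CategoryTheory CategoryTheory.Limits AlgebraicGeometry TopologicalSpace Opposite

noncomputable section

namespace Groth.Agent.ExtShX.ClosedHom

open Groth.Agent

variable {X P : Scheme.{u}} (ι : X ⟶ P) [IsClosedImmersion ι]

theorem epi_unit (M : X.Modules) : Epi ((Scheme.Modules.pullbackPushforwardAdjunction ι).unit.app
    ((Scheme.Modules.pushforward ι).obj M)) := by
  let F := (Scheme.Modules.pushforward ι).obj M
  let G := (Scheme.Modules.pullback ι).obj F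
  refine RelTildeX.epi_of_locally _ fun U t y hy => ?_
  by_cases hr : y ∈ Set.range ι.base
  · obtain ⟨x, rfl⟩ := hr
    obtain ⟨f₀, hf₀⟩ := bar_surjective ι F x (G.presheaf.germ (ι ⁻¹ᵁ U) x hy t)
    obtain ⟨V₀, hV₀, s, rfl⟩ := F.presheaf.exists_germ_eq (x := ι x) f₀
    rw [bar_germ] at hf₀
    obtain ⟨W, hxW, i₁, i₂, he⟩ := G.presheaf.germ_eq x hV₀ hy _ _ hf₀
    obtain ⟨O, hO, hOW⟩ := (IsClosedImmersion.base_closed (f := ι)).isInducing.isOpen_iff.1 W.2
    let Q : P.Opens := V₀ ⊓ U ⊓ ⟨O, hO⟩
    have hxQ : ι x ∈ Q := ⟨⟨hV₀, hy⟩, by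
      exact (Set.ext_iff.1 hOW x).2 hxW⟩
    have hQW : ι ⁻¹ᵁ Q ≤ W := fun z hz => by
      exact (Set.ext_iff.1 hOW z).1 hz.2
    refine ⟨Q, fun z hz => hz.1.2, hxQ, F.presheaf.map (homOfLE (fun z hz => hz.1.1 : Q ≤ V₀)).op s, ?_⟩
    refine (ExtPowSh.map_appL ((Scheme.Modules.pullbackPushforwardAdjunction ι).unit.app F)
      (fun z hz => hz.1.1 : Q ≤ V₀) s).symm.trans ?_
    show G.presheaf.map (homOfLE (ι.preimage_mono (fun z hz => hz.1.1 : Q ≤ V₀))).op (OmegaSh.pullSect ι F V₀ s) =
      G.presheaf.map (homOfLE (ι.preimage_mono (fun z hz => hz.1.2 : Q ≤ U))).op t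
    have he1 : AModX.res G i₁.le (OmegaSh.pullSect ι F V₀ s) = AModX.res G i₂.le t := he
    have he' := congrArg (AModX.res G hQW) he1
    rw [AModX.res_res, AModX.res_res] at he'
    exact he'
  · let Q : P.Opens := U ⊓ ⟨(Set.range ι.base)ᶜ, (IsClosedImmersion.base_closed (f := ι)).isClosed_range.isOpen_compl⟩
    refine ⟨Q, inf_le_left, ⟨hy, hr⟩, 0, ?_⟩
    have hbot : ι ⁻¹ᵁ Q = ⊥ := le_bot_iff.1 fun z hz => (hz.2 ⟨z, rfl⟩).elim
    haveI : Subsingleton Γ(G, ι ⁻¹ᵁ Q) := ⟨fun a b => AModX.eq_of_locally _ _ fun z hz => absurd (hbot.le hz) (by simp)⟩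
    exact Subsingleton.elim (α := Γ(G, ι ⁻¹ᵁ Q)) _ _

theorem isIso_counit (M : X.Modules) :
    IsIso ((Scheme.Modules.pullbackPushforwardAdjunction ι).counit.app M) := by
  let a := Scheme.Modules.pullbackPushforwardAdjunction ι
  haveI := epi_unit ι M
  haveI : IsSplitMono (a.unit.app ((Scheme.Modules.pushforward ι).obj M)) :=
    ⟨⟨⟨(Scheme.Modules.pushforward ι).map (a.counit.app M), a.right_triangle_components M⟩⟩⟩
  haveI : IsIso (a.unit.app ((Scheme.Modules.pushforward ι).obj M)) := isIso_of_mono_of_epi _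
  haveI : IsIso ((Scheme.Modules.pushforward ι).map (a.counit.app M)) := by
    haveI : IsIso (a.unit.app ((Scheme.Modules.pushforward ι).obj M) ≫
        (Scheme.Modules.pushforward ι).map (a.counit.app M)) := by
      rw [a.right_triangle_components]; infer_instance
    exact IsIso.of_isIso_comp_left (a.unit.app ((Scheme.Modules.pushforward ι).obj M)) _
  exact AmpleVan.isIso_of_push ι _

/-- The direct image along a closed immersion is fully faithful on all modules. -/
def fullyFaithful : (Scheme.Modules.pushforward ι).FullyFaithful :=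
  haveI : IsIso (Scheme.Modules.pullbackPushforwardAdjunction ι).counit :=
    (NatTrans.isIso_iff_isIso_app _).2 (isIso_counit ι)
  (Scheme.Modules.pullbackPushforwardAdjunction ι).fullyFaithfulROfIsIsoCounit

theorem isLeftAdjoint_push : (Scheme.Modules.pushforward ι).IsLeftAdjoint := by
  haveI : PreservesColimitsOfSize.{u, u} (Scheme.Modules.pushforward ι) :=
    ⟨fun {K} _ => KFlatLib.preservesColimitsOfShape_push ι K⟩
  haveI : WellPowered.{u} X.Modules := inferInstance
  exact isLeftAdjoint_of_preservesColimits_of_isSeparating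
    (P := ObjectProperty.singleton (separator X.Modules)) (isSeparator_separator _) _

/-- `ι^!` on modules. -/
def shriek : P.Modules ⥤ X.Modules :=
  haveI := isLeftAdjoint_push ι
  (Scheme.Modules.pushforward ι).rightAdjoint

/-- The adjunction `ι_* ⊣ ι^!`. -/
def shriekAdj : Scheme.Modules.pushforward ι ⊣ shriek ι :=
  haveI := isLeftAdjoint_push ι
  Adjunction.ofIsLeftAdjoint (Scheme.Modules.pushforward ι)

instance preservesLimits_push : PreservesLimitsOfSize.{0, 0} (Scheme.Modules.pushforward ι) :=
  (Scheme.Modules.pullbackPushforwardAdjunction ι).rightAdjoint_preservesLimits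

instance preservesFiniteLimits_push : PreservesFiniteLimits (Scheme.Modules.pushforward ι) :=
  PreservesLimitsOfSize.preservesFiniteLimits _

instance preservesFiniteColimits_push : PreservesFiniteColimits (Scheme.Modules.pushforward ι) :=
  haveI : PreservesColimitsOfSize.{0, 0} (Scheme.Modules.pushforward ι) := (shriekAdj ι).leftAdjoint_preservesColimits
  PreservesColimitsOfSize.preservesFiniteColimits _

instance additive_push : (Scheme.Modules.pushforward ι).Additive := Functor.additive_of_preserves_binary_products _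

instance additive_shriek : (shriek ι).Additive := (shriekAdj ι).right_adjoint_additive

/-- `ℋom(E, ι^! -)`. -/
def homShriek (E : X.Modules) : P.Modules ⥤ X.Modules := shriek ι ⋙ SheafHomX.hom E

/-- `- ⊗ E`, then `ι_*`, is left adjoint to `ℋom(E, ι^! -)`. -/
def homShriekAdj (E : X.Modules) : SheafHomX.ten E ⋙ Scheme.Modules.pushforward ι ⊣ homShriek ι E :=
  (SheafHomX.adj E).comp (shriekAdj ι)

instance additive_homShriek (E : X.Modules) : (homShriek ι E).Additive :=
  (homShriekAdj ι E).right_adjoint_additive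

theorem projection (E : X.Modules) :
    Nonempty (Scheme.Modules.pullback ι ⋙ SheafHomX.ten E ⋙ Scheme.Modules.pushforward ι ≅
      SheafHomX.ten ((Scheme.Modules.pushforward ι).obj E)) := by
  haveI := fun N => KFlatLib.isIso_projMod_of_isClosedImmersion ι E N
  let pr : DCoh.tensorBi.obj ((Scheme.Modules.pushforward ι).obj E) ≅
      Scheme.Modules.pullback ι ⋙ DCoh.tensorBi.obj E ⋙ Scheme.Modules.pushforward ι :=
    NatIso.ofComponents (fun N => asIso (KFlatLib.projMod ι E N))
      fun g => KFlatLib.projMod_naturality_right ι E g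
  exact ⟨Functor.isoWhiskerLeft (Scheme.Modules.pullback ι)
      (Functor.isoWhiskerRight ((KFlatLib.tensorBiFlipIso X).app E) (Scheme.Modules.pushforward ι)) ≪≫
    pr.symm ≪≫ ((KFlatLib.tensorBiFlipIso P).app ((Scheme.Modules.pushforward ι).obj E)).symm⟩

/-- `ℋom(ι_* E, -) ≅ ι_* ℋom(E, ι^! -)`. -/
theorem nonempty_hom_iso (E : X.Modules) :
    Nonempty (SheafHomX.hom ((Scheme.Modules.pushforward ι).obj E) ≅
      homShriek ι E ⋙ Scheme.Modules.pushforward ι) := by
  obtain ⟨τ⟩ := projection ι E
  exact ⟨(SheafHomX.adj _).rightAdjointUniq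
    (((Scheme.Modules.pullbackPushforwardAdjunction ι).comp (homShriekAdj ι E)).ofNatIsoLeft τ)⟩

theorem injective_homShriek {E : X.Modules} (hE : FlatMod.IsFinLocFree E) (Q : P.Modules) [Injective Q] :
    Injective ((homShriek ι E).obj Q) := by
  haveI : (SheafHomX.ten E).PreservesMonomorphisms := ⟨fun {A B} f _ => by
    have hS := CurveTensor.shortExact_tensor hE f (cokernel.π f) (cokernel.condition f)
      (ShortComplex.ShortExact.mk' (ShortComplex.exact_of_g_is_cokernel _ (cokernelIsCokernel f)) ‹_› inferInstance)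
    haveI : Mono ((DCoh.tensorBi.obj E).map f) := hS.mono_f
    rw [← NatIso.naturality_2 ((KFlatLib.tensorBiFlipIso X).app E) f]
    infer_instance⟩
  haveI : (Scheme.Modules.pushforward ι).PreservesMonomorphisms := inferInstance
  exact Injective.injective_of_adjoint (homShriekAdj ι E) Q

theorem nonempty_derived_iso (E : X.Modules) (G : P.Modules) [HasInjectiveResolutions P.Modules]
    [EnoughInjectives P.Modules] (q : ℕ) :
    Nonempty ((Scheme.Modules.pushforward ι).obj (((homShriek ι E).rightDerived q).obj G) ≅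
      (ExtShX.E ((Scheme.Modules.pushforward ι).obj E) q).obj G) := by
  obtain ⟨e⟩ := nonempty_hom_iso ι E
  exact ⟨((SiteBase.rightDerivedCompIso (homShriek ι E) (Scheme.Modules.pushforward ι) q).app G).symm ≪≫
    (SiteBase.rightDerivedCongr e.symm q).app G⟩

end Groth.Agent.ExtShX.ClosedHom
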