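import Groth.Agent.ExtShX.Flasque
import Groth.Agent.KFlatLib.Scheme.TensorAssoc
import Groth.Agent.SheafHomX.Coherent
import Groth.Agent.AmpleVan.Tw

/-!
# `G ⊗ Hom(L, O) = Hom(L, G)` for `L` finite locally free
-/

set_option linter.style.haveILetI false
set_option linter.unusedSectionVars false
set_option backward.isDefEq.respectTransparency false
set_option backward.isDefEq.respectTransparency.types false
set_option maxHeartbeats 1000000

universe u

open CategoryTheory CategoryTheory.Limits AlgebraicGeometry TopologicalSpace Opposite MonoidalCategory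

noncomputable section

attribute [local instance] CategoryTheory.Abelian.hasFiniteBiproducts

namespace Groth.Agent.ExtShX

variable {X : Scheme.{u}}

local notation "T" => DCoh.tensorBi (X := X)

theorem isIso_stalk_whisker (G : X.Modules) {A B : X.Modules} (f : A ⟶ B) (x : X)
    [IsIso ((DerSch.stalkFunctor X x).map f)] :
    IsIso ((DerSch.stalkFunctor X x).map (((T).obj G).map f)) := by
  have h := KFlatLib.stalkTensorIso_naturality (x := x) (𝟙 G) f
  simp only [CategoryTheory.Functor.map_id, NatTrans.id_app] at h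
  erw [Category.id_comp] at h
  rw [← Iso.inv_comp_eq] at h
  rw [← h]
  infer_instance

theorem isIso_stalk_of_restrict {U : X.Opens} {M N : X.Modules} (φ : M ⟶ N)
    [IsIso ((Scheme.Modules.restrictFunctor U.ι).map φ)] {x : X} (hx : x ∈ U) :
    IsIso ((DerSch.stalkFunctor X x).map φ) := by
  have hb := ConcreteCategory.bijective_of_isIso
    ((DerSch.stalkFunctor (U : Scheme.{u}) ⟨x, hx⟩).map ((Scheme.Modules.restrictFunctor U.ι).map φ))
  exact (ConcreteCategory.isIso_iff_bijective _).2
    ⟨KFlatLib.injective_stalk_of_restrict U.ι _ ⟨x, hx⟩ hb.1, KFlatLib.surjective_stalk_of_restrict U.ι _ ⟨x, hx⟩ hb.2⟩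

/-- A map invertible on `U` induces maps of internal Homs invertible on `U`. -/
theorem isIso_restrict_homMap {U : X.Opens} {M M' : X.Modules} (g : M ⟶ M')
    (hg : ∀ x ∈ U, IsIso ((DerSch.stalkFunctor X x).map g)) (G : X.Modules) :
    IsIso ((Scheme.Modules.restrictFunctor U.ι).map ((SheafHomX.homMap g).app G)) := by
  refine isIso_of_yoneda_map_bijective _ fun Z => ?_
  let A := KFlatLib.lshAdj U.ι
  let P := (KFlatLib.lsh U.ι).obj Z
  let t : (SheafHomX.ten M).obj P ⟶ (SheafHomX.ten M').obj P := ((T).flip.map g).app P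
  haveI : IsIso t := KFlatLib.isIso_of_stalk _ fun x => by
    by_cases hx : x ∈ U
    · haveI := hg x hx
      exact isIso_stalk_whisker P g x
    · have h : ∀ Q : X.Modules, IsZero ((DerSch.stalkFunctor X x).obj (((T).obj P).obj Q)) := fun Q =>
        KFlatLib.isZero_stalk_tensor_left x _ _ (KFlatLib.isZero_stalk_lsh U.ι x
          (fun h => hx (by rw [Scheme.Opens.range_ι] at h; exact h)) _)
      exact ⟨⟨0, (h M).eq_of_src _ _, (h M').eq_of_src _ _⟩⟩
  let e : (Z ⟶ (Scheme.Modules.restrictFunctor U.ι).obj ((SheafHomX.hom M').obj G)) ≃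
      (Z ⟶ (Scheme.Modules.restrictFunctor U.ι).obj ((SheafHomX.hom M).obj G)) :=
    (A.homEquiv _ _).symm.trans (((SheafHomX.adj M').homEquiv _ _).symm.trans
      ((asIso t).homFromEquiv.symm.trans (((SheafHomX.adj M).homEquiv _ _).trans (A.homEquiv _ _))))
  refine (congrArg Function.Bijective (funext fun ξ => ?_)).mpr e.bijective
  apply (A.homEquiv _ _).symm.injective
  refine Eq.trans ?_ (Equiv.symm_apply_apply _ _).symm
  rw [Adjunction.homEquiv_naturality_right_symm]
  refine SheafHomX.hom_ext ?_
  rw [SheafHomX.homEquiv_homMap, Equiv.symm_apply_apply]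
  rfl

/-- `G ⊗ Hom(L, O) ⊗ L ⟶ G`. -/
def beta (G L : X.Modules) :
    ((T).obj (((T).obj G).obj ((SheafHomX.hom L).obj (Coh.structureModule X)))).obj L ⟶ G :=
  (((KFlatLib.tensorAssocSch X).app G).app ((SheafHomX.hom L).obj (Coh.structureModule X))).hom.app L ≫
    ((T).obj G).map ((SheafHomX.adj L).counit.app (Coh.structureModule X)) ≫ AmpleVan.twUnit.hom.app G

/-- `G ⊗ Hom(L, O) ⟶ Hom(L, G)`. -/
def alpha (G L : X.Modules) :
    ((T).obj G).obj ((SheafHomX.hom L).obj (Coh.structureModule X)) ⟶ (SheafHomX.hom L).obj G :=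
  (SheafHomX.adj L).homEquiv _ _ (beta G L)

theorem alpha_natural (G : X.Modules) {L L' : X.Modules} (g : L' ⟶ L) :
    ((T).obj G).map ((SheafHomX.homMap g).app (Coh.structureModule X)) ≫ alpha G L' =
      alpha G L ≫ (SheafHomX.homMap g).app G := by
  refine SheafHomX.hom_ext ?_
  rw [SheafHomX.homEquiv_homMap, alpha, alpha, Equiv.symm_apply_apply, Adjunction.homEquiv_naturality_left_symm,
    Equiv.symm_apply_apply]
  let O := Coh.structureModule X
  let H := (SheafHomX.hom L).obj O
  let H' := (SheafHomX.hom L').obj O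
  let η : H ⟶ H' := (SheafHomX.homMap g).app O
  have hd : ((T).map η).app L' ≫ (SheafHomX.adj L').counit.app O =
      ((T).obj H).map g ≫ (SheafHomX.adj L).counit.app O := by
    have hd := SheafHomX.homEquiv_homMap g (𝟙 H) (N := O)
    rw [Category.id_comp] at hd
    erw [Adjunction.homEquiv_counit, Adjunction.homEquiv_counit, CategoryTheory.Functor.map_id,
      Category.id_comp] at hd
    exact hd
  let A := (KFlatLib.tensorAssocSch X).hom.app G
  have a1 : ((T).map (((T).obj G).map η)).app L' ≫ (A.app H').app L' =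
      (A.app H).app L' ≫ ((T).obj G).map (((T).map η).app L') :=
    NatTrans.congr_app (A.naturality η) L'
  have a2 : ((T).obj (((T).obj G).obj H)).map g ≫ (A.app H).app L =
      (A.app H).app L' ≫ ((T).obj G).map (((T).obj H).map g) := (A.app H).naturality g
  show ((T).map (((T).obj G).map η)).app L' ≫ (A.app H').app L' ≫
      ((T).obj G).map ((SheafHomX.adj L').counit.app O) ≫ AmpleVan.twUnit.hom.app G =
    ((T).obj (((T).obj G).obj H)).map g ≫ (A.app H).app L ≫
      ((T).obj G).map ((SheafHomX.adj L).counit.app O) ≫ AmpleVan.twUnit.hom.app G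
  rw [reassoc_of% a1, reassoc_of% a2, ← Functor.map_comp_assoc, ← Functor.map_comp_assoc, hd]

instance isIso_alpha_unit (G : X.Modules) : IsIso (alpha G (Coh.structureModule X)) := by
  haveI : (SheafHomX.ten (Coh.structureModule X)).IsEquivalence :=
    Functor.isEquivalence_of_iso (KFlatLib.tensorStructureIso X).symm
  haveI : IsIso ((SheafHomX.adj (Coh.structureModule X)).counit.app (Coh.structureModule X)) := inferInstance
  haveI : IsIso ((SheafHomX.adj (Coh.structureModule X)).unit.app
      (((T).obj G).obj ((SheafHomX.hom (Coh.structureModule X)).obj (Coh.structureModule X)))) := inferInstance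
  haveI : IsIso (beta G (Coh.structureModule X)) := by rw [beta]; infer_instance
  rw [alpha, Adjunction.homEquiv_unit]
  infer_instance

theorem isIso_stalk_alpha_iff (G : X.Modules) {U : X.Opens} {L L' : X.Modules} (g : L' ⟶ L)
    (hg : ∀ x ∈ U, IsIso ((DerSch.stalkFunctor X x).map g)) {x : X} (hx : x ∈ U) :
    IsIso ((DerSch.stalkFunctor X x).map (alpha G L')) ↔ IsIso ((DerSch.stalkFunctor X x).map (alpha G L)) := by
  let σ := DerSch.stalkFunctor X x
  haveI := isIso_restrict_homMap g hg G
  haveI := isIso_restrict_homMap g hg (Coh.structureModule X)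
  haveI : IsIso (σ.map ((SheafHomX.homMap g).app G)) := isIso_stalk_of_restrict _ hx
  haveI : IsIso (σ.map ((SheafHomX.homMap g).app (Coh.structureModule X))) := isIso_stalk_of_restrict _ hx
  haveI := isIso_stalk_whisker G ((SheafHomX.homMap g).app (Coh.structureModule X)) x
  have h := congrArg σ.map (alpha_natural G g)
  rw [Functor.map_comp, Functor.map_comp] at h
  constructor <;> intro hi
  · haveI : IsIso (σ.map (alpha G L) ≫ σ.map ((SheafHomX.homMap g).app G)) := h ▸ inferInstance
    exact IsIso.of_isIso_comp_right _ (σ.map ((SheafHomX.homMap g).app G))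
  · haveI : IsIso (σ.map (((T).obj G).map ((SheafHomX.homMap g).app (Coh.structureModule X))) ≫
      σ.map (alpha G L')) := h.symm ▸ inferInstance
    exact IsIso.of_isIso_comp_left (σ.map (((T).obj G).map ((SheafHomX.homMap g).app (Coh.structureModule X)))) _

theorem isIso_stalk_alpha_of_decomposition (G : X.Modules) {L : X.Modules} {ι : Type} [Fintype ι]
    (S : ι → X.Modules) (p : ∀ a, L ⟶ S a) (q : ∀ a, S a ⟶ L) (h : ∑ a, p a ≫ q a = 𝟙 L) (x : X)
    (hS : ∀ a, IsIso ((DerSch.stalkFunctor X x).map (alpha G (S a)))) :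
    IsIso ((DerSch.stalkFunctor X x).map (alpha G L)) := by
  let σ := DerSch.stalkFunctor X x
  let O := Coh.structureModule X
  haveI : ((T).obj G).Additive := Functor.additive_of_preserves_binary_products _
  have hsum : ∀ N : X.Modules, ∑ a, (SheafHomX.homMap (q a)).app N ≫ (SheafHomX.homMap (p a)).app N = 𝟙 _ := by
    intro N
    simp only [← SheafHomX.homMap_comp]
    show (∑ a, SheafHomX.homMapHom L L N (p a ≫ q a)) = _
    rw [← map_sum (SheafHomX.homMapHom L L N) (fun a => p a ≫ q a), h]
    exact SheafHomX.homMap_id L N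
  have nat : ∀ {A B : X.Modules} (g : A ⟶ B), σ.map (((T).obj G).map ((SheafHomX.homMap g).app O)) ≫
      σ.map (alpha G A) = σ.map (alpha G B) ≫ σ.map ((SheafHomX.homMap g).app G) := fun g => by
    rw [← Functor.map_comp, ← Functor.map_comp, alpha_natural]
  refine ⟨⟨∑ a, σ.map ((SheafHomX.homMap (q a)).app G) ≫ (@inv _ _ _ _ (σ.map (alpha G (S a))) (hS a)) ≫
    σ.map (((T).obj G).map ((SheafHomX.homMap (p a)).app O)), ?_, ?_⟩⟩
  · rw [Preadditive.comp_sum]
    refine Eq.trans (Finset.sum_congr rfl fun a _ => ?_) (show (∑ a, σ.map (((T).obj G).map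
      ((SheafHomX.homMap (q a)).app O ≫ (SheafHomX.homMap (p a)).app O))) = 𝟙 _ from ?_)
    · haveI := hS a
      rw [← Category.assoc, ← nat, Category.assoc, IsIso.hom_inv_id_assoc, ← Functor.map_comp, ← Functor.map_comp]
    · rw [← Functor.map_sum, ← Functor.map_sum, hsum, CategoryTheory.Functor.map_id, CategoryTheory.Functor.map_id]
  · rw [Preadditive.sum_comp]
    refine Eq.trans (Finset.sum_congr rfl fun a _ => ?_) (show (∑ a, σ.map
      ((SheafHomX.homMap (q a)).app G ≫ (SheafHomX.homMap (p a)).app G)) = 𝟙 _ from ?_)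
    · haveI := hS a
      rw [Category.assoc, Category.assoc, nat, IsIso.inv_hom_id_assoc, ← Functor.map_comp]
    · rw [← Functor.map_sum, hsum, CategoryTheory.Functor.map_id]

/-- `G ⊗ L^∨ ≅ Hom(L, G)`. -/
theorem isIso_alpha {L : X.Modules} (hL : FlatMod.IsFinLocFree L) (G : X.Modules) : IsIso (alpha G L) := by
  classical
  refine KFlatLib.isIso_of_stalk _ fun x => ?_
  obtain ⟨U, n, hx, ⟨e⟩⟩ := hL x
  let R := Scheme.Modules.restrictFunctor U.ι
  let lsh := KFlatLib.lsh U.ι
  haveI : lsh.Additive := by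
    haveI : PreservesColimits lsh := (KFlatLib.lshAdj U.ι).leftAdjoint_preservesColimits
    exact Functor.additive_of_preserves_binary_products _
  refine (isIso_stalk_alpha_iff G ((KFlatLib.lshAdj U.ι).counit.app L)
    (fun y hy => KFlatLib.isIso_stalk_lsh_counit U L y hy) hx).1 ?_
  let O' := Coh.structureModule (U : Scheme.{u})
  let p : ∀ a : Fin n, R.obj L ⟶ O' := fun a =>
    e.hom ≫ Sigma.desc (fun b => if b = a then 𝟙 O' else 0)
  let q : ∀ a : Fin n, O' ⟶ R.obj L := fun a => Sigma.ι (fun _ : Fin n => O') a ≫ e.inv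
  have hpq : ∑ a, p a ≫ q a = 𝟙 (R.obj L) := by
    simp only [p, q, Category.assoc]
    rw [← Preadditive.comp_sum, ← cancel_mono e.hom, Category.assoc, Category.id_comp]
    conv_rhs => rw [← Category.comp_id e.hom]
    congr 1
    refine Sigma.hom_ext _ _ fun b => ?_
    rw [Preadditive.sum_comp, Preadditive.comp_sum]
    simp [colimit.ι_desc_assoc, ite_comp]
    exact Category.id_comp _
  refine isIso_stalk_alpha_of_decomposition G (fun _ : Fin n => lsh.obj O') (fun a => lsh.map (p a))
    (fun a => lsh.map (q a)) ?_ x fun _ => ?_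
  · rw [show (∑ a, lsh.map (p a) ≫ lsh.map (q a)) = lsh.map (∑ a, p a ≫ q a) by
      rw [Functor.map_sum]; exact Finset.sum_congr rfl fun a _ => (Functor.map_comp _ _ _).symm, hpq,
      CategoryTheory.Functor.map_id]
  · exact (isIso_stalk_alpha_iff G (openIncl U) (fun y hy => isIso_stalk_openIncl U y hy) hx).2 inferInstance

/-- `Hom(L, G) ≅ G ⊗ Hom(L, O)`. -/
def dualTensorIso {L : X.Modules} (hL : FlatMod.IsFinLocFree L) (G : X.Modules) :
    CohB1.tensorMod G ((SheafHomX.hom L).obj (Coh.structureModule X)) ≅ (SheafHomX.hom L).obj G :=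
  haveI := isIso_alpha hL G
  asIso (alpha G L)

end Groth.Agent.ExtShX
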