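import Groth.Agent.ExtShX.Affine
import Groth.Agent.SiteBase.ExtCompare
import Groth.Agent.CurveCohLib.Proper

/-!
# Local Ext sheaves on locally Noetherian schemes
-/

set_option linter.style.haveILetI false
set_option linter.unusedSectionVars false
set_option backward.isDefEq.respectTransparency false
set_option backward.isDefEq.respectTransparency.types false
set_option maxHeartbeats 1000000

universe u

open CategoryTheory CategoryTheory.Limits AlgebraicGeometry TopologicalSpace Opposite

noncomputable section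

namespace Groth.Agent.ExtShX

variable {X : Scheme.{u}}

/-- Local Ext sheaves of coherent modules are coherent. -/
theorem isCoh_E [IsLocallyNoetherian X] {F G : X.Modules} (hF : Coh.IsCoh F) (hG : Coh.IsCoh G) (i : ℕ) :
    Coh.IsCoh ((E F i).obj G) := by
  have hloc : ∀ (A : CommRingCat.{u}) (j : Spec A ⟶ X) [IsOpenImmersion j],
      Coh.IsCoh (((E F i).obj G).restrict j) := fun A j _ => by
    haveI : IsLocallyNoetherian (Spec A) := LocallyOfFiniteType.isLocallyNoetherian j
    haveI : IsNoetherianRing A := isLocallyNoetherian_Spec.1 ‹_›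
    obtain ⟨e⟩ := restrict_iso j F G i
    exact SheafHomX.isCoh_of_iso e.symm
      (isCoh_affine (SheafHomX.isCoh_restrict j hG) i (SheafHomX.isCoh_restrict j hF))
  have hq : Coh.IsQCoh ((E F i).obj G) := QCoh.isQCoh_of_charts fun A j _ => (hloc A j).1
  refine QCoh.isCoh_iff.2 ⟨hq, fun U => ?_⟩
  haveI : Module.Finite Γ(X, U.1) (moduleSpecΓFunctor.obj (((E F i).obj G).restrict U.2.fromSpec)) :=
    (QCoh.isFT_iff_finite (R := Γ(X, U.1)) _ (hloc _ U.2.fromSpec).1).1 (hloc _ U.2.fromSpec).2
  exact Module.Finite.equiv (QCoh.chartEquiv U.2 ((E F i).obj G)).symm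

variable {U : Scheme.{u}} (j : U ⟶ X) [IsOpenImmersion j] (u : U)

/-- The local rings of an open subscheme. -/
def ringEquiv : X.presheaf.stalk (j u) ≃+* U.presheaf.stalk u :=
  (asIso (j.stalkMap u)).commRingCatIsoToRingEquiv

/-- Stalks of restrictions. -/
theorem exists_stalk_restrict (M : X.Modules) :
    ∃ e : (M.restrict j).presheaf.stalk u ≃+ M.presheaf.stalk (j u),
      ∀ (a : U.presheaf.stalk u) (m : (M.restrict j).presheaf.stalk u),
        e (a • m) = (ringEquiv j u).symm a • e m := by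
  let e : (M.restrict j).presheaf.stalk u ≃+ M.presheaf.stalk (j u) :=
    ((Scheme.Modules.restrictStalkNatIso j u).app M).addCommGroupIsoToAddEquiv
  have he : ∀ (W : U.Opens) (hW : u ∈ W) (v : Γ(M.restrict j, W)),
      e ((M.restrict j).presheaf.germ W u hW v) = M.presheaf.germ (j ''ᵁ W) (j u) ⟨u, hW, rfl⟩ v := fun W hW v =>
    congrArg (fun φ => φ v) (Scheme.Modules.germ_restrictStalkNatIso_hom_app j u M hW)
  refine ⟨e, fun a m => ?_⟩
  obtain ⟨V, hV, c, rfl⟩ := U.presheaf.exists_germ_eq (x := u) a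
  obtain ⟨W, hW, v, rfl⟩ := (M.restrict j).presheaf.exists_germ_eq (x := u) m
  have hu : u ∈ V ⊓ W := ⟨hV, hW⟩
  rw [← U.presheaf.germ_res_apply (homOfLE inf_le_left : V ⊓ W ⟶ V) u hu c,
    ← (M.restrict j).presheaf.germ_res_apply (homOfLE inf_le_right : V ⊓ W ⟶ W) u hu v]
  generalize U.presheaf.map (homOfLE inf_le_left : V ⊓ W ⟶ V).op c = c'
  generalize (M.restrict j).presheaf.map (homOfLE inf_le_right : V ⊓ W ⟶ W).op v = v'
  have hsym : (ringEquiv j u).symm (U.presheaf.germ (V ⊓ W) u hu c') =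
      X.presheaf.germ (j ''ᵁ (V ⊓ W)) (j u) ⟨u, hu, rfl⟩ ((j.appIso (V ⊓ W)).inv c') := by
    apply (ringEquiv j u).injective
    rw [RingEquiv.apply_symm_apply]
    show _ = j.stalkMap u _
    rw [Scheme.Hom.germ_stalkMap_apply, ← CommRingCat.comp_apply ((j.appIso _).inv), Scheme.Hom.appIso_inv_app]
    exact (U.presheaf.germ_res_apply _ _ _ c').symm
  rw [← QCoh.germ_smul' (M.restrict j) hu, he, he, hsym]
  exact QCoh.germ_smul' M (show j u ∈ j ''ᵁ (V ⊓ W) from ⟨u, hu, rfl⟩) ((j.appIso (V ⊓ W)).inv c') v'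

/-- Stalks of restrictions, as modules over the local ring of the ambient scheme. -/
theorem exists_stalk_iso (M : X.Modules) :
    Nonempty ((ModuleCat.restrictScalarsEquivalenceOfRingEquiv (ringEquiv j u)).functor.obj
      ((DerSch.stalkFunctor U u).obj (M.restrict j)) ≅ (DerSch.stalkFunctor X (j u)).obj M) := by
  obtain ⟨e, he⟩ := exists_stalk_restrict j u M
  exact ⟨LinearEquiv.toModuleIso ({ e with
    map_smul' := fun r m => (he (ringEquiv j u r) m).trans (by rw [RingEquiv.symm_apply_apply]; rfl) } :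
      ((ModuleCat.restrictScalarsEquivalenceOfRingEquiv (ringEquiv j u)).functor.obj
        ((DerSch.stalkFunctor U u).obj (M.restrict j))) ≃ₗ[X.presheaf.stalk (j u)]
        ((DerSch.stalkFunctor X (j u)).obj M))⟩

/-- `Ext` of the stalks does not see the passage to an open subscheme. -/
theorem exists_ext_restrict (F G : X.Modules) (i : ℕ) :
    Nonempty (Abelian.Ext ((DerSch.stalkFunctor U u).obj (F.restrict j))
        ((DerSch.stalkFunctor U u).obj (G.restrict j)) i ≃+
      Abelian.Ext ((DerSch.stalkFunctor X (j u)).obj F) ((DerSch.stalkFunctor X (j u)).obj G) i) := by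
  let Q := ModuleCat.restrictScalarsEquivalenceOfRingEquiv (ringEquiv j u)
  obtain ⟨ψF⟩ := exists_stalk_iso j u F
  obtain ⟨ψG⟩ := exists_stalk_iso j u G
  haveI : Q.functor.Additive := Functor.additive_of_preserves_binary_products _
  haveI : Q.inverse.IsEquivalence := Q.isEquivalence_inverse
  haveI : Q.functor.IsEquivalence := Q.isEquivalence_functor
  haveI : Q.symm.inverse.Additive := inferInstanceAs Q.functor.Additive
  haveI : Q.symm.inverse.IsEquivalence := inferInstanceAs Q.functor.IsEquivalence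
  haveI : Q.symm.functor.IsEquivalence := inferInstanceAs Q.inverse.IsEquivalence
  obtain ⟨e⟩ := SiteBase.nonempty_ext_addEquiv_of_adjunction Q.symm.toAdjunction
    (show Q.inverse.obj ((DerSch.stalkFunctor X (j u)).obj F) ≅ (DerSch.stalkFunctor U u).obj (F.restrict j) from
      Q.inverse.mapIso ψF.symm ≪≫ (Q.unitIso.app _).symm) i ((DerSch.stalkFunctor U u).obj (G.restrict j))
  exact ⟨e.trans (((Abelian.extFunctorObj ((DerSch.stalkFunctor X (j u)).obj F) i).mapIso ψG).addCommGroupIsoToAddEquiv)⟩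

/-- Stalks of local Ext sheaves of coherent modules. -/
theorem exists_stalk_ext [IsLocallyNoetherian X] {F : X.Modules} (hF : Coh.IsCoh F) (G : X.Modules) (x : X)
    (i : ℕ) : Nonempty (((E F i).obj G).presheaf.stalk x ≃+
      Abelian.Ext ((DerSch.stalkFunctor X x).obj F) ((DerSch.stalkFunctor X x).obj G) i) := by
  obtain ⟨V, hV, hx, -⟩ := exists_isAffineOpen_mem_and_subset (TopologicalSpace.Opens.mem_top x)
  obtain ⟨u, rfl⟩ : x ∈ Set.range hV.fromSpec := by rw [hV.range_fromSpec]; exact hx
  haveI : IsLocallyNoetherian (Spec Γ(X, V)) := LocallyOfFiniteType.isLocallyNoetherian hV.fromSpec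
  haveI : IsNoetherianRing Γ(X, V) := isLocallyNoetherian_Spec.1 ‹_›
  obtain ⟨r⟩ := restrict_iso hV.fromSpec F G i
  obtain ⟨a⟩ := exists_stalk_ext_affine u (G.restrict hV.fromSpec) i (SheafHomX.isCoh_restrict hV.fromSpec hF)
  obtain ⟨b⟩ := exists_ext_restrict hV.fromSpec u F G i
  obtain ⟨c, -⟩ := exists_stalk_restrict hV.fromSpec u ((E F i).obj G)
  exact ⟨(c.symm.trans (((DerSch.stalkFunctor _ u).mapIso r).toLinearEquiv.trans a).toAddEquiv).trans b⟩

/-- Vanishing of local Ext sheaves is vanishing of Ext of stalks. -/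
theorem isZero_E_iff [IsLocallyNoetherian X] {F : X.Modules} (hF : Coh.IsCoh F) (G : X.Modules) (i : ℕ) :
    IsZero ((E F i).obj G) ↔
      ∀ x : X, Subsingleton (Abelian.Ext ((DerSch.stalkFunctor X x).obj F) ((DerSch.stalkFunctor X x).obj G) i) := by
  refine ⟨fun h x => ?_, fun h => CurveCohLib.isZero_of_subsingleton_stalks fun x => ?_⟩
  · obtain ⟨e⟩ := exists_stalk_ext hF G x i
    haveI : Subsingleton (((E F i).obj G).presheaf.stalk x) :=
      ModuleCat.isZero_of_iff_subsingleton.1 ((DerSch.stalkFunctor X x).map_isZero h)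
    exact e.symm.toEquiv.subsingleton
  · obtain ⟨e⟩ := exists_stalk_ext hF G x i
    haveI := h x
    exact e.toEquiv.subsingleton

end Groth.Agent.ExtShX
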