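import Groth.Agent.ExtShX.Seq
import Groth.Agent.KFlatLib.Scheme.TensorStalk
import Groth.Agent.KFlatLib.Scheme.Exact
import Groth.Agent.H23.InvStalk
import Mathlib.Algebra.Category.ModuleCat.Projective
import Mathlib.Algebra.Homology.DerivedCategory.Ext.Linear
import Mathlib.Algebra.Homology.DerivedCategory.Ext.ExactSequences

/-!
# Stalks of local Ext sheaves
-/

set_option linter.style.haveILetI false
set_option linter.unusedSectionVars false
set_option backward.isDefEq.respectTransparency false
set_option backward.isDefEq.respectTransparency.types false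
set_option maxHeartbeats 1000000

universe u

open CategoryTheory CategoryTheory.Limits AlgebraicGeometry TopologicalSpace Opposite MonoidalCategory
open scoped TensorProduct

noncomputable section

attribute [local instance] CategoryTheory.Abelian.hasFiniteBiproducts

namespace Groth.Agent.ExtShX

variable {X : Scheme.{u}} (x : X)

local notation "R" => X.presheaf.stalk x
local notation "σ" => DerSch.stalkFunctor X x

instance additive_stalk : (DerSch.stalkFunctor X x).Additive :=
  Functor.additive_of_preserves_binary_products _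

/-- Evaluation on stalks. -/
def phi (F G : X.Modules) :
    (σ).obj ((SheafHomX.hom F).obj G) →ₗ[R] ((σ).obj F →ₗ[R] (σ).obj G) :=
  TensorProduct.curry
    (((σ).map ((SheafHomX.adj F).counit.app G)).hom ∘ₗ
      (KFlatLib.stalkTensorIso x ((SheafHomX.hom F).obj G) F).hom.hom)

theorem phi_apply (F G : X.Modules) (m : (σ).obj ((SheafHomX.hom F).obj G)) (v : (σ).obj F) :
    phi x F G m v = ((σ).map ((SheafHomX.adj F).counit.app G)).hom
      ((KFlatLib.stalkTensorIso x ((SheafHomX.hom F).obj G) F).hom.hom (m ⊗ₜ[R] v)) := rfl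

theorem phi_natural {F F' : X.Modules} (g : F ⟶ F') (G : X.Modules) (m : (σ).obj ((SheafHomX.hom F').obj G)) :
    phi x F G (((σ).map ((SheafHomX.homMap g).app G)).hom m) = phi x F' G m ∘ₗ ((σ).map g).hom := by
  refine LinearMap.ext fun v => ?_
  rw [LinearMap.comp_apply, phi_apply, phi_apply]
  have hd := SheafHomX.homEquiv_homMap g (𝟙 ((SheafHomX.hom F').obj G))
  rw [Category.id_comp] at hd
  erw [Adjunction.homEquiv_counit, Adjunction.homEquiv_counit, CategoryTheory.Functor.map_id,
    Category.id_comp] at hd
  have e1 := KFlatLib.stalkTensorIso_naturality (x := x) ((SheafHomX.homMap g).app G) (𝟙 F)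
  have e2 := KFlatLib.stalkTensorIso_naturality (x := x) (𝟙 ((SheafHomX.hom F').obj G)) g
  simp only [CategoryTheory.Functor.map_id, Category.comp_id, NatTrans.id_app, Category.id_comp] at e1 e2
  have e1' := congrArg (fun q => q.hom (m ⊗ₜ[R] v)) e1
  have e2' := congrArg (fun q => q.hom (m ⊗ₜ[R] v)) e2
  simp only [ModuleCat.hom_comp, LinearMap.comp_apply] at e1' e2'
  erw [ModuleCat.MonoidalCategory.tensorHom_tmul] at e1' e2'
  erw [e1', e2']
  show (((σ).map _) ≫ (σ).map _).hom _ = (((σ).map _) ≫ (σ).map _).hom _
  rw [← Functor.map_comp, ← Functor.map_comp]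
  exact congrArg (fun q => ((σ).map q).hom _) hd

theorem bijective_curry {M L N : Type u} [AddCommGroup M] [Module R M] [AddCommGroup L] [Module R L]
    [AddCommGroup N] [Module R N] (e : L ≃ₗ[R] R) {b : M ⊗[R] L →ₗ[R] N} (hb : Function.Bijective b) :
    Function.Bijective (TensorProduct.curry b) := by
  let t : M ≃ₗ[R] N := ((TensorProduct.rid R M).symm.trans (TensorProduct.congr (LinearEquiv.refl R M) e.symm)).trans
    (LinearEquiv.ofBijective b hb)
  have ht : ∀ m, t m = b (m ⊗ₜ[R] e.symm 1) := fun m => by simp [t]
  constructor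
  · intro m m' h
    apply t.injective
    rw [ht, ht]
    exact LinearMap.congr_fun h (e.symm 1)
  · intro φ
    refine ⟨t.symm (φ (e.symm 1)), LinearMap.ext fun l => ?_⟩
    have hl : l = e l • e.symm 1 := by
      rw [← map_smul, smul_eq_mul, mul_one, LinearEquiv.symm_apply_apply]
    rw [hl, map_smul, map_smul, TensorProduct.curry_apply, ← ht, LinearEquiv.apply_symm_apply]

theorem bijective_phi_unit (G : X.Modules) : Function.Bijective (phi x (Coh.structureModule X) G) := by
  haveI : (SheafHomX.ten (Coh.structureModule X)).IsEquivalence :=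
    Functor.isEquivalence_of_iso (KFlatLib.tensorStructureIso X).symm
  haveI : IsIso ((SheafHomX.adj (Coh.structureModule X)).counit.app G) := inferInstance
  obtain ⟨e⟩ := H23.InvStalk.exists_stalk_equiv (X := X) InvX.isInvertible_structureModule x
  refine bijective_curry x e ?_
  rw [LinearMap.coe_comp]
  refine Function.Bijective.comp ?_ ?_
  · exact ConcreteCategory.bijective_of_isIso ((σ).map ((SheafHomX.adj (Coh.structureModule X)).counit.app G))
  · exact ConcreteCategory.bijective_of_isIso (KFlatLib.stalkTensorIso x _ _).hom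

theorem bijective_phi_of_decomposition {F : X.Modules} {ι : Type u} [Fintype ι] (T : ι → X.Modules)
    (p : ∀ a, F ⟶ T a) (q : ∀ a, T a ⟶ F) (h : ∑ a, p a ≫ q a = 𝟙 F) (G : X.Modules)
    (hT : ∀ a, Function.Bijective (phi x (T a) G)) : Function.Bijective (phi x F G) := by
  have hF : ∀ m : (σ).obj ((SheafHomX.hom F).obj G), m = ∑ a, ((σ).map ((SheafHomX.homMap (p a)).app G)).hom
      (((σ).map ((SheafHomX.homMap (q a)).app G)).hom m) := fun m => by
    have h1 : ∑ a, (SheafHomX.homMap (q a)).app G ≫ (SheafHomX.homMap (p a)).app G = 𝟙 _ := by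
      simp only [← SheafHomX.homMap_comp]
      show (∑ a, SheafHomX.homMapHom F F G (p a ≫ q a)) = _
      rw [← map_sum (SheafHomX.homMapHom F F G) (fun a => p a ≫ q a), h]
      exact SheafHomX.homMap_id F G
    have h2 := congrArg (fun e => ((σ).map e).hom m) h1
    simp only [Functor.map_sum, CategoryTheory.Functor.map_id, ModuleCat.hom_id, LinearMap.id_apply] at h2
    rw [ModuleCat.hom_sum, LinearMap.sum_apply] at h2
    exact h2.symm.trans (Finset.sum_congr rfl fun a _ => by rw [Functor.map_comp]; rfl)
  constructor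
  · refine (injective_iff_map_eq_zero _).2 fun m hm => ?_
    rw [hF m]
    refine Finset.sum_eq_zero fun a _ => ?_
    rw [(injective_iff_map_eq_zero _).1 (hT a).1 (((σ).map ((SheafHomX.homMap (q a)).app G)).hom m)
      (by rw [phi_natural, hm, LinearMap.zero_comp]), map_zero]
  · intro φ
    choose m hm using fun a => (hT a).2 (φ ∘ₗ ((σ).map (q a)).hom)
    refine ⟨∑ a, ((σ).map ((SheafHomX.homMap (p a)).app G)).hom (m a), ?_⟩
    rw [map_sum]
    simp only [phi_natural, hm]
    refine LinearMap.ext fun v => ?_
    simp only [LinearMap.sum_apply, LinearMap.comp_apply]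
    rw [← map_sum]
    congr 1
    have h2 := congrArg (fun e => ((σ).map e).hom v) h
    simp only [Functor.map_sum, CategoryTheory.Functor.map_id, ModuleCat.hom_id, LinearMap.id_apply] at h2
    rw [ModuleCat.hom_sum, LinearMap.sum_apply] at h2
    exact (Finset.sum_congr rfl fun a _ => by rw [Functor.map_comp]; rfl).trans h2

theorem bijective_phi_of_exact {S : ShortComplex X.Modules} (hS : S.Exact) [Epi S.g] (G : X.Modules)
    (h2 : Function.Bijective (phi x S.X₂ G)) (h1 : Function.Injective (phi x S.X₁ G)) :
    Function.Bijective (phi x S.X₃ G) := by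
  haveI := mono_homMap S.g G
  have hi : Function.Injective ((σ).map ((SheafHomX.homMap S.g).app G)).hom :=
    (ModuleCat.mono_iff_injective _).1 inferInstance
  have hs : Function.Surjective ((σ).map S.g).hom := (ModuleCat.epi_iff_surjective _).1 inferInstance
  have hex : Function.Exact ((σ).map S.f).hom ((σ).map S.g).hom :=
    (ShortComplex.ShortExact.moduleCat_exact_iff_function_exact _).1 (hS.map (σ))
  have hex' : Function.Exact ((σ).map ((SheafHomX.homMap S.g).app G)).hom ((σ).map ((SheafHomX.homMap S.f).app G)).hom :=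
    (ShortComplex.ShortExact.moduleCat_exact_iff_function_exact _).1 ((exact_homMap hS G).map (σ))
  constructor
  · refine fun a b hab => hi (h2.1 ?_)
    rw [phi_natural, phi_natural, hab]
  · intro φ
    obtain ⟨m, hm⟩ := h2.2 (φ ∘ₗ ((σ).map S.g).hom)
    have h0 : ((σ).map ((SheafHomX.homMap S.f).app G)).hom m = 0 := h1 (by
      rw [phi_natural, hm, map_zero]
      exact LinearMap.ext fun v => by simp [hex.apply_apply_eq_zero v])
    obtain ⟨m', rfl⟩ := (hex' m).1 h0
    refine ⟨m', LinearMap.ext fun w => ?_⟩
    obtain ⟨v, rfl⟩ := hs w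
    have := LinearMap.congr_fun hm v
    rw [phi_natural] at this
    exact this

end Groth.Agent.ExtShX
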