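import Groth.Agent.ExtShX.KoszulLift
import Groth.Agent.ExtShX.Stalk
import Groth.Agent.ExtShX.Local
import Groth.Agent.InvX.Tensor
import Groth.Agent.H23.UnitSec
import Groth.Agent.Lib.CurveHom
import Groth.Agent.Lib.TopDiff
import Groth.Agent.KFlatLib.Scheme.ExtZero

/-!
# Divisibility of injective modules by regular sequences
-/

set_option linter.style.haveILetI false
set_option linter.unusedSectionVars false
set_option backward.isDefEq.respectTransparency false
set_option backward.isDefEq.respectTransparency.types false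
set_option maxHeartbeats 1000000

universe u

open CategoryTheory CategoryTheory.Limits AlgebraicGeometry TopologicalSpace Opposite

noncomputable section

attribute [local instance] CategoryTheory.Abelian.hasFiniteBiproducts

namespace Groth.Agent.KoszulLift

section Map

variable {A A' : Type*} [CommRing A] [CommRing A'] (σ : A →+* A') {M : ℕ → Type u} [∀ n, AddCommGroup (M n)]
  [∀ n, Module A (M n)] {d : ∀ n, M n →ₗ[A] M (n + 1)} {M' : ℕ → Type u} [∀ n, AddCommGroup (M' n)]
  [∀ n, Module A' (M' n)] {d' : ∀ n, M' n →ₗ[A'] M' (n + 1)} (φ : ∀ n, M n →+ M' n)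
  (hφ : ∀ n a m, φ n (a • m) = σ a • φ n m) (hdφ : ∀ n m, φ (n + 1) (d n m) = d' n (φ n m))

include hφ in
theorem Kills.map' {r : ℕ} {g : Fin r → A} {n : ℕ} {m : M n} (h : Kills g m) : Kills (σ ∘ g) (φ n m) := fun i => by
  show σ (g i) • φ n m = 0
  rw [← hφ, h i, map_zero]

include hφ hdφ in
theorem IsLift.map : ∀ {r : ℕ} {g : Fin r → A} {f : M 0} {s : M r},
    IsLift M d g f s → IsLift M' d' (σ ∘ g) (φ 0 f) (φ r s) := by
  intro r
  induction r with
  | zero => intro g f s h; simp only [IsLift] at h ⊢; rw [h]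
  | succ r ih =>
    rintro g f _ ⟨s₀, hs₀, t, ht, rfl, rfl⟩
    exact ⟨φ r (g 0 • t), ih hs₀, φ r t, ht.map' σ φ hφ, (hφ r _ _).symm, (hdφ r t).symm⟩

include hφ hdφ in
theorem Bd.map {r : ℕ} {g : Fin r → A} {s : M r} (h : Bd M d g s) : Bd M' d' (σ ∘ g) (φ r s) := by
  cases r with
  | zero => simp only [Bd] at h ⊢; rw [h, map_zero]
  | succ r => obtain ⟨u, hu, rfl⟩ := h; exact ⟨φ r u, hu.map' σ φ hφ, (hdφ r u).symm⟩

end Map

end Groth.Agent.KoszulLift

namespace Groth.Agent.ExtShX

variable {X : Scheme.{u}}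

open H23 in
theorem ofSect_one' {N : X.Modules} (t : Γ(N, ⊤)) : (InvX.ofSect t).app ⊤ (UnitSec.oneG ⊤) = t :=
  InvX.one_ofSect t

open H23 in
theorem stalk_ofSect {N : X.Modules} (t : Γ(N, ⊤)) (y : X) :
    ((DerSch.stalkFunctor X y).map (InvX.ofSect t)).hom (UnitSec.one y) = N.presheaf.germ ⊤ y trivial t := by
  show RefHull.stalkMapₗ (InvX.ofSect t) y ((Coh.structureModule X).presheaf.germ ⊤ y trivial (UnitSec.oneG ⊤)) = _
  rw [RefHull.stalkMapₗ_germ, ofSect_one']

open H23 in
theorem app_ext {N : X.Modules} {a b : Coh.structureModule X ⟶ N}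
    (h : a.app ⊤ (UnitSec.oneG ⊤) = b.app ⊤ (UnitSec.oneG ⊤)) : a = b := by
  rw [← sub_eq_zero]
  refine CurveHom.eq_zero_of_stalk _ fun y v => ?_
  obtain ⟨c, rfl⟩ := Submodule.mem_span_singleton.1 ((UnitSec.span_one y).ge (Submodule.mem_top : v ∈ ⊤))
  rw [map_smul]
  show c • RefHull.stalkMapₗ (a - b) y ((Coh.structureModule X).presheaf.germ ⊤ y trivial (UnitSec.oneG ⊤)) = 0
  rw [RefHull.stalkMapₗ_germ]
  show c • N.presheaf.germ ⊤ y trivial (a.app ⊤ (UnitSec.oneG ⊤) - b.app ⊤ (UnitSec.oneG ⊤)) = 0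
  rw [h, sub_self, map_zero, smul_zero]

open H23 in
/-- Multiplication by a global function. -/
def mulMap (a : Γ(X, ⊤)) : Coh.structureModule X ⟶ Coh.structureModule X := InvX.ofSect (UnitSec.ofFn a)

open H23 in
theorem mulMap_comp_app {N : X.Modules} (a : Γ(X, ⊤)) (φ : Coh.structureModule X ⟶ N) :
    (mulMap a ≫ φ).app ⊤ (UnitSec.oneG ⊤) = a • φ.app ⊤ (UnitSec.oneG ⊤) := by
  show φ.app ⊤ ((mulMap a).app ⊤ (UnitSec.oneG ⊤)) = _
  rw [show (mulMap a).app ⊤ (UnitSec.oneG ⊤) = UnitSec.ofFn a from ofSect_one' _, ← UnitSec.smul_oneG,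
    Scheme.Modules.Hom.app_smul]

open H23 in
theorem stalk_mulMap (a : Γ(X, ⊤)) (y : X) (v : (Coh.structureModule X).presheaf.stalk y) :
    ((DerSch.stalkFunctor X y).map (mulMap a)).hom v = X.presheaf.germ ⊤ y trivial a • v := by
  obtain ⟨c, rfl⟩ := Submodule.mem_span_singleton.1 ((UnitSec.span_one y).ge (Submodule.mem_top : v ∈ ⊤))
  rw [map_smul]
  show c • ((DerSch.stalkFunctor X y).map (InvX.ofSect (UnitSec.ofFn a))).hom (UnitSec.one y) = _
  rw [stalk_ofSect, ← UnitSec.germ_smul_one, smul_comm]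

/-- The germs of the sequence are weakly regular at `y`, from the end. -/
def RegSeqAt {r : ℕ} {V : X.Opens} (g : Fin r → Γ(X, V)) (y : X) (hy : y ∈ V) : Prop :=
  ∀ (j : Fin r) (a : X.presheaf.stalk y),
    a * X.presheaf.germ V y hy (g j) ∈
      Ideal.span (Set.range fun i : {i // j < i} => X.presheaf.germ V y hy (g i.1)) →
    a ∈ Ideal.span (Set.range fun i : {i // j < i} => X.presheaf.germ V y hy (g i.1))

open H23 in
theorem div_global {J : X.Modules} [Injective J] {r : ℕ} (g : Fin r → Γ(X, ⊤))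
    (hg : ∀ y, RegSeqAt g y trivial) (j : Fin r) (s : Γ(J, ⊤)) (hs : ∀ i, j < i → g i • s = 0) :
    ∃ t : Γ(J, ⊤), (∀ i, j < i → g i • t = 0) ∧ g j • t = s := by
  classical
  let T : Fin r → X.Modules := fun _ => Coh.structureModule X
  let φ : (⨁ T) ⟶ Coh.structureModule X := biproduct.desc fun i => if j < i then mulMap (g i) else 0
  let π := cokernel.π φ
  have hπi : ∀ i, j < i → mulMap (g i) ≫ π = 0 := fun i hi => by
    have h := congrArg (biproduct.ι T i ≫ ·) (cokernel.condition φ)
    simp only [comp_zero] at h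
    rw [← Category.assoc, biproduct.ι_desc, if_pos hi] at h
    exact h
  have hdesc : ∀ {N : X.Modules} (a : Coh.structureModule X ⟶ N),
      (∀ i, j < i → mulMap (g i) ≫ a = 0) → φ ≫ a = 0 := fun a ha => by
    refine biproduct.hom_ext' _ _ fun i => ?_
    rw [biproduct.ι_desc_assoc, comp_zero]
    split_ifs with hi
    · exact ha i hi
    · exact zero_comp
  have hcomm : ∀ i, j < i → mulMap (g i) ≫ mulMap (g j) ≫ π = 0 := fun i hi => by
    refine app_ext ?_
    rw [mulMap_comp_app, mulMap_comp_app, smul_comm, ← mulMap_comp_app (g i) π, hπi i hi]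
    exact smul_zero _
  let μ : cokernel φ ⟶ cokernel φ := cokernel.desc φ (mulMap (g j) ≫ π) (hdesc _ hcomm)
  have hμ : Mono μ := by
    refine Preadditive.mono_of_kernel_zero ((CurveCohLib.isZero_of_subsingleton_stalks fun y => ?_).eq_of_src _ _)
    let σ := DerSch.stalkFunctor X y
    let I := Ideal.span (Set.range fun i : {i // j < i} => X.presheaf.germ ⊤ y trivial (g i.1))
    have hsurj : Function.Surjective (σ.map π).hom := (ModuleCat.epi_iff_surjective _).1 inferInstance
    have h1 : ∀ a ∈ I, (σ.map π).hom (a • UnitSec.one y) = 0 := by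
      intro a ha
      induction ha using Submodule.span_induction with
      | mem x hx =>
        obtain ⟨i, rfl⟩ := hx
        rw [← stalk_mulMap]
        show (σ.map (mulMap (g i.1)) ≫ σ.map π).hom (UnitSec.one y) = 0
        rw [← Functor.map_comp, hπi i.1 i.2, Functor.map_zero]; rfl
      | zero => rw [zero_smul, map_zero]
      | add a b _ _ ha hb => rw [add_smul, map_add, ha, hb, add_zero]
      | smul c a _ ha => rw [smul_eq_mul, mul_smul, map_smul, ha, smul_zero]
    have hex : Function.Exact (σ.map φ).hom (σ.map π).hom :=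
      (ShortComplex.ShortExact.moduleCat_exact_iff_function_exact _).1
        ((ShortComplex.exact_of_g_is_cokernel (ShortComplex.mk φ π (cokernel.condition φ))
          (cokernelIsCokernel φ)).map σ)
    have htot : ∑ i, biproduct.π T i ≫ biproduct.ι T i = 𝟙 (⨁ T) := biproduct.total
    have h2 : ∀ a, (σ.map π).hom (a • UnitSec.one y) = 0 → a ∈ I := by
      intro a ha
      obtain ⟨w, hw⟩ := (hex _).1 ha
      have hw' : w = ∑ i, (σ.map (biproduct.ι T i)).hom ((σ.map (biproduct.π T i)).hom w) := by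
        conv_lhs => rw [show w = (σ.map (𝟙 (⨁ T))).hom w by rw [CategoryTheory.Functor.map_id]; rfl, ← htot]
        rw [Functor.map_sum, ModuleCat.hom_sum, LinearMap.sum_apply]
        simp only [Functor.map_comp]
        rfl
      rw [hw', map_sum] at hw
      have hmem : ∀ i, ∃ c ∈ I, (σ.map φ).hom ((σ.map (biproduct.ι T i)).hom ((σ.map (biproduct.π T i)).hom w)) =
          c • UnitSec.one y := fun i => by
        obtain ⟨b, hb⟩ := Submodule.mem_span_singleton.1 ((UnitSec.span_one y).ge
          (Submodule.mem_top : (σ.map (biproduct.π T i)).hom w ∈ ⊤))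
        refine ⟨if j < i then b * X.presheaf.germ ⊤ y trivial (g i) else 0, ?_, ?_⟩
        · split_ifs with hi
          · exact Ideal.mul_mem_left _ _ (Ideal.subset_span ⟨⟨i, hi⟩, rfl⟩)
          · exact I.zero_mem
        · show (σ.map (biproduct.ι T i) ≫ σ.map φ).hom _ = _
          rw [← Functor.map_comp, biproduct.ι_desc, ← hb, map_smul]
          split_ifs with hi
          · rw [mul_smul, stalk_mulMap]
          · rw [Functor.map_zero, zero_smul]; exact smul_zero _
      choose c hc hcw using hmem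
      rw [Finset.sum_congr rfl fun i _ => hcw i, ← Finset.sum_smul] at hw
      have h0 : (a - ∑ i, c i) • UnitSec.one y = 0 := by rw [sub_smul, hw, sub_self]
      rw [sub_eq_zero.1 (UnitSec.eq_zero_of_smul_one _ h0)]
      exact I.sum_mem fun i _ => hc i
    have hinj : Function.Injective (σ.map μ).hom := (injective_iff_map_eq_zero _).2 fun z hz => by
      obtain ⟨v, rfl⟩ := hsurj z
      obtain ⟨a, rfl⟩ := Submodule.mem_span_singleton.1 ((UnitSec.span_one y).ge (Submodule.mem_top : v ∈ ⊤))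
      refine h1 a (hg y j a (h2 _ ?_))
      rw [mul_comm, mul_smul, ← stalk_mulMap]
      show (σ.map (mulMap (g j)) ≫ σ.map π).hom (a • UnitSec.one y) = 0
      rw [← Functor.map_comp, ← cokernel.π_desc φ (mulMap (g j) ≫ π) (hdesc _ hcomm), Functor.map_comp]
      exact hz
    haveI : Mono (σ.map μ) := (ModuleCat.mono_iff_injective _).2 hinj
    have hz : IsZero (σ.obj (kernel μ)) := (isZero_kernel_of_mono (σ.map μ)).of_iso (PreservesKernel.iso _ _)
    exact ModuleCat.isZero_of_iff_subsingleton.1 hz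
  have hs0 : φ ≫ InvX.ofSect s = 0 := hdesc _ fun i hi => app_ext (by
    rw [mulMap_comp_app, ofSect_one', hs i hi]; rfl)
  let sb : cokernel φ ⟶ J := cokernel.desc φ (InvX.ofSect s) hs0
  let tb : cokernel φ ⟶ J := Injective.factorThru sb μ
  have htb : μ ≫ tb = sb := Injective.comp_factorThru _ _
  refine ⟨(π ≫ tb).app ⊤ (UnitSec.oneG ⊤), fun i hi => ?_, ?_⟩
  · rw [← mulMap_comp_app, ← Category.assoc, hπi i hi, zero_comp]; rfl
  · rw [← mulMap_comp_app, ← Category.assoc, ← cokernel.π_desc φ (mulMap (g j) ≫ π) (hdesc _ hcomm), Category.assoc,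
      htb, cokernel.π_desc, ofSect_one']

/-- Divisibility of the sections of an injective module over an open. -/
theorem div_sections {J : X.Modules} [Injective J] {r : ℕ} {V : X.Opens} (g : Fin r → Γ(X, V))
    (hg : ∀ y (hy : y ∈ V), RegSeqAt g y hy) (j : Fin r) (s : Γ(J, V)) (hs : ∀ i, j < i → g i • s = 0) :
    ∃ t : Γ(J, V), (∀ i, j < i → g i • t = 0) ∧ g j • t = s := by
  let Rf := Scheme.Modules.restrictFunctor V.ι
  haveI : Injective (Rf.obj J) :=
    (Functor.preservesInjectiveObjects_of_adjunction_of_preservesMonomorphisms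
      (KFlatLib.lshAdj V.ι)).injective_obj inferInstance
  have hV : V.ι ''ᵁ (⊤ : (V : Scheme.{u}).Opens) = V := V.ι.image_top_eq_opensRange.trans V.opensRange_ι
  let g' : Fin r → Γ((V : Scheme.{u}), ⊤) := fun i => AModX.resR hV.le (g i)
  have hg' : ∀ y, RegSeqAt g' y trivial := fun y i a ha => by
    let e := ringEquiv V.ι y
    have hgerm : ∀ m, e (X.presheaf.germ V y.1 y.2 (g m)) = (V : Scheme.{u}).presheaf.germ ⊤ y trivial (g' m) := fun m => by
      show V.ι.stalkMap y _ = _
      refine (Scheme.Hom.germ_stalkMap_apply V.ι V y y.2 (g m)).trans ?_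
      rw [Scheme.Opens.ι_app]
      refine ((V : Scheme.{u}).presheaf.germ_res_apply
        (homOfLE (le_of_eq (Scheme.Opens.ι_preimage_self V).symm) : ⊤ ⟶ V.ι ⁻¹ᵁ V) y trivial _).symm.trans ?_
      refine congrArg _ ?_
      show X.presheaf.map _ (X.presheaf.map _ (g m)) = X.presheaf.map _ (g m)
      rw [← CommRingCat.comp_apply, ← Functor.map_comp]
      rfl
    have hset : ⇑e '' (Set.range fun m : {m // i < m} => X.presheaf.germ V y.1 y.2 (g m.1)) =
        Set.range fun m : {m // i < m} => (V : Scheme.{u}).presheaf.germ ⊤ y trivial (g' m.1) := by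
      rw [← Set.range_comp]
      exact congrArg Set.range (funext fun m => hgerm m.1)
    rw [← hset, ← Ideal.map_span] at ha ⊢
    obtain ⟨b, rfl⟩ := e.surjective a
    rw [← hgerm, ← map_mul, Ideal.mem_map_iff_of_surjective _ e.surjective] at ha
    obtain ⟨c, hc, hce⟩ := ha
    exact Ideal.mem_map_of_mem _ (hg y.1 y.2 i b (e.injective hce ▸ hc))
  obtain ⟨t, ht, hjt⟩ := div_global (J := J.restrict V.ι) g' hg' j (AModX.res J hV.le s) fun i hi => by
    exact (TopDiff.restrict_smul J V ⊤ _ _).trans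
      ((AModX.res_smul (M := J) hV.le (g i) s).symm.trans (by rw [hs i hi, map_zero]))
  have hback : ∀ x : Γ(J, V), AModX.res J hV.ge (AModX.res J hV.le x) = x := fun x => by
    rw [AModX.res_res, AModX.res_self]
  have hfwd : ∀ x : Γ(J, V.ι ''ᵁ ⊤), AModX.res J hV.le (AModX.res J hV.ge x) = x := fun x => by
    rw [AModX.res_res, AModX.res_self]
  have hinj : Function.Injective (AModX.res J hV.le) := Function.LeftInverse.injective hback
  refine ⟨AModX.res J hV.ge t, fun i hi => hinj ?_, hinj ?_⟩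
  · rw [AModX.res_smul, hfwd, map_zero]
    exact (TopDiff.restrict_smul J V ⊤ _ _).symm.trans (ht i hi)
  · rw [AModX.res_smul, hfwd]
    exact (TopDiff.restrict_smul J V ⊤ _ _).symm.trans hjt

/-- Divisibility of the stalks of an injective module. -/
theorem div_stalk {J : X.Modules} [Injective J] {r : ℕ} {V : X.Opens} (g : Fin r → Γ(X, V))
    (hg : ∀ y (hy : y ∈ V), RegSeqAt g y hy) {y : X} (hy : y ∈ V) (j : Fin r) (s : J.presheaf.stalk y)
    (hs : ∀ i, j < i → X.presheaf.germ V y hy (g i) • s = 0) :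
    ∃ t : J.presheaf.stalk y, (∀ i, j < i → X.presheaf.germ V y hy (g i) • t = 0) ∧
      X.presheaf.germ V y hy (g j) • t = s := by
  classical
  obtain ⟨W, hW, m, rfl⟩ := TopCat.Presheaf.exists_germ_eq J.presheaf s
  have hv : ∀ i, ∃ (W' : X.Opens) (_ : y ∈ W') (hle : W' ≤ V ⊓ W),
      j < i → AModX.resR (hle.trans inf_le_left) (g i) • AModX.res J (hle.trans inf_le_right) m = 0 := fun i => by
    by_cases hi : j < i
    · have h := hs i hi
      rw [← RefX.germ_res J (inf_le_right : V ⊓ W ≤ W) (x := y) ⟨hy, hW⟩,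
        ← RefX.germ_resR (inf_le_left : V ⊓ W ≤ V) (x := y) ⟨hy, hW⟩, ← QCoh.germ_smul'] at h
      obtain ⟨W', hW', a, b, hab⟩ := TopCat.Presheaf.germ_eq J.presheaf y (U := V ⊓ W) (V := V ⊓ W) ⟨hy, hW⟩ ⟨hy, hW⟩ _ 0
        (h.trans (map_zero _).symm)
      refine ⟨W', hW', a.le, fun _ => ?_⟩
      have h' : AModX.res J a.le (AModX.resR inf_le_left (g i) • AModX.res J inf_le_right m) = 0 :=
        hab.trans (map_zero _)
      rwa [AModX.res_smul, AModX.resR_resR, AModX.res_res] at h'
    · exact ⟨V ⊓ W, ⟨hy, hW⟩, le_rfl, fun h => absurd h hi⟩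
  choose W' hyW' hle hz using hv
  let U : X.Opens := (V ⊓ W) ⊓ Finset.univ.inf W'
  have hyU : y ∈ U := ⟨⟨hy, hW⟩, by
    show y ∈ ((Finset.univ.inf W' : X.Opens) : Set X)
    simp [TopologicalSpace.Opens.coe_finset_inf, hyW']⟩
  have hUV : U ≤ V := inf_le_left.trans inf_le_left
  have hUW : U ≤ W := inf_le_left.trans inf_le_right
  obtain ⟨t, ht, hjt⟩ := div_sections (J := J) (fun i => AModX.resR hUV (g i)) (fun z hz' a b hb => by
    simp only [RefX.germ_resR] at hb ⊢
    exact hg z (hUV hz') a b hb) j (AModX.res J hUW m) fun i hi => by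
      have h := congrArg (AModX.res J (inf_le_right.trans (Finset.inf_le (f := W') (Finset.mem_univ i)) : U ≤ W' i))
        (hz i hi)
      rw [map_zero, AModX.res_smul, AModX.resR_resR, AModX.res_res] at h
      exact h
  refine ⟨J.presheaf.germ U y hyU t, fun i hi => ?_, ?_⟩
  · rw [← RefX.germ_resR hUV hyU, ← QCoh.germ_smul', ht i hi, map_zero]
  · rw [← RefX.germ_resR hUV hyU, ← QCoh.germ_smul', hjt, RefX.germ_res]

end Groth.Agent.ExtShX
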