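import Groth.Agent.ExtShX.KoszulStalk
import Groth.Agent.Synt29.ConormalStalk
import Groth.Agent.KRRReg.ConormalRank
import Groth.Agent.LinType.QReg
import Groth.Agent.Lib.TopDiff

/-!
# Charts of regular immersions: regularity at the stalks, the conormal module and its top exterior power
-/

set_option linter.style.haveILetI false
set_option linter.unusedSectionVars false
set_option backward.isDefEq.respectTransparency false
set_option backward.isDefEq.respectTransparency.types false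
set_option maxHeartbeats 1000000

universe u

open CategoryTheory CategoryTheory.Limits AlgebraicGeometry TopologicalSpace Opposite
open scoped TensorProduct

noncomputable section

attribute [local instance] CategoryTheory.Abelian.hasFiniteBiproducts

namespace Groth.Agent.ExtShX

section Ring

variable {A : Type u} [CommRing A] {r : ℕ}

/-- Weakly regular, from the end. -/
def Reg (g : Fin r → A) : Prop :=
  ∀ (j : Fin r) (a : A), a * g j ∈ Ideal.span (Set.range fun i : {i // j < i} => g i.1) →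
    a ∈ Ideal.span (Set.range fun i : {i // j < i} => g i.1)

theorem ofList_take_rev (g : Fin r → A) (j : Fin r) :
    Ideal.ofList ((List.ofFn fun i => g i.rev).take (j.rev : ℕ)) =
      Ideal.span (Set.range fun i : {i // j < i} => g i.1) := by
  show Ideal.span _ = _
  congr 1
  ext a
  simp only [Set.mem_setOf_eq, List.mem_take_iff_getElem, List.getElem_ofFn, List.length_ofFn, Set.mem_range,
    Subtype.exists]
  constructor
  · rintro ⟨i, hi, rfl⟩
    have hi' : i < (j.rev : ℕ) := lt_of_lt_of_le hi (min_le_left _ _)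
    refine ⟨(⟨i, lt_trans hi' j.rev.2⟩ : Fin r).rev, ?_, rfl⟩
    rw [Fin.lt_def, Fin.val_rev]
    rw [Fin.val_rev] at hi'
    simp only
    omega
  · rintro ⟨i, hi, rfl⟩
    refine ⟨(i.rev : ℕ), lt_min ?_ i.rev.2, ?_⟩
    · rw [Fin.val_rev, Fin.val_rev]; rw [Fin.lt_def] at hi; omega
    · exact congrArg g (Fin.rev_rev i)

theorem reg_iff (g : Fin r → A) :
    Reg g ↔ RingTheory.Sequence.IsWeaklyRegular A (List.ofFn fun i => g i.rev) := by
  rw [RingTheory.Sequence.isWeaklyRegular_iff]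
  simp only [List.length_ofFn, List.getElem_ofFn]
  constructor
  · intro h i hi
    have e := ofList_take_rev g (⟨i, hi⟩ : Fin r).rev
    rw [Fin.rev_rev] at e
    rw [e, isSMulRegular_quotient_iff_mem_of_smul_mem]
    intro x hx
    rw [Ideal.smul_eq_mul, Ideal.mul_top] at hx ⊢
    exact h _ x (by rw [mul_comm]; exact hx)
  · intro h j a ha
    have h' := (isSMulRegular_quotient_iff_mem_of_smul_mem _ _).1 (h (j.rev : ℕ) j.rev.2) a
    simp only [Fin.eta, Fin.rev_rev, Ideal.smul_eq_mul, Ideal.mul_top, smul_eq_mul] at h'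
    rw [ofList_take_rev] at h'
    exact h' (by rw [mul_comm]; exact ha)

/-- All sequences of generators of the same length are regular. -/
theorem reg_of_span [IsLocalRing A] [IsNoetherianRing A] {g g' : Fin r → A} (hg : Reg g)
    (htop : Ideal.span (Set.range g) ≠ ⊤) (hspan : Ideal.span (Set.range g) = Ideal.span (Set.range g')) :
    Reg g' := by
  have hrev : ∀ k : Fin r → A, (Ideal.span (Set.range fun i : Fin r => k i.rev)) = Ideal.span (Set.range k) := fun k =>
    congrArg Ideal.span (Fin.rev_surjective.range_comp k)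
  have hq : CAlgX.IsQuasiRegular (fun i => g i.rev) := fun k P hP h d =>
    LinType.quasiRegular _ ((reg_iff g).1 hg) hP h d
  have hq' := LinType.isQuasiRegular_of_span_eq (fun i => g i.rev) (fun i => g' i.rev) hq (by rw [hrev, hrev, hspan])
  refine (reg_iff g').2 (LinType.isWeaklyRegular_of_isQuasiRegular r A _ (fun i => ?_) hq')
  rw [IsLocalRing.ringJacobson_eq_maximalIdeal]
  exact IsLocalRing.le_maximalIdeal htop (hspan.symm ▸ Ideal.subset_span ⟨i.rev, rfl⟩)

/-- Relations of a regular sequence have coefficients in its ideal. -/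
theorem mem_span_of_sum_eq_zero : ∀ {r : ℕ} {g : Fin r → A}, Reg g → ∀ a : Fin r → A, ∑ i, a i * g i = 0 →
    ∀ i, a i ∈ Ideal.span (Set.range g) := by
  intro r
  induction r with
  | zero => intro _ _ _ _ i; exact i.elim0
  | succ r ih =>
    intro g hg a ha
    have htail : Ideal.span (Set.range fun i : {i : Fin (r + 1) // (0 : Fin (r + 1)) < i} => g i.1) =
        Ideal.span (Set.range (Fin.tail g)) := by
      congr 1
      ext x
      constructor
      · rintro ⟨⟨i, hi⟩, rfl⟩
        obtain ⟨i', rfl⟩ := Fin.exists_succ_eq.2 (Fin.ne_zero_of_lt hi)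
        exact ⟨i', rfl⟩
      · rintro ⟨i, rfl⟩; exact ⟨⟨i.succ, Fin.succ_pos i⟩, rfl⟩
    have htreg : Reg (Fin.tail g) := fun j x hx => by
      have hset : (Set.range fun i : {i : Fin r // j < i} => Fin.tail g i.1) =
          Set.range fun i : {i : Fin (r + 1) // j.succ < i} => g i.1 := by
        ext y
        constructor
        · rintro ⟨⟨i, hi⟩, rfl⟩; exact ⟨⟨i.succ, Fin.succ_lt_succ_iff.2 hi⟩, rfl⟩
        · rintro ⟨⟨i, hi⟩, rfl⟩
          obtain ⟨i', rfl⟩ := Fin.exists_succ_eq.2 (Fin.ne_zero_of_lt hi)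
          exact ⟨⟨i', Fin.succ_lt_succ_iff.1 hi⟩, rfl⟩
      rw [hset] at hx ⊢
      exact hg j.succ x hx
    rw [Fin.sum_univ_succ] at ha
    have h0 : a 0 ∈ Ideal.span (Set.range (Fin.tail g)) := by
      rw [← htail]
      refine hg 0 _ ?_
      rw [eq_neg_of_add_eq_zero_left ha, htail]
      exact Submodule.neg_mem _ (Submodule.sum_mem _ fun i _ => Ideal.mul_mem_left _ _ (Ideal.subset_span ⟨i, rfl⟩))
    obtain ⟨b, hb⟩ := Ideal.mem_span_range_iff_exists_fun.1 h0
    have h := ih htreg (fun i => a i.succ + g 0 * b i) (by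
      rw [← hb, Finset.sum_mul] at ha
      rw [← ha, ← Finset.sum_add_distrib]
      refine Finset.sum_congr rfl fun i _ => ?_
      show _ = b i * g i.succ * g 0 + a i.succ * g i.succ
      show (a i.succ + g 0 * b i) * g i.succ = _
      ring)
    have hle : Ideal.span (Set.range (Fin.tail g)) ≤ Ideal.span (Set.range g) :=
      Ideal.span_mono (by rintro _ ⟨i, rfl⟩; exact ⟨i.succ, rfl⟩)
    intro i
    refine Fin.cases (hle h0) (fun i => ?_) i
    have e : a i.succ = (a i.succ + g 0 * b i) - g 0 * b i := by ring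
    rw [e]
    exact Ideal.sub_mem _ (hle (h i)) (Ideal.mul_mem_right _ _ (Ideal.subset_span ⟨0, rfl⟩))

/-- Alternating maps on linear combinations. -/
theorem alternating_sum {M N : Type u} [AddCommGroup M] [Module A M] [AddCommGroup N] [Module A N]
    (f : AlternatingMap A M N (Fin r)) (v : Fin r → M) (a : Fin r → Fin r → A) :
    f (fun i => ∑ j, a i j • v j) = Matrix.det (Matrix.of a) • f v := by
  classical
  let l : (Fin r → A) →ₗ[A] M := Fintype.linearCombination A v
  let b := Pi.basisFun A (Fin r)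
  have hbv : ∀ i, l (b i) = v i := fun i => by
    show l (Pi.basisFun A (Fin r) i) = v i
    rw [Pi.basisFun_apply]
    exact (Fintype.linearCombination_apply_single A v i (1 : A)).trans (one_smul _ _)
  have h : f.compLinearMap l = (LinearMap.toSpanSingleton A N (f v)).compAlternatingMap b.det := by
    refine b.ext_alternating fun i hi => ?_
    let σ : Equiv.Perm (Fin r) := Equiv.ofBijective i (Finite.injective_iff_bijective.1 hi)
    show f (fun j => l (b (σ j))) = b.det (b ∘ σ) • f v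
    simp only [hbv]
    rw [AlternatingMap.map_perm, b.det_self]
    refine (f.map_perm v σ).trans ?_
    simp
  have h1 : f (fun i => l (a i)) = b.det a • f v :=
    congrArg (fun k : AlternatingMap A (Fin r → A) N (Fin r) => k a) h
  have hl : (fun i => l (a i)) = fun i => ∑ j, a i j • v j :=
    funext fun i => Fintype.linearCombination_apply A v (a i)
  rw [hl] at h1
  rw [h1, Module.Basis.det_apply, ← Matrix.det_transpose]
  rfl

end Ring

section Bases

variable {X : Scheme.{u}} {M : X.Modules}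

/-- Sections that are bases of all stalks are bases on all smaller opens. -/
theorem bijective_of_stalk_bases {U : X.Opens} {n : ℕ} (v : Fin n → Γ(M, U))
    (h : ∀ (x : X) (hx : x ∈ U),
      Function.Bijective fun c : Fin n → X.presheaf.stalk x => ∑ i, c i • M.presheaf.germ U x hx (v i))
    (V : X.Opens) (hV : V ≤ U) :
    Function.Bijective fun c : Fin n → Γ(X, V) => ∑ i, c i • AModX.res M hV (v i) := by
  classical
  have hgerm : ∀ (V : X.Opens) (hV : V ≤ U) (c : Fin n → Γ(X, V)) (x : X) (hx : x ∈ V),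
      M.presheaf.germ V x hx (∑ i, c i • AModX.res M hV (v i)) =
        ∑ i, X.presheaf.germ V x hx (c i) • M.presheaf.germ U x (hV hx) (v i) := fun V hV c x hx => by
    rw [map_sum]
    exact Finset.sum_congr rfl fun i _ => by rw [QCoh.germ_smul', RefX.germ_res]
  have hinj : ∀ (V : X.Opens) (hV : V ≤ U) (c c' : Fin n → Γ(X, V)),
      ∑ i, c i • AModX.res M hV (v i) = ∑ i, c' i • AModX.res M hV (v i) → c = c' := fun V hV c c' hcc => by
    funext i
    refine TopCat.Presheaf.section_ext X.sheaf _ _ _ fun x hx => ?_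
    have h1 := congrArg (M.presheaf.germ V x hx) hcc
    rw [hgerm, hgerm] at h1
    exact congrFun ((h x (hV hx)).1 h1) i
  refine ⟨hinj V hV, fun z => ?_⟩
  have hloc : ∀ p : V, ∃ (W : X.Opens) (hW : W ≤ V) (_ : p.1 ∈ W) (c : Fin n → Γ(X, W)),
      AModX.res M hW z = ∑ i, c i • AModX.res M (hW.trans hV) (v i) := fun p => by
    obtain ⟨c, hc⟩ := (h p.1 (hV p.2)).2 (M.presheaf.germ V p.1 p.2 z)
    choose Wi hWi ci hci using fun i => X.presheaf.exists_germ_eq (x := p.1) (c i)
    let W := V ⊓ Finset.univ.inf Wi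
    have hpW : p.1 ∈ W := ⟨p.2, by
      show p.1 ∈ ((Finset.univ.inf Wi : X.Opens) : Set X)
      simp [TopologicalSpace.Opens.coe_finset_inf, hWi]⟩
    let c' : Fin n → Γ(X, W) := fun i =>
      AModX.resR (inf_le_right.trans (Finset.inf_le (f := Wi) (Finset.mem_univ i)) : W ≤ Wi i) (ci i)
    have he : M.presheaf.germ W p.1 hpW (∑ i, c' i • AModX.res M (inf_le_left.trans hV : W ≤ U) (v i)) =
        M.presheaf.germ W p.1 hpW (AModX.res M (inf_le_left : W ≤ V) z) := by
      rw [hgerm, RefX.germ_res, ← hc]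
      refine Finset.sum_congr rfl fun i _ => ?_
      rw [RefX.germ_resR, hci]
    obtain ⟨W', hW', a, b, hab⟩ := TopCat.Presheaf.germ_eq (C := AddCommGrpCat.{u}) M.presheaf p.1 hpW hpW _ _ he
    change AModX.res M a.le _ = AModX.res M b.le _ at hab
    refine ⟨W', b.le.trans inf_le_left, hW', fun i => AModX.resR a.le (c' i), ?_⟩
    rw [← AModX.res_res (inf_le_left : W ≤ V) b.le z, ← hab, map_sum]
    exact Finset.sum_congr rfl fun i _ => by rw [AModX.res_smul, AModX.res_res]
  choose W hW hpW c hc using hloc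
  have hglue : ∀ i, ∃ R : Γ(X, V), ∀ p : V, X.presheaf.map (homOfLE (hW p)).op R = c p i := fun i => by
    obtain ⟨R, hR, -⟩ := TopCat.Sheaf.existsUnique_gluing' X.sheaf W V (fun p => homOfLE (hW p))
      (fun p hp => Opens.mem_iSup.2 ⟨⟨p, hp⟩, hpW ⟨p, hp⟩⟩) (fun p => c p i) fun p q => by
        have h1 := congrArg (AModX.res M (inf_le_left : W p ⊓ W q ≤ W p)) (hc p)
        have h2 := congrArg (AModX.res M (inf_le_right : W p ⊓ W q ≤ W q)) (hc q)
        simp only [AModX.res_res, map_sum, AModX.res_smul] at h1 h2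
        exact congrFun (hinj _ _ _ _ (h1.symm.trans h2)) i
    exact ⟨R, hR⟩
  choose R hR using hglue
  refine ⟨R, AModX.eq_of_locally _ _ fun p hp => ⟨W ⟨p, hp⟩, hW _, hpW _, ?_⟩⟩
  simp only [map_sum, AModX.res_smul, AModX.res_res]
  rw [hc]
  exact Finset.sum_congr rfl fun i _ => congrArg (· • _) (hR i ⟨p, hp⟩)

/-- A frame may be checked on affine opens. -/
theorem isFrame_of_affine {U : X.Opens} {e : Γ(M, U)}
    (h : ∀ (V : X.Opens) (hV : V ≤ U), IsAffineOpen V → Function.Bijective fun r : Γ(X, V) => r • AModX.res M hV e) :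
    InvX.IsFrame e := by
  refine InvX.isFrame_of_germ fun x hx => ⟨fun c c' hcc => ?_, fun m => ?_⟩
  · dsimp only at hcc
    obtain ⟨W, hW, a, rfl⟩ := X.presheaf.exists_germ_eq (x := x) c
    obtain ⟨W', hW', a', rfl⟩ := X.presheaf.exists_germ_eq (x := x) c'
    rw [← RefX.germ_resR (inf_le_left.trans inf_le_left : (W ⊓ W') ⊓ U ≤ W) (x := x) ⟨⟨hW, hW'⟩, hx⟩,
      ← RefX.germ_resR (inf_le_left.trans inf_le_right : (W ⊓ W') ⊓ U ≤ W') (x := x) ⟨⟨hW, hW'⟩, hx⟩,
      ← RefX.germ_res M (inf_le_right : (W ⊓ W') ⊓ U ≤ U) (x := x) ⟨⟨hW, hW'⟩, hx⟩,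
      ← QCoh.germ_smul', ← QCoh.germ_smul'] at hcc
    obtain ⟨O, hxO, i, j, hij⟩ := TopCat.Presheaf.germ_eq (C := AddCommGrpCat.{u}) M.presheaf x
      (U := (W ⊓ W') ⊓ U) (V := (W ⊓ W') ⊓ U) ⟨⟨hW, hW'⟩, hx⟩ ⟨⟨hW, hW'⟩, hx⟩ _ _ hcc
    change AModX.res M i.le _ = AModX.res M j.le _ at hij
    obtain ⟨_, ⟨V, hV, rfl⟩, hxV, hVO⟩ := X.isBasis_affineOpens.exists_subset_of_mem_open (show x ∈ O from hxO) O.2
    have hij' := congrArg (AModX.res M (show V ≤ O from hVO)) hij
    simp only [AModX.res_res, AModX.res_smul, AModX.resR_resR] at hij'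
    have h1 := congrArg (X.presheaf.germ V x hxV) ((h V _ hV).1 hij')
    rw [RefX.germ_resR, RefX.germ_resR] at h1
    exact h1
  · obtain ⟨W, hW, z, rfl⟩ := TopCat.Presheaf.exists_germ_eq (C := AddCommGrpCat.{u}) M.presheaf m
    obtain ⟨_, ⟨V, hV, rfl⟩, hxV, hVW⟩ :=
      X.isBasis_affineOpens.exists_subset_of_mem_open (show x ∈ W ⊓ U from ⟨hW, hx⟩) (W ⊓ U).2
    obtain ⟨c, hc⟩ := (h V (hVW.trans inf_le_right) hV).2 (AModX.res M (hVW.trans inf_le_left) z)
    refine ⟨X.presheaf.germ V x hxV c, ?_⟩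
    have h1 := congrArg (M.presheaf.germ V x hxV) hc
    rwa [QCoh.germ_smul', RefX.germ_res, RefX.germ_res] at h1

end Bases

variable {P X : Scheme.{u}} (ι : X ⟶ P) [IsClosedImmersion ι]

local notation "π₀" => piMap ι

theorem stk_piMap_germ {U : P.Opens} {y : P} (hy : y ∈ U) (c : Γ(P, U)) :
    P.presheaf.germ U y hy c • stk π₀ y (H23.UnitSec.one y) =
      ((Coh.push ι).obj (Coh.structureModule X)).presheaf.germ U y hy
        (show Γ((Coh.push ι).obj (Coh.structureModule X), U) from H23.UnitSec.ofFn (ι.app U c)) := by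
  rw [← map_smul, H23.UnitSec.germ_smul_one, stk_germ]
  rfl

/-- The ideal at a point of the closed subscheme. -/
theorem ann_piMap (x : X) : ann π₀ (ι x) = RingHom.ker (ι.stalkMap x).hom := by
  letI : Module (P.presheaf.stalk (ι x)) ((Coh.structureModule X).presheaf.stalk x) :=
    Module.compHom _ (ι.stalkMap x).hom
  obtain ⟨d⟩ := H23.SpClosed.nonempty_stalkEquiv ι (Coh.structureModule X) x
  ext a
  rw [mem_ann, RingHom.mem_ker]
  let m := stk π₀ (ι x) (H23.UnitSec.one (ι x))
  constructor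
  · intro ha
    obtain ⟨w, hw⟩ := stk_surjective π₀ (ι x) (d.symm (H23.UnitSec.one x))
    obtain ⟨b, rfl⟩ := Submodule.mem_span_singleton.1
      ((H23.UnitSec.span_one (ι x)).ge (Submodule.mem_top : w ∈ ⊤))
    refine H23.UnitSec.eq_zero_of_smul_one _ ?_
    show a • H23.UnitSec.one x = 0
    rw [← d.apply_symm_apply (H23.UnitSec.one x), ← hw, map_smul (stk π₀ (ι x)), ← map_smul d, smul_comm]
    rw [show a • stk π₀ (ι x) (H23.UnitSec.one (ι x)) = 0 from ha, smul_zero, map_zero]
  · intro ha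
    refine d.injective ?_
    rw [map_smul, map_zero]
    show (ι.stalkMap x).hom a • d m = 0
    rw [ha, zero_smul]

theorem ann_eq_top {y : P} (hy : y ∉ Set.range ι) : ann π₀ y = ⊤ := by
  haveI := H23.ClosedPushLen.subsingleton_stalk ι (Coh.structureModule X) hy
  exact eq_top_iff.2 fun a _ => (mem_ann π₀).2 (Subsingleton.elim _ _)

theorem ann_ne_top (x : X) : ann π₀ (ι x) ≠ ⊤ := ann_piMap ι x ▸ RingHom.ker_ne_top _

/-- Generators of the ideal on an affine open generate it at all points. -/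
theorem genOn_of_ker {U : P.Opens} (hU : IsAffineOpen U) {r : ℕ} {g : Fin r → Γ(P, U)}
    (hker : RingHom.ker (ι.app U).hom = Ideal.span (Set.range g)) : GenOn π₀ g := by
  intro y hy
  have hQ : Coh.IsQCoh ((Coh.push ι).obj (Coh.structureModule X)) :=
    QCoh.isQCoh_pushforward ι QCoh.isQCoh_structureModule
  letI := QCoh.stalkAlg (X := P) hy
  letI := QCoh.stalkModule ((Coh.push ι).obj (Coh.structureModule X)) hy
  haveI := QCoh.isLocalization_stalk' hU hy
  haveI := QCoh.isLocalizedModule_germLin hQ hU hy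
  refine le_antisymm (fun a ha => ?_) (Ideal.span_le.2 ?_)
  · obtain ⟨⟨c, s⟩, hcs⟩ := IsLocalization.surj (hU.primeIdealOf ⟨y, hy⟩).asIdeal.primeCompl a
    have hc : P.presheaf.germ U y hy c • stk π₀ y (H23.UnitSec.one y) = 0 := by
      rw [show P.presheaf.germ U y hy c = a * algebraMap Γ(P, U) (P.presheaf.stalk y) s from hcs.symm, mul_comm,
        mul_smul, (mem_ann π₀).1 ha, smul_zero]
    rw [stk_piMap_germ] at hc
    obtain ⟨t, ht⟩ := (IsLocalizedModule.eq_zero_iff (hU.primeIdealOf ⟨y, hy⟩).asIdeal.primeCompl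
      (QCoh.germLin ((Coh.push ι).obj (Coh.structureModule X)) hy)).1 hc
    have htc : ι.app U ((t : Γ(P, U)) * c) = 0 := by
      rw [map_mul]
      exact ht
    have hmem : (t : Γ(P, U)) * c ∈ Ideal.span (Set.range g) := hker ▸ RingHom.mem_ker.2 htc
    have h1 : algebraMap Γ(P, U) (P.presheaf.stalk y) ((t : Γ(P, U)) * c) ∈
        Ideal.span (Set.range fun i => P.presheaf.germ U y hy (g i)) := by
      have h2 := Ideal.mem_map_of_mem (algebraMap Γ(P, U) (P.presheaf.stalk y)) hmem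
      rwa [Ideal.map_span, ← Set.range_comp] at h2
    rw [map_mul, ← hcs, mul_comm a, ← mul_assoc] at h1
    exact (Ideal.unit_mul_mem_iff_mem _ ((IsLocalization.map_units _ t).mul (IsLocalization.map_units _ s))).1 h1
  · rintro _ ⟨i, rfl⟩
    show P.presheaf.germ U y hy (g i) ∈ ann π₀ y
    rw [mem_ann, stk_piMap_germ]
    have h0 : ι.app U (g i) = 0 := RingHom.mem_ker.1 (hker ▸ Ideal.subset_span ⟨i, rfl⟩)
    rw [h0]
    exact map_zero _

/-- Regularity localizes. -/
theorem regSeqAt_of_reg {U : P.Opens} (hU : IsAffineOpen U) {r : ℕ} {g : Fin r → Γ(P, U)} (hg : Reg g) {y : P}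
    (hy : y ∈ U) : RegSeqAt g y hy := by
  letI := QCoh.stalkAlg (X := P) hy
  haveI := QCoh.isLocalization_stalk' hU hy
  intro j a ha
  let S := (hU.primeIdealOf ⟨y, hy⟩).asIdeal.primeCompl
  let σ := algebraMap Γ(P, U) (P.presheaf.stalk y)
  obtain ⟨⟨c, s⟩, hcs⟩ := IsLocalization.surj S a
  have hset : Ideal.span (Set.range fun i : {i // j < i} => P.presheaf.germ U y hy (g i.1)) =
      (Ideal.span (Set.range fun i : {i // j < i} => g i.1)).map σ := by
    rw [Ideal.map_span, ← Set.range_comp]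
    rfl
  rw [hset] at ha ⊢
  have h1 : σ (c * g j) ∈ (Ideal.span (Set.range fun i : {i // j < i} => g i.1)).map σ := by
    rw [map_mul, show σ c = a * σ s from hcs.symm, mul_assoc, mul_comm (σ s), ← mul_assoc]
    exact Ideal.mul_mem_right _ _ ha
  obtain ⟨t, ht, htc⟩ := (IsLocalization.algebraMap_mem_map_algebraMap_iff S _ _ _).1 h1
  have h2 := Ideal.mem_map_of_mem σ (hg j (t * c) (by rw [mul_assoc]; exact htc))
  rw [map_mul, show σ c = a * σ s from hcs.symm, mul_comm a, ← mul_assoc] at h2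
  exact (Ideal.unit_mul_mem_iff_mem _
    ((IsLocalization.map_units _ ⟨t, ht⟩).mul (IsLocalization.map_units _ s))).1 h2

/-- Regularity spreads out. -/
theorem exists_regSeqAt_nhd {U : P.Opens} (hU : IsAffineOpen U) [IsNoetherianRing Γ(P, U)] {r : ℕ}
    {g : Fin r → Γ(P, U)} {y : P} (hy : y ∈ U) (hg : RegSeqAt g y hy) :
    ∃ W : P.Opens, y ∈ W ∧ ∀ z, z ∈ W → ∀ (hz : z ∈ U), RegSeqAt g z hz := by
  classical
  letI := QCoh.stalkAlg (X := P) hy
  haveI := QCoh.isLocalization_stalk' hU hy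
  let S := (hU.primeIdealOf ⟨y, hy⟩).asIdeal.primeCompl
  let T : Fin r → Ideal Γ(P, U) := fun j => Ideal.span (Set.range fun i : {i // j < i} => g i.1)
  let N : Fin r → Ideal Γ(P, U) := fun j => Submodule.comap (LinearMap.mulRight Γ(P, U) (g j)) (T j)
  have hT : ∀ j, Ideal.span (Set.range fun i : {i // j < i} => P.presheaf.germ U y hy (g i.1)) =
      (T j).map (algebraMap Γ(P, U) (P.presheaf.stalk y)) := fun j => by
    rw [Ideal.map_span, ← Set.range_comp]
    rfl
  have hn : ∀ j (c : Γ(P, U)), c ∈ N j → ∃ t ∈ S, t * c ∈ T j := fun j c hc => by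
    have h1 := hg j (algebraMap Γ(P, U) (P.presheaf.stalk y) c) (by
      rw [hT]
      show _ * algebraMap Γ(P, U) (P.presheaf.stalk y) (g j) ∈ _
      rw [← map_mul]
      exact Ideal.mem_map_of_mem _ hc)
    rw [hT] at h1
    exact (IsLocalization.algebraMap_mem_map_algebraMap_iff S _ _ _).1 h1
  have hj : ∀ j, ∃ t ∈ S, ∀ c ∈ N j, t * c ∈ T j := fun j => by
    obtain ⟨G, hG⟩ := IsNoetherian.noetherian (N j)
    choose t ht htc using fun c : G => hn j c (hG ▸ Submodule.subset_span c.2)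
    refine ⟨∏ c : G, t c, Submonoid.prod_mem S fun c _ => ht c, fun c hc => ?_⟩
    rw [← hG] at hc
    induction hc using Submodule.span_induction with
    | mem x hx =>
      rw [← Finset.prod_erase_mul _ _ (Finset.mem_univ (⟨x, hx⟩ : G)), mul_assoc]
      exact Ideal.mul_mem_left _ _ (htc _)
    | zero => rw [mul_zero]; exact (T j).zero_mem
    | add a b _ _ ha hb => rw [mul_add]; exact (T j).add_mem ha hb
    | smul a b _ hb => rw [smul_eq_mul, mul_left_comm]; exact (T j).mul_mem_left _ hb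
  choose t ht htc using hj
  refine ⟨P.basicOpen (∏ j, t j), (QCoh.mem_basicOpen_iff_notMem hU hy _).2 (Submonoid.prod_mem S fun j _ => ht j),
    fun z hzW hz j a ha => ?_⟩
  letI := QCoh.stalkAlg (X := P) hz
  haveI := QCoh.isLocalization_stalk' hU hz
  let S' := (hU.primeIdealOf ⟨z, hz⟩).asIdeal.primeCompl
  let σ := algebraMap Γ(P, U) (P.presheaf.stalk z)
  obtain ⟨⟨c, s⟩, hcs⟩ := IsLocalization.surj S' a
  have hset : Ideal.span (Set.range fun i : {i // j < i} => P.presheaf.germ U z hz (g i.1)) = (T j).map σ := by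
    rw [Ideal.map_span, ← Set.range_comp]
    rfl
  rw [hset] at ha ⊢
  have h1 : σ (c * g j) ∈ (T j).map σ := by
    rw [map_mul, show σ c = a * σ s from hcs.symm, mul_assoc, mul_comm (σ s), ← mul_assoc]
    exact Ideal.mul_mem_right _ _ ha
  obtain ⟨t', ht', htc'⟩ := (IsLocalization.algebraMap_mem_map_algebraMap_iff S' _ _ _).1 h1
  have h2 := Ideal.mem_map_of_mem σ (htc j (t' * c) (show t' * c * g j ∈ T j by rw [mul_assoc]; exact htc'))
  rw [map_mul, map_mul, show σ c = a * σ s from hcs.symm, mul_comm a, ← mul_assoc, ← mul_assoc] at h2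
  have htu : IsUnit (σ (t j)) := by
    have h3 : IsUnit (σ (∏ j, t j)) := (P.mem_basicOpen _ z hz).1 hzW
    rw [← Finset.prod_erase_mul _ _ (Finset.mem_univ j), map_mul] at h3
    exact isUnit_of_mul_isUnit_right h3
  exact (Ideal.unit_mul_mem_iff_mem _
    ((htu.mul (IsLocalization.map_units _ ⟨t', ht'⟩)).mul (IsLocalization.map_units _ s))).1 h2

/-- An affine chart of a regular immersion. -/
structure Chart (r : ℕ) where
  U : P.affineOpens
  g : Fin r → Γ(P, U.1)
  gen : GenOn π₀ g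
  reg : ∀ y (hy : y ∈ U.1), RegSeqAt g y hy
  app_eq_zero : ∀ i, ι.app U.1 (g i) = 0

/-- A regular sequence generating the ideal gives a chart. -/
theorem exists_chart_of_seq (U : P.affineOpens) (x : X) (hxU : ι x ∈ U.1) (rs : List Γ(P, U.1))
    (hrs : RegImm.Kind.regular.Seq Γ(P, U.1) rs) (hker : RingHom.ker (ι.app U.1).hom = Ideal.ofList rs) :
    ∃ c : Chart ι rs.length, ι x ∈ c.U.1 := by
  let g : Fin rs.length → Γ(P, U.1) := fun i => rs.get i.rev
  have hreg : Reg g := (reg_iff g).2 (by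
    have e : (List.ofFn fun i => g i.rev) = rs := by
        rw [show (fun i => g i.rev) = rs.get from funext fun i => congrArg rs.get (Fin.rev_rev i)]
        exact List.ofFn_get rs
    rw [e]
    exact hrs.toIsWeaklyRegular)
  have hg : RingHom.ker (ι.app U.1).hom = Ideal.span (Set.range g) := by
    rw [hker]
    show Ideal.span _ = _
    congr 1
    ext a
    simp only [Set.mem_setOf_eq, Set.mem_range, g]
    constructor
    · intro ha
      obtain ⟨i, rfl⟩ := List.mem_iff_get.1 ha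
      exact ⟨i.rev, by rw [Fin.rev_rev]⟩
    · rintro ⟨i, rfl⟩; exact List.get_mem _ _
  exact ⟨⟨U, g, genOn_of_ker ι U.2 hg, fun y hy => regSeqAt_of_reg U.2 hreg hy,
    fun i => RingHom.mem_ker.1 (hg ▸ Ideal.subset_span ⟨i, rfl⟩)⟩, hxU⟩

theorem exists_chart {r : ℕ} (hι : RegImm.IsRegularImmersionOfCodim RegImm.Kind.regular r ι) (x : X) :
    ∃ c : Chart ι r, ι x ∈ c.U.1 := by
  obtain ⟨U, hxU, -, rs, rfl, hrs, hker⟩ := hι.2 x
  exact exists_chart_of_seq ι U x hxU rs hrs hker

section Conormal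

open Synt29.ConormalStalk Synt29.OmegaStalk

variable {r : ℕ} (c : Chart ι r)

/-- The classes of the generators in the conormal module. -/
def Chart.v (i : Fin r) : Γ(Omega.conormal ι, ι ⁻¹ᵁ c.U.1) :=
  OmegaSh.conormalSect ι c.U.1 (OmegaUniv.exists_idealSect_of_app_eq_zero ι c.U.1 (c.g i) (c.app_eq_zero i)).choose

theorem Chart.v_spec (i : Fin r) : ∃ k, OmegaSh.idealSect ι.ker c.U.1 k = c.g i ∧
    c.v ι i = OmegaSh.conormalSect ι c.U.1 k :=
  ⟨_, (OmegaUniv.exists_idealSect_of_app_eq_zero ι c.U.1 (c.g i) (c.app_eq_zero i)).choose_spec, rfl⟩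

variable (x : X)

/-- The class in the conormal module of an element of the ideal in the local ring. -/
def lam (a : RingHom.ker (ι.stalkMap x).hom) : (Omega.conormal ι).presheaf.stalk x :=
  ((KFlatLib.stalkPullbackIso ι x).app (I ι)).inv (unit1 ι x (exists_rep ι (RingHom.mem_ker.1 a.2)).choose)

theorem lam_eq {a : RingHom.ker (ι.stalkMap x).hom} {m : St (I ι) (ι x)} (h : Rep ι (ι x) m a.1) :
    lam ι x a = ((KFlatLib.stalkPullbackIso ι x).app (I ι)).inv (unit1 ι x m) := by
  rw [lam, rep_inj ι (exists_rep ι (RingHom.mem_ker.1 a.2)).choose_spec h]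

theorem lam_add (a b : RingHom.ker (ι.stalkMap x).hom) : lam ι x (a + b) = lam ι x a + lam ι x b := by
  rw [lam_eq ι x (rep_add ι (exists_rep ι (RingHom.mem_ker.1 a.2)).choose_spec
    (exists_rep ι (RingHom.mem_ker.1 b.2)).choose_spec)]
  exact (congrArg _ (map_add _ _ _)).trans (map_add _ _ _)

theorem lam_smul (b : P.presheaf.stalk (ι x)) (a : RingHom.ker (ι.stalkMap x).hom) :
    lam ι x (b • a) = (ι.stalkMap x).hom b • lam ι x a := by
  rw [lam_eq ι x (rep_smul ι (exists_rep ι (RingHom.mem_ker.1 a.2)).choose_spec b), unit1_smul]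
  exact map_smul ((KFlatLib.stalkPullbackIso ι x).app (I ι)).inv.hom _ _

variable {x} (hx : ι x ∈ c.U.1)

theorem Chart.germ_mem_ker (i : Fin r) :
    P.presheaf.germ c.U.1 (ι x) hx (c.g i) ∈ RingHom.ker (ι.stalkMap x).hom := by
  rw [RingHom.mem_ker]
  show ι.stalkMap x _ = 0
  rw [Scheme.Hom.germ_stalkMap_apply, c.app_eq_zero, map_zero]

theorem Chart.lam_germ (i : Fin r) :
    lam ι x ⟨_, c.germ_mem_ker ι hx i⟩ = (Omega.conormal ι).presheaf.germ (ι ⁻¹ᵁ c.U.1) x hx (c.v ι i) := by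
  obtain ⟨k, hk, hv⟩ := c.v_spec ι i
  rw [lam_eq ι x (m := gm (I ι) hx k) ⟨c.U.1, hx, k, rfl, congrArg _ hk⟩, hv]
  let Pu := (KFlatLib.stalkPullbackIso ι x).app (I ι)
  refine (ConcreteCategory.bijective_of_isIso Pu.hom).1 ?_
  exact (Iso.inv_hom_id_apply Pu _).trans (KFlatLib.stalkPullbackIso_gm ι x (I ι) c.U.1 hx k).symm

theorem lam_sum {n : ℕ} (b : Fin n → P.presheaf.stalk (ι x)) (a : Fin n → RingHom.ker (ι.stalkMap x).hom) :
    lam ι x (∑ i, b i • a i) = ∑ i, (ι.stalkMap x).hom (b i) • lam ι x (a i) := by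
  let l : RingHom.ker (ι.stalkMap x).hom →+ (Omega.conormal ι).presheaf.stalk x :=
    AddMonoidHom.mk' (lam ι x) (lam_add ι x)
  show l _ = _
  rw [map_sum]
  exact Finset.sum_congr rfl fun i _ => lam_smul ι x _ _

theorem Chart.bijective_stalk :
    Function.Bijective fun b : Fin r → X.presheaf.stalk x =>
      ∑ i, b i • (Omega.conormal ι).presheaf.germ (ι ⁻¹ᵁ c.U.1) x hx (c.v ι i) := by
  let J := RingHom.ker (ι.stalkMap x).hom
  let Pu := (KFlatLib.stalkPullbackIso ι x).app (I ι)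
  have hJ : J = Ideal.span (Set.range fun i => P.presheaf.germ c.U.1 (ι x) hx (c.g i)) :=
    (ann_piMap ι x).symm.trans (c.gen (ι x) hx)
  let gi : Fin r → J := fun i => ⟨_, c.germ_mem_ker ι hx i⟩
  have hlam : ∀ b : Fin r → P.presheaf.stalk (ι x), lam ι x (∑ i, b i • gi i) =
      ∑ i, (ι.stalkMap x).hom (b i) • (Omega.conormal ι).presheaf.germ (ι ⁻¹ᵁ c.U.1) x hx (c.v ι i) := fun b => by
    rw [lam_sum]
    exact Finset.sum_congr rfl fun i _ => congrArg _ (c.lam_germ ι hx i)
  refine ⟨?_, fun t => ?_⟩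
  · intro b b' hb
    choose β hβ using fun i => ι.stalkMap_surjective x (b i - b' i)
    have h0 : lam ι x (∑ i, β i • gi i) = 0 := by
      rw [hlam]
      simp only [show ∀ i, (ι.stalkMap x).hom (β i) = b i - b' i from hβ, sub_smul, Finset.sum_sub_distrib]
      exact sub_eq_zero.2 hb
    obtain ⟨m, hm⟩ := exists_rep ι (RingHom.mem_ker.1 (∑ i, β i • gi i).2)
    rw [lam_eq ι x hm] at h0
    have h1 : unit1 ι x m = 0 :=
      (ConcreteCategory.bijective_of_isIso Pu.inv).1 (h0.trans (map_zero Pu.inv.hom).symm)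
    have h2 : m ∈ (J • ⊤ : Submodule (P.presheaf.stalk (ι x)) (St (I ι) (ι x))) := by
      letI := (ι.stalkMap x).hom.toAlgebra
      exact KRRReg.mem_smul_top_of_one_tmul_eq_zero (S := X.presheaf.stalk x) (ι.stalkMap_surjective x) _ h1
    have h3 : ∃ q ∈ J • J, Rep ι (ι x) m q := by
      refine Submodule.smul_induction_on h2 (fun q hq z _ => ?_) fun z w ⟨q, hq, hz⟩ ⟨q', hq', hw⟩ =>
        ⟨q + q', add_mem hq hq', rep_add ι hz hw⟩
      obtain ⟨p, hp⟩ := rep_exists ι (ι x) z
      exact ⟨q * p, Submodule.smul_mem_smul hq (rep_mem ι hp), rep_smul ι hp q⟩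
    obtain ⟨q, hq, hqm⟩ := h3
    have hq' : q = ∑ i, β i * P.presheaf.germ c.U.1 (ι x) hx (c.g i) := by
      obtain ⟨U₁, h₁, k₁, hk₁, hr₁⟩ := hqm
      obtain ⟨U₂, h₂, k₂, hk₂, hr₂⟩ := hm
      obtain ⟨W, hW, j, j', e⟩ := (I ι).presheaf.germ_eq (ι x) h₁ h₂ k₁ k₂ (hk₁.trans hk₂.symm)
      have hsum : ((∑ i, β i • gi i : J) : P.presheaf.stalk (ι x)) =
          ∑ i, β i * P.presheaf.germ c.U.1 (ι x) hx (c.g i) := by
        simp [gi]
      rw [← hr₁, ← hsum, ← hr₂]
      refine (P.presheaf.germ_res_apply j (ι x) hW _).symm.trans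
        (Eq.trans ?_ (P.presheaf.germ_res_apply j' (ι x) hW _))
      erw [← OmegaLib.idealSect_map, ← OmegaLib.idealSect_map]
      exact congrArg _ (congrArg _ e)
    obtain ⟨e, he, hqe⟩ : ∃ e : Fin r → P.presheaf.stalk (ι x), (∀ i, e i ∈ J) ∧
        q = ∑ i, e i * P.presheaf.germ c.U.1 (ι x) hx (c.g i) := by
      rw [smul_eq_mul] at hq
      refine Submodule.mul_induction_on hq (fun p hp p' hp' => ?_) ?_
      · obtain ⟨d, rfl⟩ := Ideal.mem_span_range_iff_exists_fun.1 (hJ ▸ hp')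
        refine ⟨fun i => p * d i, fun i => J.mul_mem_right _ hp, ?_⟩
        rw [Finset.mul_sum]
        exact Finset.sum_congr rfl fun i _ => (mul_assoc _ _ _).symm
      · rintro _ _ ⟨e, he, rfl⟩ ⟨e', he', rfl⟩
        exact ⟨e + e', fun i => J.add_mem (he i) (he' i), by
          simp only [Pi.add_apply, add_mul, Finset.sum_add_distrib]⟩
    have h4 := mem_span_of_sum_eq_zero (g := fun i => P.presheaf.germ c.U.1 (ι x) hx (c.g i))
      (c.reg (ι x) hx) (fun i => β i - e i) (by
        simp only [sub_mul, Finset.sum_sub_distrib, ← hq', ← hqe, sub_self])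
    funext i
    have h5 : β i ∈ J := by
      have := J.add_mem (hJ.ge (h4 i)) (he i)
      rwa [sub_add_cancel] at this
    exact sub_eq_zero.1 ((hβ i).symm.trans (RingHom.mem_ker.1 h5))
  · obtain ⟨m, hm⟩ := unit1_surjective ι x (Pu.hom t)
    obtain ⟨a, ha⟩ := rep_exists ι (ι x) m
    have haJ : a ∈ J := rep_mem ι ha
    obtain ⟨b, hb⟩ := Ideal.mem_span_range_iff_exists_fun.1 (hJ ▸ haJ)
    refine ⟨fun i => (ι.stalkMap x).hom (b i), ?_⟩
    refine (hlam b).symm.trans ?_
    rw [show (∑ i, b i • gi i) = (⟨a, haJ⟩ : J) from Subtype.ext (by simp [gi, ← hb]),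
      lam_eq ι x (m := m) ha, hm]
    show Pu.inv.hom (Pu.hom.hom t) = t
    rw [← LinearMap.comp_apply, ← ModuleCat.hom_comp, Iso.hom_inv_id]
    rfl

variable {L : X.Modules}
  {φ : ∀ U : X.affineOpens, (L.val.obj (op U.1)) ≃ₗ[Γ(X, U.1)]
    ↥(⋀[Γ(X, U.1)]^r ((Omega.conormal ι).val.obj (op U.1)))}

variable (φ) in
/-- The wedge of the classes of the generators. -/
def Chart.w : Γ(L, ι ⁻¹ᵁ c.U.1) :=
  (φ ⟨ι ⁻¹ᵁ c.U.1, c.U.2.preimage ι⟩).symm (exteriorPower.ιMulti _ r fun i => c.v ι i)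

variable (hφ : ∀ (U V : X.affineOpens) (h : V.1 ≤ U.1) (e : Fin r → (Omega.conormal ι).val.obj (op U.1)),
  L.val.map (homOfLE h).op ((φ U).symm (exteriorPower.ιMulti _ r e)) =
    (φ V).symm (exteriorPower.ιMulti _ r (fun j => (Omega.conormal ι).val.map (homOfLE h).op (e j))))

include hφ in
theorem Chart.res_w {V : X.Opens} (hV : IsAffineOpen V) (h : V ≤ ι ⁻¹ᵁ c.U.1) :
    AModX.res L h (c.w ι φ) =
      (φ ⟨V, hV⟩).symm (exteriorPower.ιMulti _ r fun i => AModX.res (Omega.conormal ι) h (c.v ι i)) :=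
  hφ ⟨ι ⁻¹ᵁ c.U.1, c.U.2.preimage ι⟩ ⟨V, hV⟩ h fun i => c.v ι i

include hφ in
theorem Chart.isFrame_w : InvX.IsFrame (c.w ι φ) := by
  refine isFrame_of_affine fun V hV hVa => ?_
  obtain ⟨b, hb⟩ := TopDiff.basis_of_unique (R := Γ(X, V)) (fun i => AModX.res (Omega.conormal ι) hV (c.v ι i))
    (bijective_of_stalk_bases (fun i => c.v ι i) (fun x hx => c.bijective_stalk ι hx) V hV)
  simp only [c.res_w ι hφ hVa hV]
  have h := (φ ⟨V, hVa⟩).symm.bijective.comp (TopDiff.bijective_ιMulti_basis b)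
  rw [hb] at h
  refine (congrArg Function.Bijective (funext fun a => ?_)).mpr h
  exact ((φ ⟨V, hVa⟩).symm.map_smul a _).symm

end Conormal

end Groth.Agent.ExtShX
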