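import Groth.Agent.ExtShX.Codim
import Groth.Agent.PnVan.CM

/-!
# Vanishing of local Ext sheaves below the codimension on projective space
-/

set_option linter.style.haveILetI false
set_option linter.unusedSectionVars false
set_option backward.isDefEq.respectTransparency false
set_option backward.isDefEq.respectTransparency.types false
set_option maxHeartbeats 1000000

universe u

open CategoryTheory CategoryTheory.Limits AlgebraicGeometry TopologicalSpace Opposite

noncomputable section

namespace Groth.Agent.ExtShX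

open Groth.Agent.PnVan

theorem isZero_E_pn {k : Type u} [Field k] {N : ℕ} {X : Scheme.{u}} (ι : X ⟶ P k N) [IsClosedImmersion ι] (r : ℕ)
    (hr : topologicalKrullDim X + (r : WithBot ℕ∞) ≤ (N : WithBot ℕ∞)) {Ev : (P k N).Modules}
    (hE : FlatMod.IsFinLocFree Ev) {i : ℕ} (hi : i < r) :
    IsZero ((E ((Coh.push ι).obj (Coh.structureModule X)) i).obj Ev) := by
  haveI : LocallyOfFiniteType (CohB1.ProjSpace.toSpec N k) :=
    haveI := Groth.Agent.PnCoh.Chow.isProper_toSpec N k
    inferInstance
  haveI : JacobsonSpace (P k N) := LocallyOfFiniteType.jacobsonSpace (CohB1.ProjSpace.toSpec N k)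
  refine isZero_E_structure ι (fun p => regularP p) hE i fun x hx => ?_
  have h1 := CurveCohLib.ringKrullDim_stalk_le_topologicalKrullDim x
  haveI := isLocNoeth ι
  rcases hd : topologicalKrullDim X with _ | (_ | a)
  · rw [hd] at h1
    exact absurd (le_bot_iff.1 h1) ringKrullDim_ne_bot
  · rw [hd] at hr
    have : (⊤ : ℕ∞) + (r : ℕ∞) ≤ (N : ℕ∞) := WithBot.coe_le_coe.1 hr
    simp at this
  · rw [hd] at h1 hr
    refine ⟨a, N, h1, dim_closed hx, ?_⟩
    have : a + r ≤ N := by
      have h' : ((a : ℕ∞) + (r : ℕ∞)) ≤ (N : ℕ∞) := WithBot.coe_le_coe.1 hr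
      exact_mod_cast h'
    omega

end Groth.Agent.ExtShX
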