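import Groth.Agent.ExtShX.CanonStalk
import Groth.Agent.DimFormula.Stalk
import Groth.Agent.AmpleVan.ThickPush
import Groth.Agent.ZClosLib.CohDescent
import Groth.Agent.ZClosLib.ColimSections
import Groth.Agent.Lib.CurveHom
import Groth.Agent.ConsPropLib.FibreLocFreeRank
import Mathlib.RingTheory.KrullDimension.Zero

/-!
# The sheaf `ω` of a closed subscheme: coherence, associated points, rank
-/

set_option linter.style.haveILetI false
set_option linter.unusedSectionVars false
set_option backward.isDefEq.respectTransparency false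
set_option backward.isDefEq.respectTransparency.types false
set_option maxHeartbeats 1000000

universe u

open CategoryTheory CategoryTheory.Limits AlgebraicGeometry TopologicalSpace Opposite

noncomputable section

namespace Groth.Agent.ExtShX

variable {X : Scheme.{u}}

/-- A module with quasi-coherent coherent direct image under a closed immersion is coherent. -/
theorem isCoh_of_push {P : Scheme.{u}} [IsLocallyNoetherian P] (ι : X ⟶ P) [IsClosedImmersion ι] {M : X.Modules}
    (h : Coh.IsCoh ((Coh.push ι).obj M)) : Coh.IsCoh M := by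
  let adj := Scheme.Modules.pullbackPushforwardAdjunction ι
  haveI : IsIso (adj.unit.app ((Scheme.Modules.pushforward ι).obj M)) := by
    refine (QCoh.isIso_unit_closed_iff ι h.1).2 fun U a ha s => ?_
    rw [FComplLib.ideal_ker, RingHom.mem_ker] at ha
    show (ι.app U.1).hom a • (show Γ(M, ι ⁻¹ᵁ U.1) from s) = 0
    rw [ha, zero_smul]
  haveI : IsIso ((Scheme.Modules.pushforward ι).map (adj.counit.app M)) := by
    haveI : IsIso (adj.unit.app ((Scheme.Modules.pushforward ι).obj M) ≫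
        (Scheme.Modules.pushforward ι).map (adj.counit.app M)) := by
      rw [adj.right_triangle_components]; infer_instance
    exact IsIso.of_isIso_comp_left (adj.unit.app ((Scheme.Modules.pushforward ι).obj M)) _
  haveI := AmpleVan.isIso_of_push ι (adj.counit.app M)
  haveI : IsLocallyNoetherian X := LocallyOfFiniteType.isLocallyNoetherian ι
  exact SheafHomX.isCoh_of_iso (asIso (adj.counit.app M)) (ZClosLib.isCoh_pullback ι h)

/-- The local ring of a maximal point has dimension zero. -/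
theorem krullDimLE_zero_stalk {x : X} (h : ∀ y, y ⤳ x → y = x) : Ring.KrullDimLE 0 (X.presheaf.stalk x) := by
  refine Ring.krullDimLE_zero_iff.2 fun I hI => ?_
  have h1 := h _ (DimFormula.fromSpecStalk_specializes x ⟨I, hI⟩)
  have h2 : (⟨I, hI⟩ : PrimeSpectrum (X.presheaf.stalk x)) = IsLocalRing.closedPoint (X.presheaf.stalk x) :=
    (X.fromSpecStalk x).isEmbedding.injective (h1.trans Scheme.fromSpecStalk_closedPoint.symm)
  rw [show I = IsLocalRing.maximalIdeal (X.presheaf.stalk x) from congrArg PrimeSpectrum.asIdeal h2]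
  infer_instance

/-- If a morphism of modules vanishes near the point of a prime of the local ring, its values are killed outside
that prime. -/
theorem exists_notMem_smul_eq_zero {F G : X.Modules} (hF : Coh.IsQCoh F) (hG : Coh.IsQCoh G) (φ : F ⟶ G) (x : X)
    (Q : PrimeSpectrum (X.presheaf.stalk x))
    (h : ∀ v, RefHull.stalkMapₗ φ (X.fromSpecStalk x Q) v = 0) (v : F.presheaf.stalk x) :
    ∃ a ∉ Q.asIdeal, a • RefHull.stalkMapₗ φ x v = 0 := by
  obtain ⟨V, hV, hx, -⟩ := exists_isAffineOpen_mem_and_subset (TopologicalSpace.Opens.mem_top x)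
  have hsp := DimFormula.fromSpecStalk_specializes x Q
  have hg : X.fromSpecStalk x Q ∈ V := hsp.mem_open V.2 hx
  have hq : (hV.primeIdealOf ⟨_, hg⟩).asIdeal = Q.asIdeal.comap (X.presheaf.germ V x hx).hom := by
    have h1 : hV.fromSpec (hV.primeIdealOf ⟨_, hg⟩) = hV.fromSpec (PrimeSpectrum.comap (X.presheaf.germ V x hx).hom Q) := by
      rw [hV.fromSpec_primeIdealOf]
      show X.fromSpecStalk x Q = _
      rw [← hV.fromSpecStalk_eq_fromSpecStalk hx]
      rfl
    rw [hV.fromSpec.isOpenEmbedding.injective h1]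
    rfl
  letI := QCoh.stalkAlg (X := X) hx
  haveI := QCoh.isLocalization_stalk' hV hx
  letI := QCoh.stalkModule F hx
  haveI := QCoh.isScalarTower_stalk F hx
  haveI := QCoh.isLocalizedModule_germLin hF hV hx
  obtain ⟨⟨m, t⟩, hm⟩ := IsLocalizedModule.surj (hV.primeIdealOf ⟨x, hx⟩).asIdeal.primeCompl (QCoh.germLin F hx) v
  letI := QCoh.stalkAlg (X := X) hg
  letI := QCoh.stalkModule G hg
  haveI := QCoh.isScalarTower_stalk G hg
  haveI := QCoh.isLocalizedModule_germLin hG hV hg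
  have hzero : G.presheaf.germ V _ hg (φ.app V m) = 0 := by
    rw [← RefHull.stalkMapₗ_germ φ _ hg, h]
  obtain ⟨s, hs⟩ := (IsLocalizedModule.eq_zero_iff (hV.primeIdealOf ⟨_, hg⟩).asIdeal.primeCompl (QCoh.germLin G hg)
    (m := φ.app V m)).1 hzero
  refine ⟨X.presheaf.germ V x hx (s : Γ(X, V)), fun hc => s.2 ((SetLike.ext_iff.1 hq _).2 hc), ?_⟩
  have hm' : X.presheaf.germ V x hx (t : Γ(X, V)) • RefHull.stalkMapₗ φ x v = G.presheaf.germ V x hx (φ.app V m) := by
    rw [← RefHull.stalkMapₗ_germ φ x hx, ← map_smul]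
    exact congrArg (RefHull.stalkMapₗ φ x) hm
  have hu : IsUnit (X.presheaf.germ V x hx (t : Γ(X, V))) :=
    IsLocalization.map_units (X.presheaf.stalk x) t
  refine (hu.smul_eq_zero).1 ?_
  rw [smul_comm, hm', ← QCoh.germ_smul' G hx]
  exact (congrArg (G.presheaf.germ V x hx) hs).trans (map_zero _)

/-- A morphism vanishing on an open set vanishes on its stalks. -/
theorem stalkMap_eq_zero_of_restrict {F G : X.Modules} (φ : F ⟶ G) (U : X.Opens)
    (hU : (Scheme.Modules.restrictFunctor U.ι).map φ = 0) {y : X} (hy : y ∈ U) (v : F.presheaf.stalk y) :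
    RefHull.stalkMapₗ φ y v = 0 := by
  obtain ⟨W, hW, s, rfl⟩ := TopCat.Presheaf.exists_germ_eq F.presheaf v
  rw [← ZClosLib.germ_res F (inf_le_left : W ⊓ U ≤ W) ⟨hW, hy⟩, RefHull.stalkMapₗ_germ]
  have hV : W ⊓ U = U.ι ''ᵁ (U.ι ⁻¹ᵁ W) := by
    rw [Scheme.Hom.image_preimage_eq_opensRange_inf, Scheme.Opens.opensRange_ι, inf_comm]
  have h0 : ∀ V : X.Opens, V = U.ι ''ᵁ (U.ι ⁻¹ᵁ W) → ∀ t : Γ(F, V), φ.app V t = 0 := by
    rintro V rfl t
    exact congrArg (fun ψ => (Scheme.Modules.Hom.app ψ (U.ι ⁻¹ᵁ W)) t) hU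
  rw [h0 _ hV, map_zero]

/-- A morphism into a sheaf without embedded germs vanishing at the maximal points is zero. -/
theorem eq_zero_of_vanish_generic [IsLocallyNoetherian X] {F G : X.Modules} (hF : Coh.IsQCoh F) (hG : Coh.IsQCoh G)
    (hG' : ∀ (x : X) (r : X.presheaf.stalk x), (∀ p ∈ minimalPrimes (X.presheaf.stalk x), r ∉ p) →
      ∀ w : G.presheaf.stalk x, r • w = 0 → w = 0)
    (φ : F ⟶ G) (hφ : ∀ g : X, (∀ y, y ⤳ g → y = g) → ∀ v, RefHull.stalkMapₗ φ g v = 0) : φ = 0 := by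
  refine CurveHom.eq_zero_of_stalk φ fun x v => ?_
  let w := RefHull.stalkMapₗ φ x v
  let J : Ideal (X.presheaf.stalk x) := LinearMap.ker (LinearMap.toSpanSingleton (X.presheaf.stalk x) _ w)
  haveI : IsNoetherianRing (X.presheaf.stalk x) := inferInstance
  by_contra hw
  have hsub : (J : Set (X.presheaf.stalk x)) ⊆ ⋃ p ∈ (minimalPrimes (X.presheaf.stalk x)), (p : Set _) := by
    intro r hr
    by_contra hn
    simp only [Set.mem_iUnion, not_exists] at hn
    exact hw (hG' x r (fun p hp hrp => hn p hp hrp) w hr)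
  have hfin := minimalPrimes.finite_of_isNoetherianRing (R := X.presheaf.stalk x)
  obtain ⟨p, hp, hJp⟩ := (Ideal.subset_union_prime_finite hfin ⊥ ⊥ fun p hp _ _ => hp.1.1).1 hsub
  haveI := hp.1.1
  obtain ⟨a, ha, ha0⟩ := exists_notMem_smul_eq_zero hF hG φ x ⟨p, hp.1.1⟩
    (hφ _ (DimFormula.maximal_of_minimalPrime x (a := ⟨p, hp.1.1⟩) hp)) v
  exact ha (hJp ha0)

/-- Rank one at the maximal points gives rank one on a dense open. -/
theorem exists_dense_rank_one [IsLocallyNoetherian X] {G : X.Modules} (hG : Coh.IsCoh G)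
    (hfield : ∀ g : X, (∀ y, y ⤳ g → y = g) → IsField (X.presheaf.stalk g))
    (hgen : ∀ g : X, (∀ y, y ⤳ g → y = g) →
      ∃ v : G.presheaf.stalk g, v ≠ 0 ∧ ∀ w, ∃ r : X.presheaf.stalk g, r • v = w) :
    ∃ U : X.Opens, Dense (U : Set X) ∧ FlatMod.IsFinLocFreeOfRank 1 (G.restrict U.ι) := by
  have key : ∀ g : {g : X // ∀ y, y ⤳ g → y = g}, ∃ U : X.Opens, g.1 ∈ U ∧
      Nonempty (G.restrict U.ι ≅ FlatMod.freeMod (U : Scheme.{u}) 1) := by
    rintro ⟨g, hg⟩
    letI := (hfield g hg).toField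
    obtain ⟨v, hv, hvs⟩ := hgen g hg
    have hrk : Module.finrank (X.presheaf.stalk g) (G.presheaf.stalk g) = 1 := finrank_eq_one v hv hvs
    obtain ⟨U, n, hgU, ⟨e⟩⟩ := QCoh.exists_free_nhd_of_free_stalk (QCoh.isCoh_iff_isFP.1 hG) g
    obtain ⟨_, ⟨V, hV, rfl⟩, hgV, hle⟩ :=
      X.isBasis_affineOpens.exists_subset_of_mem_open (show g ∈ U from hgU) U.2
    obtain ⟨l⟩ := QCoh.free_sections hV hle e
    obtain rfl : n = 1 := (QCoh.finrank_stalk_of_freeChart hV hG.1 l hgV).symm.trans hrk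
    exact ⟨U, hgU, ⟨e⟩⟩
  choose U hU e using key
  refine ⟨⨆ g, U g, fun x => ?_, ?_⟩
  · obtain ⟨g, hg, hmax⟩ := FibDim.exists_maximal_generization x
    exact closure_mono (Set.singleton_subset_iff.2 (Opens.mem_iSup.2 ⟨⟨g, hmax⟩, hU ⟨g, hmax⟩⟩))
      (specializes_iff_mem_closure.1 hg)
  · refine ConsPropLib.isFinLocFreeOfRank_of_cover (fun g => X.homOfLE (le_iSup U g)) (fun y => ?_) fun g z => ?_
    · obtain ⟨g, hg⟩ := Opens.mem_iSup.1 y.2
      exact ⟨g, ⟨y.1, hg⟩, (⨆ g, U g).ι.isOpenEmbedding.injective (by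
        rw [← Scheme.Hom.comp_apply, X.homOfLE_ι]; rfl)⟩
    · exact ⟨⊤, trivial, ⟨(Scheme.Modules.restrictFunctor _).mapIso (QCoh.restrictRestrict G _ _ ≪≫
        (Scheme.Modules.restrictFunctorCongr (X.homOfLE_ι (le_iSup U g))).app G ≪≫ (e g).some) ≪≫
          QCoh.freeModRestrict _ 1⟩⟩

end Groth.Agent.ExtShX
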