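import Groth.Agent.ExtShX.Killed

/-!
# The first nonvanishing `Ext` of modules killed by an ideal, naturally
-/

set_option linter.style.haveILetI false
set_option linter.unusedSectionVars false
set_option backward.isDefEq.respectTransparency false
set_option backward.isDefEq.respectTransparency.types false
set_option maxHeartbeats 1000000

universe u

open CategoryTheory CategoryTheory.Limits AlgebraicGeometry TopologicalSpace Opposite

noncomputable section

attribute [local instance] CategoryTheory.Abelian.hasFiniteBiproducts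

namespace Groth.Agent.ExtShX

variable {X : Scheme.{u}} {A : Type u} [CommRing A] [X.Over (Spec (CommRingCat.of A))] [HasExt.{u} X.Modules]

section Shift

variable (Z I : ℕ → X.Modules) [∀ n, Injective (I n)] (f : ∀ n, Z n ⟶ I n) (g : ∀ n, I n ⟶ Z (n + 1))
  (w : ∀ n, f n ≫ g n = 0) (hS : ∀ n, (ShortComplex.mk (f n) (g n) (w n)).ShortExact)

include hS in
/-- Dimension shifting, naturally. -/
theorem exists_shift_natural : ∀ (n j l : ℕ), j + n = l →
    ∃ L : ∀ G, (G ⟶ Z (l + 1)) →ₗ[A] Abelian.Ext G (Z j) (n + 1),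
      (∀ G, Function.Surjective (L G) ∧ ∀ v, L G v = 0 ↔ ∃ u : G ⟶ I l, u ≫ g l = v) ∧
      ∀ (G G' : X.Modules) (φ : G ⟶ G') (v : G' ⟶ Z (l + 1)),
        L G (φ ≫ v) = (Abelian.Ext.mk₀ φ).comp (L G' v) (zero_add (n + 1)) := by
  intro n
  induction n with
  | zero =>
    intro j l h
    obtain rfl : j = l := by omega
    let L : ∀ G, (G ⟶ Z (j + 1)) →ₗ[A] Abelian.Ext G (Z j) 1 := fun G =>
      (Abelian.Ext.postcompOfLinear (hS j).extClass A G (zero_add 1)) ∘ₗ
        (Abelian.Ext.linearEquiv₀ (R := A)).symm.toLinearMap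
    have hL : ∀ G v, L G v = (Abelian.Ext.mk₀ v).comp (hS j).extClass (zero_add 1) := fun G v => rfl
    refine ⟨L, fun G => ⟨fun x => ?_, fun v => ⟨fun hv => ?_, ?_⟩⟩, fun G G' φ v => ?_⟩
    · obtain ⟨y, hy⟩ := Abelian.Ext.covariant_sequence_exact₁ G (hS j) x
        (Abelian.Ext.eq_zero_of_injective _) (n₀ := 0) rfl
      obtain ⟨v, rfl⟩ := (Abelian.Ext.mk₀_bijective _ _).2 y
      exact ⟨v, (hL G v).trans hy⟩
    · obtain ⟨y, hy⟩ := Abelian.Ext.covariant_sequence_exact₃ G (hS j) (Abelian.Ext.mk₀ v) (n₁ := 1) rfl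
        ((hL G v).symm.trans hv)
      obtain ⟨u, rfl⟩ := (Abelian.Ext.mk₀_bijective _ _).2 y
      rw [Abelian.Ext.mk₀_comp_mk₀] at hy
      exact ⟨u, (Abelian.Ext.mk₀_bijective _ _).1 hy⟩
    · rintro ⟨u, rfl⟩
      rw [hL, ← Abelian.Ext.mk₀_comp_mk₀, Abelian.Ext.comp_assoc_of_second_deg_zero, (hS j).comp_extClass,
        Abelian.Ext.comp_zero]
    · rw [hL, hL, ← Abelian.Ext.mk₀_comp_mk₀, Abelian.Ext.comp_assoc_of_second_deg_zero]
  | succ n ih =>
    intro j l h
    obtain ⟨L, hL, hLn⟩ := ih (j + 1) l (by omega)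
    let δ : ∀ G, Abelian.Ext G (Z (j + 1)) (n + 1) →ₗ[A] Abelian.Ext G (Z j) (n + 2) := fun G =>
      Abelian.Ext.postcompOfLinear (hS j).extClass A G rfl
    have hδi : ∀ G y, δ G y = 0 → y = 0 := fun G y hy => by
      obtain ⟨x₂, rfl⟩ := Abelian.Ext.covariant_sequence_exact₃ G (hS j) y (n₁ := n + 2) rfl hy
      rw [Abelian.Ext.eq_zero_of_injective x₂, Abelian.Ext.zero_comp]
    refine ⟨fun G => δ G ∘ₗ L G, fun G => ⟨fun x => ?_, fun v => ?_⟩, fun G G' φ v => ?_⟩
    · obtain ⟨y, hy⟩ := Abelian.Ext.covariant_sequence_exact₁ G (hS j) x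
        (Abelian.Ext.eq_zero_of_injective _) (n₀ := n + 1) rfl
      obtain ⟨v, rfl⟩ := (hL G).1 y
      exact ⟨v, hy⟩
    · exact ⟨fun hv => ((hL G).2 v).1 (hδi G _ hv),
        fun hv => (congrArg (δ G) (((hL G).2 v).2 hv)).trans (map_zero (δ G))⟩
    · show (L G (φ ≫ v)).comp (hS j).extClass rfl = (Abelian.Ext.mk₀ φ).comp ((L G' v).comp (hS j).extClass rfl) _
      rw [hLn]
      exact Abelian.Ext.comp_assoc _ _ _ (zero_add _) rfl (by omega)

end Shift

variable {Q : X.Modules} (π : Coh.structureModule X ⟶ Q) [Epi π]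

/-- Injective relative to killed modules. -/
def RelInj (Z : X.Modules) : Prop :=
  ∀ ⦃M N : X.Modules⦄ (i : M ⟶ N) [Mono i], Killed π M → Killed π N → ∀ v : M ⟶ Z, ∃ w : N ⟶ Z, i ≫ w = v

theorem relInj_hom (I : X.Modules) [Injective I] : RelInj π ((SheafHomX.hom Q).obj I) := by
  intro M N i _ hM hN v
  obtain ⟨w, hw⟩ := (bijective_comp_evUnit π hN I).2 (Injective.factorThru (v ≫ (evUnit π).app I) i)
  refine ⟨w, (bijective_comp_evUnit π hM I).1 ?_⟩
  show (i ≫ w) ≫ (evUnit π).app I = v ≫ (evUnit π).app I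
  rw [Category.assoc, show w ≫ (evUnit π).app I = Injective.factorThru (v ≫ (evUnit π).app I) i from hw]
  exact Injective.comp_factorThru _ _

theorem relInj_of_retract {Z W : X.Modules} (hW : RelInj π W) (t : Z ⟶ W) (p : W ⟶ Z) (h : t ≫ p = 𝟙 Z) :
    RelInj π Z := by
  intro M N i _ hM hN v
  obtain ⟨w, hw⟩ := hW i hM hN (v ≫ t)
  exact ⟨w ≫ p, by rw [← Category.assoc, hw, Category.assoc, h, Category.comp_id]⟩

theorem exists_section {S : ShortComplex X.Modules} (hS : S.ShortExact) (h1 : RelInj π S.X₁)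
    (hk1 : Killed π S.X₁) (hk2 : Killed π S.X₂) : ∃ t : S.X₃ ⟶ S.X₂, t ≫ S.g = 𝟙 _ := by
  haveI := hS.mono_f
  haveI := hS.epi_g
  obtain ⟨s, hs⟩ := h1 S.f hk1 hk2 (𝟙 _)
  refine ⟨hS.exact.desc (𝟙 _ - s ≫ S.f) (by rw [Preadditive.comp_sub, Category.comp_id, ← Category.assoc, hs,
    Category.id_comp, sub_self]), ?_⟩
  rw [← cancel_epi S.g, ← Category.assoc, hS.exact.g_desc, Preadditive.sub_comp, Category.id_comp, Category.assoc,
    S.zero, comp_zero, sub_zero, Category.comp_id]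

/-- Postcomposition by the evaluation, as a linear equivalence. -/
def evUnitEquiv {G : X.Modules} (hG : Killed π G) (N : X.Modules) :
    (G ⟶ (SheafHomX.hom Q).obj N) ≃ₗ[A] (G ⟶ N) :=
  LinearEquiv.ofBijective (Linear.rightComp A G ((evUnit π).app N)) (bijective_comp_evUnit π hG N)

/-- `Ext^c(G, L) = Hom(G, Ext^c(Q, L))` for killed `G`, naturally. -/
theorem exists_ext_hom_natural (hQ : Killed π Q) (L₀ : X.Modules) (c : ℕ)
    (h : ∀ j, j < c → IsZero ((E Q j).obj L₀)) :
    ∃ Φ : ∀ G, Killed π G → (Abelian.Ext G L₀ c ≃ₗ[A] (G ⟶ (E Q c).obj L₀)),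
      ∀ (G G' : X.Modules) (hG : Killed π G) (hG' : Killed π G') (φ : G ⟶ G') (e : Abelian.Ext G' L₀ c),
        Φ G hG ((Abelian.Ext.mk₀ φ).comp e (zero_add c)) = φ ≫ Φ G' hG' e := by
  rcases c with _ | m
  · let Φ : ∀ G, Killed π G → (Abelian.Ext G L₀ 0 ≃ₗ[A] (G ⟶ (E Q 0).obj L₀)) := fun G hG =>
      (Abelian.Ext.linearEquiv₀ (R := A)).trans ((evUnitEquiv π hG L₀).symm.trans
        (Linear.homCongr A (Iso.refl G) ((zeroIso Q).app L₀).symm))
    have hΦ : ∀ G hG (v : G ⟶ L₀), Φ G hG (Abelian.Ext.mk₀ v) =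
        (evUnitEquiv (A := A) π hG L₀).symm v ≫ ((zeroIso Q).app L₀).inv := fun G hG v => by
      show (Iso.refl G).inv ≫ (evUnitEquiv (A := A) π hG L₀).symm ((Abelian.Ext.linearEquiv₀ (R := A))
        (Abelian.Ext.mk₀ v)) ≫ ((zeroIso Q).app L₀).inv = _
      rw [show (Abelian.Ext.linearEquiv₀ (R := A)) (Abelian.Ext.mk₀ v) = v from
        (Abelian.Ext.linearEquiv₀ (R := A)).apply_symm_apply v]
      exact Category.id_comp _
    refine ⟨Φ, fun G G' hG hG' φ e => ?_⟩
    obtain ⟨v, rfl⟩ := (Abelian.Ext.mk₀_bijective _ _).2 e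
    rw [Abelian.Ext.mk₀_comp_mk₀, hΦ, hΦ, ← Category.assoc]
    refine congrArg (· ≫ _) ((LinearEquiv.symm_apply_eq _).2 ?_)
    show φ ≫ v = (φ ≫ (evUnitEquiv (A := A) π hG' L₀).symm v) ≫ (evUnit π).app L₀
    rw [Category.assoc]
    exact congrArg (φ ≫ ·) ((evUnitEquiv (A := A) π hG' L₀).apply_symm_apply v).symm
  let R := injectiveResolution L₀
  let H := SheafHomX.hom Q
  let d := fun n => R.cocomplex.d n (n + 1)
  let Z : ℕ → X.Modules := fun n => kernel (d n)
  let I : ℕ → X.Modules := fun n => R.cocomplex.X n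
  let g : ∀ n, I n ⟶ Z (n + 1) := fun n => kernel.lift (d (n + 1)) (d n) (R.cocomplex.d_comp_d _ _ _)
  haveI : ∀ n, Injective (I n) := fun n => R.injective n
  have hg : ∀ n, Epi (g n) := fun n => (R.exact_succ n).epi_kernelLift
  have w : ∀ n, kernel.ι (d n) ≫ g n = 0 := fun n => by
    rw [← cancel_mono (kernel.ι (d (n + 1))), Category.assoc, kernel.lift_ι, kernel.condition, zero_comp]
  have hS : ∀ n, (ShortComplex.mk (kernel.ι (d n)) (g n) (w n)).ShortExact := fun n =>
    { exact := by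
        refine ShortComplex.exact_of_f_is_kernel _ (KernelFork.IsLimit.ofι' _ _ fun {W} k hk => ?_)
        have hkd : k ≫ d n = 0 :=
          ((congrArg (k ≫ ·) (kernel.lift_ι (d (n + 1)) (d n) (R.cocomplex.d_comp_d _ _ _))).symm.trans
            (Category.assoc _ _ _).symm).trans ((congrArg (· ≫ kernel.ι (d (n + 1))) hk).trans zero_comp)
        exact ⟨kernel.lift (d n) k hkd, kernel.lift_ι _ _ _⟩
      mono_f := inferInstanceAs (Mono (kernel.ι (d n)))
      epi_g := hg n }
  -- the local Ext sheaves as cokernels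
  have hc : ∀ n, Nonempty (cokernel (H.map (g n)) ≅ (E Q (n + 1)).obj L₀) := fun n => by
    let C := (H.mapHomologicalComplex (ComplexShape.up ℕ)).obj R.cocomplex
    let T := C.sc' n (n + 1) (n + 2)
    have hk : IsLimit (KernelFork.ofι (H.map (kernel.ι (d (n + 1))))
        (show H.map (kernel.ι (d (n + 1))) ≫ H.map (d (n + 1)) = 0 by
          rw [← Functor.map_comp, kernel.condition, Functor.map_zero])) :=
      isLimitForkMapOfIsLimit' H (kernel.condition (d (n + 1))) (kernelIsKernel (d (n + 1)))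
    haveI : Mono (H.map (kernel.ι (d (n + 1)))) := mono_of_isLimit_fork hk
    have he : hk.lift (KernelFork.ofι T.f T.zero) = H.map (g n) :=
      (cancel_mono (H.map (kernel.ι (d (n + 1))))).1 ((Fork.IsLimit.lift_ι hk).trans (by
        rw [← Functor.map_comp, kernel.lift_ι]; rfl))
    let hd : T.LeftHomologyData :=
      { K := H.obj (Z (n + 1))
        H := cokernel (H.map (g n))
        i := H.map (kernel.ι (d (n + 1)))
        π := cokernel.π (H.map (g n))
        wi := by
          show H.map (kernel.ι (d (n + 1))) ≫ H.map (d (n + 1)) = 0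
          rw [← Functor.map_comp, kernel.condition, Functor.map_zero]
        hi := hk
        wπ := by rw [he]; exact cokernel.condition _
        hπ := CokernelCofork.IsColimit.ofπ _ _
          (fun g' hg' => cokernel.desc (H.map (g n)) g' (by rw [← he]; exact hg'))
          (fun g' hg' => cokernel.π_desc _ _ _) fun g' hg' m' hm => by
            rw [← cancel_epi (cokernel.π (H.map (g n)))]
            simpa using hm }
    exact ⟨hd.homologyIso.symm ≪≫ (C.homologyIsoSc' n (n + 1) (n + 2) (by simp) (by simp)).symm ≪≫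
      (R.isoRightDerivedObj H (n + 1)).symm⟩
  -- the two short exact sequences through the image
  let b : ∀ n, cokernel (H.map (kernel.ι (d n))) ⟶ H.obj (Z (n + 1)) := fun n =>
    cokernel.desc _ (H.map (g n)) (by rw [← Functor.map_comp, w, Functor.map_zero])
  have hl : ∀ n, ((ShortComplex.mk (kernel.ι (d n)) (g n) (w n)).map H).Exact ∧ Mono (H.map (kernel.ι (d n))) :=
    fun n => ((Functor.preservesFiniteLimits_tfae H).out 3 0 rfl rfl).1 inferInstance _ (hS n)
  have hT₁ : ∀ n, (ShortComplex.mk (H.map (kernel.ι (d n))) (cokernel.π _) (cokernel.condition _)).ShortExact := fun n =>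
    haveI := (hl n).2
    { exact := ShortComplex.exact_of_g_is_cokernel _ (cokernelIsCokernel _) }
  have hbm : ∀ n, Mono (b n) := fun n => (hl n).1.mono_cokernelDesc
  have hT₂ : ∀ n, (ShortComplex.mk (b n) (cokernel.π (b n)) (cokernel.condition _)).ShortExact := fun n =>
    haveI := hbm n
    { exact := ShortComplex.exact_of_g_is_cokernel _ (cokernelIsCokernel _) }
  have hπb : ∀ n, cokernel.π _ ≫ b n = H.map (g n) := fun n => cokernel.π_desc _ _ _
  have hcb : ∀ n, Nonempty (cokernel (b n) ≅ (E Q (n + 1)).obj L₀) := fun n => by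
    obtain ⟨c⟩ := hc n
    exact ⟨(cokernelEpiComp (cokernel.π (H.map (kernel.ι (d n)))) (b n)).symm ≪≫
      eqToIso (by congr 1; exact hπb n) ≪≫ c⟩
  have hk : ∀ n, Killed π (H.obj (Z n)) := fun n => killed_hom π hQ _
  have hsec : ∀ n, RelInj π (H.obj (Z n)) → ∃ t : cokernel (H.map (kernel.ι (d n))) ⟶ H.obj (I n),
      t ≫ cokernel.π (H.map (kernel.ι (d n))) = 𝟙 _ := fun n hn =>
    exists_section π (hT₁ n) hn (hk n) (killed_hom π hQ (I n))
  have hB : ∀ n, RelInj π (H.obj (Z n)) → RelInj π (cokernel (H.map (kernel.ι (d n)))) := fun n hn => by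
    obtain ⟨t, ht⟩ := hsec n hn
    exact relInj_of_retract π (relInj_hom π (I n)) t _ ht
  have hkB : ∀ n, Killed π (cokernel (H.map (kernel.ι (d n)))) := fun n =>
    haveI := hbm n
    killed_of_mono π (b n) (hk (n + 1))
  have hK : ∀ n, n ≤ m → RelInj π (H.obj (Z n)) := by
    intro n
    induction n with
    | zero =>
      intro _ M N i _ _ _ v
      let ψ : L₀ ≅ Z 0 := IsLimit.conePointUniqueUpToIso R.isLimitKernelFork (limit.isLimit _)
      have hz : IsZero (H.obj (Z 0)) :=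
        (h 0 (Nat.succ_pos m)).of_iso (((zeroIso Q).app L₀) ≪≫ H.mapIso ψ).symm
      exact ⟨0, hz.eq_of_tgt _ _⟩
    | succ n ih =>
      intro hn
      obtain ⟨c⟩ := hcb n
      have hz : IsZero (cokernel (b n)) := (h (n + 1) (by omega)).of_iso c
      haveI := hbm n
      haveI : Epi (b n) := Preadditive.epi_of_cokernel_zero (hz.eq_of_tgt _ _)
      haveI : IsIso (b n) := isIso_of_mono_of_epi _
      exact relInj_of_retract π (hB n (ih (by omega))) (inv (b n)) (b n) (IsIso.inv_hom_id _)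
  obtain ⟨c⟩ := hcb m
  obtain ⟨t, ht⟩ := hsec m (hK m le_rfl)
  obtain ⟨t', ht'⟩ := exists_section π (hT₂ m) (hB m (hK m le_rfl)) (hkB m) (hk (m + 1))
  obtain ⟨L, hL, hLn⟩ := exists_shift_natural (A := A) Z I (fun n => kernel.ι (d n)) g w hS m 0 m (zero_add m)
  let q : ∀ G, Killed π G → ((G ⟶ Z (m + 1)) →ₗ[A] (G ⟶ (E Q (m + 1)).obj L₀)) := fun G hG =>
    (Linear.rightComp A G (cokernel.π (b m) ≫ c.hom)) ∘ₗ (evUnitEquiv π hG (Z (m + 1))).symm.toLinearMap
  have hq : ∀ G hG v, q G hG v = (evUnitEquiv (A := A) π hG (Z (m + 1))).symm v ≫ cokernel.π (b m) ≫ c.hom :=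
    fun G hG v => rfl
  have hker : ∀ G (hG : Killed π G) v, L G v = 0 ↔ q G hG v = 0 := fun G hG v => by
    rw [(hL G).2 v, hq]
    constructor
    · rintro ⟨u, rfl⟩
      have e : (evUnitEquiv (A := A) π hG (Z (m + 1))).symm (u ≫ g m) =
          (evUnitEquiv (A := A) π hG (I m)).symm u ≫ H.map (g m) := by
        refine (LinearEquiv.symm_apply_eq _).2 ?_
        show u ≫ g m = ((evUnitEquiv (A := A) π hG (I m)).symm u ≫ H.map (g m)) ≫ (evUnit π).app (Z (m + 1))
        rw [Category.assoc, (evUnit π).naturality (g m), ← Category.assoc]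
        exact congrArg (· ≫ g m) ((evUnitEquiv (A := A) π hG (I m)).apply_symm_apply u).symm
      rw [e, ← hπb]
      simp only [Category.assoc]
      rw [cokernel.condition_assoc]
      simp
    · intro hv
      have h0 : (evUnitEquiv (A := A) π hG (Z (m + 1))).symm v ≫ cokernel.π (b m) = 0 := by
        rw [← cancel_mono c.hom, Category.assoc, hv, zero_comp]
      haveI := hbm m
      let z := (hT₂ m).exact.lift _ h0
      refine ⟨(z ≫ t) ≫ (evUnit π).app (I m), ?_⟩
      have hz : (z ≫ t) ≫ H.map (g m) = (evUnitEquiv (A := A) π hG (Z (m + 1))).symm v := by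
        rw [← hπb, Category.assoc, reassoc_of% ht]
        exact (hT₂ m).exact.lift_f _ h0
      have := congrArg (evUnitEquiv (A := A) π hG (Z (m + 1))) hz
      rw [LinearEquiv.apply_symm_apply] at this
      refine Eq.trans ?_ this
      show ((z ≫ t) ≫ (evUnit π).app (I m)) ≫ g m = ((z ≫ t) ≫ H.map (g m)) ≫ (evUnit π).app (Z (m + 1))
      rw [Category.assoc, Category.assoc (z ≫ t), (evUnit π).naturality (g m)]
      rfl
  have hqs : ∀ G hG, Function.Surjective (q G hG) := fun G hG x => by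
    refine ⟨evUnitEquiv (A := A) π hG _ ((x ≫ c.inv) ≫ t'), ?_⟩
    rw [hq, LinearEquiv.symm_apply_apply, Category.assoc, Category.assoc,
      show t' ≫ cokernel.π (b m) ≫ c.hom = c.hom from by
        rw [← Category.assoc, show t' ≫ cokernel.π (b m) = 𝟙 _ from ht', Category.id_comp],
      c.inv_hom_id, Category.comp_id]
  let ψ : L₀ ≅ Z 0 := IsLimit.conePointUniqueUpToIso R.isLimitKernelFork (limit.isLimit _)
  let e₀ : ∀ G, Abelian.Ext G L₀ (m + 1) ≃ₗ[A] Abelian.Ext G (Z 0) (m + 1) := fun G =>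
    { ((Abelian.extFunctorObj G (m + 1)).mapIso ψ).addCommGroupIsoToAddEquiv with
      map_smul' := fun r y => Abelian.Ext.smul_comp y (Abelian.Ext.mk₀ ψ.hom) (add_zero _) r }
  let Φ : ∀ G, Killed π G → (Abelian.Ext G L₀ (m + 1) ≃ₗ[A] (G ⟶ (E Q (m + 1)).obj L₀)) := fun G hG =>
    (e₀ G).trans (((L G).quotKerEquivOfSurjective (hL G).1).symm.trans
      ((Submodule.quotEquivOfEq _ _ (Submodule.ext (hker G hG))).trans
        ((q G hG).quotKerEquivOfSurjective (hqs G hG))))
  have hΦ : ∀ G hG v (e : Abelian.Ext G L₀ (m + 1)), e₀ G e = L G v → Φ G hG e = q G hG v := fun G hG v e he => by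
    show (q G hG).quotKerEquivOfSurjective (hqs G hG) (Submodule.quotEquivOfEq _ _ _
      (((L G).quotKerEquivOfSurjective (hL G).1).symm (e₀ G e))) = _
    rw [he, show ((L G).quotKerEquivOfSurjective (hL G).1).symm (L G v) = Submodule.Quotient.mk v from
      (LinearEquiv.symm_apply_eq _).2 rfl]
    rfl
  refine ⟨Φ, fun G G' hG hG' φ e => ?_⟩
  obtain ⟨v, hv⟩ := (hL G').1 (e₀ G' e)
  have he : e₀ G ((Abelian.Ext.mk₀ φ).comp e (zero_add _)) = L G (φ ≫ v) := by
    rw [hLn, hv]
    show ((Abelian.Ext.mk₀ φ).comp e (zero_add _)).comp (Abelian.Ext.mk₀ ψ.hom) (add_zero _) =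
      (Abelian.Ext.mk₀ φ).comp (e.comp (Abelian.Ext.mk₀ ψ.hom) (add_zero _)) (zero_add _)
    exact Abelian.Ext.comp_assoc_of_third_deg_zero _ _ _ _
  rw [hΦ G hG _ _ he, hΦ G' hG' v e hv.symm, hq, hq]
  simp only [← Category.assoc]
  refine congrArg (fun y => y ≫ c.hom) (congrArg (fun y => y ≫ cokernel.π (b m)) ((LinearEquiv.symm_apply_eq _).2 ?_))
  show φ ≫ v = (φ ≫ (evUnitEquiv (A := A) π hG' (Z (m + 1))).symm v) ≫ (evUnit π).app (Z (m + 1))
  rw [Category.assoc]
  exact congrArg (φ ≫ ·) ((evUnitEquiv (A := A) π hG' (Z (m + 1))).apply_symm_apply v).symm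

end Groth.Agent.ExtShX
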