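import Groth.Agent.ExtShX.Pairing
import Groth.Agent.ExtShX.KilledExt
import Groth.Agent.ExtShX.CanonSheaf
import Groth.Agent.ExtShX.CodimPn
import Groth.Agent.QCoh.PushLin

/-!
# The dualizing sheaf of a closed subscheme of projective space
-/

set_option linter.style.haveILetI false
set_option linter.unusedSectionVars false
set_option backward.isDefEq.respectTransparency false
set_option backward.isDefEq.respectTransparency.types false
set_option maxHeartbeats 1000000

universe u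

open CategoryTheory CategoryTheory.Limits AlgebraicGeometry TopologicalSpace Opposite

noncomputable section

namespace Groth.Agent.ExtShX

/-- Cohomology of direct images, naturally and linearly. -/
theorem exists_push_HH (A : Type u) [CommRing A] {X P : Scheme.{u}} [X.Over (Spec (CommRingCat.of A))]
    [P.Over (Spec (CommRingCat.of A))] (i : X ⟶ P) [IsAffineHom i]
    (hi : i ≫ (P ↘ Spec (CommRingCat.of A)) = X ↘ Spec (CommRingCat.of A)) (n : ℕ) :
    ∃ e : ∀ M : X.Modules, Coh.IsQCoh M → (Coh.HH X M n ≃ₗ[A] Coh.HH P ((Coh.push i).obj M) n),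
      ∀ (M M' : X.Modules) (hM : Coh.IsQCoh M) (hM' : Coh.IsQCoh M') (φ : M ⟶ M') (x : Coh.HH X M n),
        e M' hM' (Canon.HHlin A φ n x) = Canon.HHlin A ((Coh.push i).map φ) n (e M hM x) := by
  have hb : QCoh.Ab.PreimageBasis i.base (QCoh.stdCovers X) := fun U y hy => by
    obtain ⟨_, ⟨W, hW, rfl⟩, hyW, hWU⟩ := P.isBasis_affineOpens.exists_subset_of_mem_open hy U.2
    exact ⟨W, hWU, hyW, hW.preimage i⟩
  obtain ⟨e, he⟩ := QCoh.Ab.H_push_natural i.base (QCoh.stdCovers X) hb n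
  refine ⟨fun M hM => AddEquiv.toLinearEquiv (e (QCoh.abSheaf M) (QCoh.stdCovers_acyclic hM)) fun a x => ?_,
    fun M M' hM hM' φ x => he _ _ (QCoh.stdCovers_acyclic hM) (QCoh.stdCovers_acyclic hM')
      ((QCoh.toAbFunctor X).map φ) x⟩
  refine (he (QCoh.abSheaf M) (QCoh.abSheaf M) (QCoh.stdCovers_acyclic hM) (QCoh.stdCovers_acyclic hM)
    (Coh.smulAb M (Coh.toGlobal (X ↘ Spec (CommRingCat.of A)) a)) x).trans ?_
  rw [show Coh.toGlobal (X ↘ Spec (CommRingCat.of A)) a =
    i.appTop (Coh.toGlobal (P ↘ Spec (CommRingCat.of A)) a) from by rw [← hi]; rfl, QCoh.smulAb_push]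
  rfl

variable (k : Type u) [Field k] {N : ℕ} {X : Scheme.{u}} [X.Over (Spec (CommRingCat.of k))]
  (ι : X ⟶ CohB1.ProjSpace N k) [IsClosedImmersion ι]

/-- `Ext^c(ι_* O, ω_P)` on projective space. -/
abbrev canonPush (c : ℕ) : (CohB1.ProjSpace N k).Modules :=
  (E ((Coh.push ι).obj (Coh.structureModule X)) c).obj (Twist.twistProjSpace N k (-((N : ℤ) + 1)))

/-- `Ext^c(ι_* O, ω_P)` represents `H^n(X, -)^*` when the codimension is at least `c`. -/
theorem exists_dualizing_closed (hι : ι ≫ CohB1.ProjSpace.toSpec N k = X ↘ Spec (CommRingCat.of k)) {n c : ℕ}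
    (hc : n + c = N) (hdim : topologicalKrullDim X + (c : WithBot ℕ∞) ≤ (N : WithBot ℕ∞)) {ω : X.Modules}
    (a : (Coh.push ι).obj ω ≅ canonPush k ι c) :
    Coh.IsCoh ω ∧ ∃ t : Coh.HH X ω n →ₗ[k] k, ∀ F : X.Modules, Coh.IsCoh F →
      Function.Bijective (Canon.dualityMap k X n ω t F) := by
  haveI : IsNoetherian (CohB1.ProjSpace N k) := PnVan.noethP (k := k) (r := N)
  haveI : IsLocallyNoetherian X := LocallyOfFiniteType.isLocallyNoetherian ι
  let om := Twist.twistProjSpace N k (-((N : ℤ) + 1))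
  have hom : FlatMod.IsFinLocFree om :=
    H23.PullPush.isFinLocFree_of_isInvertible (PnVan.invertible_twist _)
  have hQc : Coh.IsCoh ((Coh.push ι).obj (Coh.structureModule X)) :=
    QCoh.isCoh_pushforward_finite ι QCoh.isCoh_structureModule'
  have hωc : Coh.IsCoh ω := isCoh_of_push ι (SheafHomX.isCoh_of_iso a.symm
    (isCoh_E hQc (QCoh.isCoh_iff_isFP.2 (QCoh.isFP_of_isFinLocFree hom)) c))
  refine ⟨hωc, ?_⟩
  obtain ⟨Φ, hΦ⟩ := exists_ext_hom_natural (A := k) (piMap ι) (killed_push ι _) om c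
    fun j hj => isZero_E_pn ι c hdim hom hj
  obtain ⟨e, he⟩ := exists_push_HH k ι hι n
  obtain ⟨tP, htP⟩ := exists_trace_pn k N
  let ψ₀ : Abelian.Ext ((Coh.push ι).obj ω) om c := (Φ _ (killed_push ι ω)).symm a.hom
  refine ⟨(pair tP _ hc ψ₀) ∘ₗ (e ω hωc.1).toLinearMap, fun F hF => ?_⟩
  let B : (F ⟶ ω) → Module.Dual k (Coh.HH X F n) := fun φ =>
    (pair tP ((Coh.push ι).obj F) hc ((Φ _ (killed_push ι F)).symm ((Coh.push ι).map φ ≫ a.hom))) ∘ₗ
      (e F hF.1).toLinearMap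
  have hB : Canon.dualityMap k X n ω ((pair tP _ hc ψ₀) ∘ₗ (e ω hωc.1).toLinearMap) F = B := by
    funext φ
    refine LinearMap.ext fun x => ?_
    show pair tP _ hc ψ₀ (e ω hωc.1 (Canon.HHlin k φ n x)) = pair tP _ hc _ (e F hF.1 x)
    rw [he F ω hF.1 hωc.1 φ x, ← pair_natural]
    refine congrArg (fun y => pair tP _ hc y (e F hF.1 x)) ((LinearEquiv.eq_symm_apply _).2 ?_)
    rw [hΦ _ _ (killed_push ι F) (killed_push ι ω)]
    exact congrArg ((Coh.push ι).map φ ≫ ·) ((Φ _ (killed_push ι ω)).apply_symm_apply a.hom)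
  rw [hB]
  have h1 : Function.Bijective fun φ : F ⟶ ω => (Coh.push ι).map φ ≫ a.hom := by
    haveI := AmpleVan.faithful_push ι
    refine ⟨fun u v huv => (Coh.push ι).map_injective ((cancel_mono a.hom).1 huv), fun w => ?_⟩
    obtain ⟨u, hu⟩ := AmpleVan.exists_push_map ι hF.1 hωc.1 (w ≫ a.inv)
    exact ⟨u, by show (Coh.push ι).map u ≫ a.hom = w; rw [show (Coh.push ι).map u = w ≫ a.inv from hu, Category.assoc, a.inv_hom_id, Category.comp_id]⟩
  have h2 : Function.Bijective (pair tP ((Coh.push ι).obj F) hc (i := c)) :=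
    htP _ (QCoh.isCoh_pushforward_finite ι hF) c n hc
  exact ((e F hF.1).dualMap.bijective.comp
    ((h2.comp (Φ _ (killed_push ι F)).symm.bijective).comp h1) :)

/-- A bijective duality map, read as existence and uniqueness. -/
theorem existsUnique_of_bijective {n : ℕ} {ω F : X.Modules} (t : Coh.HH X ω n →ₗ[k] k)
    (h : Function.Bijective (Canon.dualityMap k X n ω t F)) (ψ : Coh.HH X F n →ₗ[k] k) :
    ∃! φ : F ⟶ ω, ∀ x : Coh.HH X F n,
      ψ x = t (Sheaf.H.map ((SheafOfModules.toSheaf X.ringCatSheaf).map φ) n x) := by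
  obtain ⟨φ, hφ⟩ := h.2 ψ
  exact ⟨φ, fun x => (LinearMap.congr_fun hφ x).symm,
    fun φ' h' => h.1 ((LinearMap.ext fun x => (h' x).symm).trans hφ.symm)⟩

end Groth.Agent.ExtShX
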