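import Groth.Agent.ExtShX.KoszulGlobal
import Groth.Agent.ExtShX.CodimPn
import Groth.Agent.ExtShX.DualClosed
import Groth.Agent.CotTLib.CI
import Groth.Agent.AmpleVan.LiftFibre
import Groth.Agent.RegImmLib.RegStalk

/-!
# Local complete intersections in projective space
-/

set_option linter.style.haveILetI false
set_option linter.unusedSectionVars false
set_option backward.isDefEq.respectTransparency false
set_option backward.isDefEq.respectTransparency.types false
set_option maxHeartbeats 1000000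

universe u

open CategoryTheory CategoryTheory.Limits AlgebraicGeometry TopologicalSpace Opposite

noncomputable section

namespace Groth.Agent.ExtShX

variable {X P : Scheme.{u}} (ι : X ⟶ P) [IsClosedImmersion ι]

/-- `r` local equations, regular at one point, give a chart near it. -/
theorem exists_chart_of_gens [IsLocallyNoetherian P] {r : ℕ} {U : P.Opens} (hU : IsAffineOpen U)
    {g : Fin r → Γ(P, U)} (hg : RingHom.ker (ι.app U).hom = Ideal.span (Set.range g)) {y : P} (hy : y ∈ U)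
    (hreg : RegSeqAt g y hy) : ∃ (c : Chart ι r), y ∈ c.U.1 := by
  haveI : IsNoetherianRing Γ(P, U) := IsLocallyNoetherian.component_noetherian ⟨U, hU⟩
  obtain ⟨W, hyW, hW⟩ := exists_regSeqAt_nhd hU hy hreg
  obtain ⟨_, ⟨V, hV, rfl⟩, hyV, hVle⟩ :=
    P.isBasis_affineOpens.exists_subset_of_mem_open (show y ∈ U ⊓ W from ⟨hy, hyW⟩) (Opens.is_open' _)
  have hVU : V ≤ U := fun z hz => (hVle hz).1
  refine ⟨⟨⟨V, hV⟩, fun i => AModX.resR hVU (g i), fun z hz => ?_, fun z hz j a ha => ?_, fun i => ?_⟩, hyV⟩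
  · rw [genOn_of_ker ι hU hg z (hVU hz)]
    simp only [RefX.germ_resR]
  · simp only [RefX.germ_resR] at ha ⊢
    exact hW z (hVle hz).2 (hVU hz) j a ha
  · show ι.app V (P.presheaf.map (homOfLE hVU).op (g i)) = 0
    refine (congr($(ι.naturality (homOfLE hVU).op) (g i))).trans ?_
    rw [ConcreteCategory.comp_apply, show ι.app U (g i) = 0 from RingHom.mem_ker.1
      (hg ▸ Ideal.subset_span ⟨i, rfl⟩), map_zero]

/-- In a regular local ring `r` equations cutting the dimension by `r` are regular in any order. -/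
theorem reg_of_dim {A B : Type u} [CommRing A] [CommRing B] [IsRegularLocalRing A] [IsLocalRing B] (f : A →+* B)
    (hf : Function.Surjective f) {r : ℕ} (g : Fin r → A) (hg : RingHom.ker f = Ideal.span (Set.range g))
    (hdim : (r : WithBot ℕ∞) + ringKrullDim B = ringKrullDim A) : Reg g := by
  have hlist : Ideal.ofList (List.ofFn fun i => g i.rev) = RingHom.ker f := by
    rw [hg, Ideal.ofList]
    congr 1
    ext a
    simp only [Set.mem_setOf_eq, List.mem_ofFn, Set.mem_range]
    exact ⟨fun ⟨i, hi⟩ => ⟨_, hi⟩, fun ⟨i, hi⟩ => ⟨i.rev, by rwa [Fin.rev_rev]⟩⟩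
  refine (reg_iff g).2 (CotTLib.isWeaklyRegular_of_dim _ (fun a ha => ?_) ?_)
  · refine IsLocalRing.le_maximalIdeal (RingHom.ker_ne_top f) ?_
    rw [← hlist]
    exact Ideal.subset_span ha
  · rw [List.length_ofFn, ringKrullDim_eq_of_ringEquiv ((Ideal.quotEquivOfEq hlist).trans
      (RingHom.quotientKerEquivOfSurjective hf))]
    exact hdim

/-- Local equations cutting the dimension correctly at the closed points give charts everywhere. -/
theorem exists_chart_of_closedPoints [IsLocallyNoetherian P] [JacobsonSpace X]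
    (hP : ∀ y : P, IsRegularLocalRing (P.presheaf.stalk y)) {r : ℕ}
    (hgen : ∀ x : X, ∃ U : P.affineOpens, ι.base x ∈ (U : P.Opens) ∧
      ∃ f : Fin r → Γ(P, (U : P.Opens)), ι.ker.ideal U = Ideal.span (Set.range f))
    (hdim : ∀ x₀ : X, IsClosed ({x₀} : Set X) → (r : WithBot ℕ∞) + ringKrullDim (X.presheaf.stalk x₀) =
      ringKrullDim (P.presheaf.stalk (ι x₀)))
    (x : X) : ∃ c : Chart ι r, ι x ∈ c.U.1 := by
  obtain ⟨x₀, hx₀, hx₀c⟩ := nonempty_inter_closedPoints (Z := closure ({x} : Set X))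
    ⟨x, subset_closure rfl⟩ isClosed_closure.isLocallyClosed
  have hsp : x ⤳ x₀ := specializes_iff_mem_closure.2 hx₀
  obtain ⟨U, hU, f, hf⟩ := hgen x₀
  rw [Scheme.Hom.ker_apply] at hf
  haveI := hP (ι x₀)
  have e₁ := genOn_of_ker ι U.2 hf (ι x₀) hU
  rw [ann_piMap ι x₀] at e₁
  have e₂ : Reg (fun i => P.presheaf.germ U.1 (ι x₀) hU (f i)) :=
    reg_of_dim (ι.stalkMap x₀).hom (ι.stalkMap_surjective x₀) _ e₁ (hdim x₀ hx₀c)
  have e₃ : RegSeqAt f (ι x₀) hU := fun j a ha => e₂ j a ha
  obtain ⟨c, hc⟩ := exists_chart_of_gens ι U.2 hf hU e₃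
  exact ⟨c, (hsp.map ι.continuous).mem_open c.U.1.2 hc⟩

variable {k : Type u} [Field k] {N r : ℕ} [X.Over (Spec (CommRingCat.of k))]

/-- Local complete intersections of projective space have charts. -/
theorem exists_chart_lci (ι : X ⟶ PnVan.P k N) [IsClosedImmersion ι] (hr : r ≤ N)
    (hι : ι ≫ CohB1.ProjSpace.toSpec N k = X ↘ Spec (CommRingCat.of k))
    (heq : ∀ Z : Set ↥X, Z ∈ irreducibleComponents ↥X → topologicalKrullDim ↥Z = ((N - r : ℕ) : WithBot ℕ∞))
    (hgen : ∀ x : X, ∃ U : (PnVan.P k N).affineOpens, ι.base x ∈ (U : (PnVan.P k N).Opens) ∧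
      ∃ f : Fin r → Γ(PnVan.P k N, (U : (PnVan.P k N).Opens)), ι.ker.ideal U = Ideal.span (Set.range f))
    (x : X) : ∃ c : Chart ι r, ι x ∈ c.U.1 := by
  haveI : IsNoetherian (PnVan.P k N) := PnVan.noethP (k := k) (r := N)
  haveI : LocallyOfFiniteType (X ↘ Spec (CommRingCat.of k)) := by
    haveI := PnCoh.Chow.isProper_toSpec N k
    rw [← hι]
    infer_instance
  haveI : JacobsonSpace X := LocallyOfFiniteType.jacobsonSpace (X ↘ Spec (CommRingCat.of k))
  refine exists_chart_of_closedPoints ι (fun y => PnVan.regularP y) hgen (fun x₀ hx₀ => ?_) x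
  have hcl : IsClosed ({ι x₀} : Set (PnVan.P k N)) := by
    have h := ι.isClosedEmbedding.isClosedMap _ hx₀
    rwa [Set.image_singleton] at h
  rw [dim_closedPoint (X ↘ Spec (CommRingCat.of k)) heq hx₀, PnVan.dim_closed hcl]
  exact_mod_cast (by omega : r + (N - r) = N)

theorem dim_le_of_irreducibleComponents (ι : X ⟶ PnVan.P k N) (hr : r ≤ N)
    (heq : ∀ Z : Set ↥X, Z ∈ irreducibleComponents ↥X → topologicalKrullDim ↥Z = ((N - r : ℕ) : WithBot ℕ∞)) :
    topologicalKrullDim X + (r : WithBot ℕ∞) ≤ (N : WithBot ℕ∞) := by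
  have h : topologicalKrullDim X ≤ ((N - r : ℕ) : WithBot ℕ∞) := by
    rw [H23.TopDim.dim_eq_iSup_irreducibleComponents]
    exact iSup₂_le fun Z hZ => (heq Z hZ).le
  refine (add_le_add h le_rfl).trans ?_
  exact_mod_cast (by omega : N - r + r ≤ N)

/-- `ℋom(C, G) ≅ G ⊗ ℋom(C, O)` for invertible `C`. -/
theorem nonempty_hom_iso_tensor_dual {C : X.Modules} (hC : PicF.IsInvertible C) (G : X.Modules) :
    Nonempty ((SheafHomX.hom C).obj G ≅ CohB1.tensorMod G ((SheafHomX.hom C).obj (Coh.structureModule X))) := by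
  haveI : (SheafHomX.ten C).IsEquivalence := AmpleVan.isEquivalence_tw hC
  let D := (SheafHomX.hom C).obj (Coh.structureModule X)
  let T := SheafHomX.ten C
  let e₁ : T.obj ((SheafHomX.hom C).obj G) ≅ G := asIso ((SheafHomX.adj C).counit.app G)
  let e₂ : T.obj (CohB1.tensorMod G D) ≅ G :=
    (AmpleVan.twComp D C).app G ≪≫
      (DCoh.tensorBi.obj G).mapIso (asIso ((SheafHomX.adj C).counit.app (Coh.structureModule X))) ≪≫
      AmpleVan.twUnit.app G
  exact ⟨T.preimageIso (e₁ ≪≫ e₂.symm)⟩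

end Groth.Agent.ExtShX
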