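import Groth.Agent.ExtShX.DualTensor
import Groth.Agent.SiteBase.ExtCompare
import Groth.Agent.H23.PicMul

/-!
# Local and global Ext out of a tensor product with a locally free module
-/

set_option linter.style.haveILetI false
set_option linter.unusedSectionVars false
set_option backward.isDefEq.respectTransparency false
set_option backward.isDefEq.respectTransparency.types false
set_option maxHeartbeats 1000000

universe u

open CategoryTheory CategoryTheory.Limits AlgebraicGeometry TopologicalSpace Opposite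

noncomputable section

attribute [local instance] CategoryTheory.Abelian.hasFiniteBiproducts

namespace Groth.Agent.ExtShX

variable {X : Scheme.{u}}

/-- `Hom(L ⊗ F, -) = Hom(L, Hom(F, -))`. -/
def homTensorIso (L F : X.Modules) : SheafHomX.hom F ⋙ SheafHomX.hom L ≅ SheafHomX.hom (CohB1.tensorMod L F) :=
  Adjunction.rightAdjointUniq (((SheafHomX.adj L).comp (SheafHomX.adj F)).ofNatIsoLeft (AmpleVan.twComp L F))
    (SheafHomX.adj (CohB1.tensorMod L F))

theorem preservesHomology_hom {L : X.Modules} (hL : FlatMod.IsFinLocFree L) :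
    (SheafHomX.hom L).PreservesHomology :=
  ((Functor.exact_tfae (SheafHomX.hom L)).out 0 2).1 fun _ hS => PnDual.shortExact_hom hL hS

/-- `Ext^i(L ⊗ F, G) = Hom(L, Ext^i(F, G))` for local Ext sheaves. -/
theorem tensor_left_iso {L : X.Modules} (hL : FlatMod.IsFinLocFree L) (F G : X.Modules) (i : ℕ) :
    Nonempty ((SheafHomX.hom L).obj ((E F i).obj G) ≅ (E (CohB1.tensorMod L F) i).obj G) := by
  haveI := preservesHomology_hom hL
  let I := injectiveResolution G
  let H := SheafHomX.hom L
  let C := ((SheafHomX.hom F).mapHomologicalComplex (ComplexShape.up ℕ)).obj I.cocomplex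
  let τ := homTensorIso L F
  let ε : (H.mapHomologicalComplex _).obj C ≅
      ((SheafHomX.hom (CohB1.tensorMod L F)).mapHomologicalComplex (ComplexShape.up ℕ)).obj I.cocomplex :=
    HomologicalComplex.Hom.isoOfComponents (fun n => τ.app (I.cocomplex.X n))
      fun a b _ => (τ.hom.naturality (I.cocomplex.d a b)).symm
  exact ⟨H.mapIso (I.isoRightDerivedObj (SheafHomX.hom F) i) ≪≫ ((C.sc i).mapHomologyIso H).symm ≪≫
    (HomologicalComplex.homologyFunctor _ _ i).mapIso ε ≪≫
    (I.isoRightDerivedObj (SheafHomX.hom (CohB1.tensorMod L F)) i).symm⟩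

/-- `Ext^i(L ⊗ F, G) = Ext^i(F, G) ⊗ L^∨`. -/
theorem tensor_dual_iso {L : X.Modules} (hL : FlatMod.IsFinLocFree L) (F G : X.Modules) (i : ℕ) :
    Nonempty (CohB1.tensorMod ((E F i).obj G) ((SheafHomX.hom L).obj (Coh.structureModule X)) ≅
      (E (CohB1.tensorMod L F) i).obj G) := by
  obtain ⟨e⟩ := tensor_left_iso hL F G i
  exact ⟨dualTensorIso hL _ ≪≫ e⟩

/-- `Ext^i(F ⊗ L, G) = Ext^i(F, G ⊗ L^∨)`. -/
theorem ext_tensor_addEquiv [HasExt.{u} X.Modules] {L : X.Modules} (hL : FlatMod.IsFinLocFree L) (F G : X.Modules)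
    (i : ℕ) : Nonempty (Abelian.Ext (CohB1.tensorMod F L) G i ≃+
      Abelian.Ext F (CohB1.tensorMod G ((SheafHomX.hom L).obj (Coh.structureModule X))) i) := by
  haveI : EnoughInjectives X.Modules := inferInstanceAs (EnoughInjectives (SheafOfModules _))
  haveI := preservesHomology_hom hL
  haveI : PreservesFiniteColimits (SheafHomX.hom L) :=
    Functor.preservesFiniteColimits_of_preservesHomology (SheafHomX.hom L)
  haveI : (SheafHomX.ten L).PreservesMonomorphisms :=
    ⟨fun {A B} f _ => by
      let S : ShortComplex X.Modules := ShortComplex.mk f (cokernel.π f) (cokernel.condition f)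
      have hS : S.ShortExact := { exact := ShortComplex.exact_of_g_is_cokernel _ (cokernelIsCokernel f) }
      exact (KFlatLib.flatObj_of_isFlat ((QCoh.isFlat_and_isFP_iff).2 hL).1 S hS).mono_f⟩
  obtain ⟨e⟩ := SiteBase.nonempty_ext_addEquiv_of_adjunction (SheafHomX.adj L)
    (show (SheafHomX.ten L).obj F ≅ CohB1.tensorMod F L from Iso.refl _) i G
  exact ⟨e.trans (((Abelian.extFunctorObj F i).mapIso (dualTensorIso hL G).symm).addCommGroupIsoToAddEquiv)⟩

end Groth.Agent.ExtShX
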