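import Groth.Agent.ExtShX.Edge
import Groth.Agent.ExtShX.Twist
import Groth.Agent.SiteBase.DerivedPrecomp
import Groth.Agent.PnVan.HomTw
import Groth.Agent.AmpleVan.Uniform

/-!
# Local Ext sheaves and high twists
-/

set_option linter.style.haveILetI false
set_option linter.unusedSectionVars false
set_option backward.isDefEq.respectTransparency false
set_option backward.isDefEq.respectTransparency.types false
set_option maxHeartbeats 1000000

universe u

open CategoryTheory CategoryTheory.Limits AlgebraicGeometry TopologicalSpace Opposite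

noncomputable section

attribute [local instance] CategoryTheory.Abelian.hasFiniteBiproducts

namespace Groth.Agent.ExtShX

variable {X : Scheme.{u}}

/-- `Ext^i(F, G ⊗ N) = Ext^i(F, G) ⊗ N` for invertible `N`. -/
theorem E_tensor_iso (F G : X.Modules) {N : X.Modules} (hN : PicF.IsInvertible N) (i : ℕ) :
    Nonempty ((E F i).obj (CohB1.tensorMod G N) ≅ CohB1.tensorMod ((E F i).obj G) N) := by
  obtain ⟨D, -, ⟨e⟩⟩ := H23.PicInv.exists_inverse hN
  obtain ⟨c⟩ := H23.PicMul.comm D N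
  let Q : X.Modules ≌ X.Modules := CategoryTheory.Equivalence.mk (AmpleVan.tw D) (AmpleVan.tw N)
    (AmpleVan.twUnit.symm ≪≫ (DCoh.tensorBi (X := X)).flip.mapIso (c ≪≫ e).symm ≪≫ (AmpleVan.twComp D N).symm)
    (AmpleVan.twComp N D ≪≫ (DCoh.tensorBi (X := X)).flip.mapIso e ≪≫ AmpleVan.twUnit)
  let adjD : AmpleVan.tw D ⊣ AmpleVan.tw N := Q.toAdjunction
  obtain ⟨φ⟩ := H23.PicMul.comm D F
  let τ : AmpleVan.tw D ⋙ SheafHomX.ten F ≅ SheafHomX.ten F ⋙ AmpleVan.tw D :=
    AmpleVan.twComp D F ≪≫ (DCoh.tensorBi (X := X)).flip.mapIso φ ≪≫ (AmpleVan.twComp F D).symm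
  let H := SheafHomX.hom F
  let T := AmpleVan.tw N
  let ρ : T ⋙ H ≅ H ⋙ T :=
    (Adjunction.rightAdjointUniq ((adjD.comp (SheafHomX.adj F)).ofNatIsoLeft τ)
      ((SheafHomX.adj F).comp adjD)).symm
  haveI : T.IsEquivalence := AmpleVan.isEquivalence_tw hN
  haveI : (AmpleVan.tw D).IsEquivalence := Q.isEquivalence_functor
  haveI : T.Additive := Functor.additive_of_preserves_binary_products _
  haveI : T.PreservesInjectiveObjects :=
    Functor.preservesInjectiveObjects_of_adjunction_of_preservesMonomorphisms adjD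
  let I := injectiveResolution G
  let I' : InjectiveResolution (T.obj G) := SiteBase.mapResolution T I
  let C := (H.mapHomologicalComplex (ComplexShape.up ℕ)).obj I.cocomplex
  let ε : (H.mapHomologicalComplex (ComplexShape.up ℕ)).obj I'.cocomplex ≅
      (T.mapHomologicalComplex (ComplexShape.up ℕ)).obj C :=
    HomologicalComplex.Hom.isoOfComponents (fun n => ρ.app (I.cocomplex.X n))
      fun a b _ => (ρ.hom.naturality (I.cocomplex.d a b)).symm
  exact ⟨(I'.isoRightDerivedObj H i) ≪≫ (HomologicalComplex.homologyFunctor _ _ i).mapIso ε ≪≫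
    (C.sc i).mapHomologyIso T ≪≫ T.mapIso (I.isoRightDerivedObj H i).symm⟩

/-- `ℋom(O, M) = M`. -/
theorem hom_structure_iso (M : X.Modules) :
    Nonempty ((SheafHomX.hom (Coh.structureModule X)).obj M ≅ M) :=
  ⟨(Adjunction.rightAdjointUniq (SheafHomX.adj (Coh.structureModule X))
    (Adjunction.id.ofNatIsoLeft (AmpleVan.twUnit (X := X)).symm)).app M⟩

variable {A : Type u} [CommRing A] [IsNoetherianRing A] [X.Over (Spec (CommRingCat.of A))]
  [IsProper (X ↘ Spec (CommRingCat.of A))] [HasExt.{u} X.Modules]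

/-- `Ext^m(F, G ⊗ L^d) = H^0(Ext^m(F, G ⊗ L^d))` for large `d`. -/
theorem exists_ext_linearEquiv_HH0 {L : X.Modules} (hL : CohB1.IsAmple L) {F G : X.Modules} (hF : Coh.IsCoh F)
    (hG : Coh.IsCoh G) (m : ℕ) :
    ∃ d₀ : ℕ, ∀ d : ℕ, d₀ ≤ d → ∀ N : X.Modules, Nonempty (N ≅ CohB1.tensorPow L d) →
      Nonempty (Abelian.Ext F (CohB1.tensorMod G N) m ≃ₗ[A]
        Coh.HH X ((E F m).obj (CohB1.tensorMod G N)) 0) := by
  haveI : CompactSpace X := AmpleVan.compactSpace_of_proper (A := A)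
  haveI : IsLocallyNoetherian X := LocallyOfFiniteType.isLocallyNoetherian (X ↘ Spec (CommRingCat.of A))
  choose d hd using fun j => AmpleVan.exists_vanishing (A := A) hL (isCoh_E hF hG j)
  refine ⟨(Finset.range m).sup d, fun n hn N hN => ?_⟩
  obtain ⟨e⟩ := hN
  have hNi : PicF.IsInvertible N := by
    intro y
    obtain ⟨U, hU, ⟨a⟩⟩ := InvX.isInvertible_tensorPow hL.1 n y
    exact ⟨U, hU, ⟨(Scheme.Modules.restrictFunctor U.ι).mapIso e ≪≫ a⟩⟩
  obtain ⟨w⟩ := exists_ext_linearEquiv_hom (A := A) F (CohB1.tensorMod G N) m fun j hj q => by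
    obtain ⟨t⟩ := E_tensor_iso F G hNi j
    obtain ⟨h⟩ := hom_structure_iso ((E F j).obj (CohB1.tensorMod G N))
    obtain ⟨l⟩ := PnDual.nonempty_ext_linearEquiv_HH (A := A)
      (H23.PullPush.isFinLocFree_of_isInvertible (InvX.isInvertible_structureModule (X := X)))
      ((E F j).obj (CohB1.tensorMod G N)) (q + 1)
    haveI := QCoh.subsingleton_HH_of_iso
      ((DCoh.tensorBi.obj ((E F j).obj G)).mapIso e.symm ≪≫ t.symm ≪≫ h.symm) (q + 1)
      (hd j n ((Finset.le_sup (Finset.mem_range.2 hj)).trans hn) q)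
    exact l.toEquiv.subsingleton
  obtain ⟨g⟩ := exists_hom_HH0 (A := A) ((E F m).obj (CohB1.tensorMod G N))
  exact ⟨w.trans g⟩

end Groth.Agent.ExtShX
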