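import Groth.Agent.ExtShX.DualClosed
import Groth.Agent.PnVan.HomTw
import Groth.Agent.AmpleVan.Uniform
import Groth.Agent.ExtShX.HighTwist
import Groth.Agent.QCoh.DevissageSum

/-!
# Duality on a closed subscheme of projective space
-/

set_option linter.style.haveILetI false
set_option linter.unusedSectionVars false
set_option backward.isDefEq.respectTransparency false
set_option backward.isDefEq.respectTransparency.types false
set_option maxHeartbeats 1000000

universe u

open CategoryTheory CategoryTheory.Limits AlgebraicGeometry TopologicalSpace Opposite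
open Groth.Agent.PnCoh Groth.Agent.PnCoh.Finite Groth.Agent.PnDual Groth.Agent.H23.PicMul

noncomputable section

attribute [local instance] CategoryTheory.Abelian.hasFiniteBiproducts

namespace Groth.Agent.ExtShX

theorem exists_retract_biproduct {C : Type*} [Category C] [Preadditive C] {β : Type*} [Fintype β] (U : β → C)
    [HasBiproduct U] {A : C} (p : ∀ a, A ⟶ U a) (j : ∀ a, U a ⟶ A) (h : ∑ a, p a ≫ j a = 𝟙 A) :
    ∃ (v : A ⟶ ⨁ U) (u : (⨁ U) ⟶ A), v ≫ u = 𝟙 A :=
  ⟨biproduct.lift p, biproduct.desc j, by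
    classical
    have ht : ∑ b, biproduct.π U b ≫ biproduct.ι U b = 𝟙 (⨁ U) := by
      refine biproduct.hom_ext' _ _ fun c => ?_
      rw [Preadditive.comp_sum, Finset.sum_eq_single c]
      · simp
      · intro b _ hb
        rw [← Category.assoc, biproduct.ι_π_ne U (Ne.symm hb), zero_comp]
      · simp
    rw [← Category.id_comp (biproduct.desc j), ← ht, Preadditive.sum_comp, Preadditive.comp_sum]
    simp only [Category.assoc, biproduct.ι_desc, biproduct.lift_π_assoc]
    exact h⟩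

theorem nonempty_iso_kernel_of_retract {C : Type*} [Category C] [Abelian C] {A B : C} (v : A ⟶ B) (u : B ⟶ A)
    (h : v ≫ u = 𝟙 A) : Nonempty (A ≅ kernel (𝟙 B - u ≫ v)) :=
  ⟨{ hom := kernel.lift _ v (by rw [Preadditive.comp_sub, Category.comp_id, ← Category.assoc, h,
      Category.id_comp, sub_self])
     inv := kernel.ι _ ≫ u
     hom_inv_id := by rw [kernel.lift_ι_assoc, h]
     inv_hom_id := by
       rw [← cancel_mono (kernel.ι _), Category.assoc, Category.assoc, kernel.lift_ι, Category.id_comp]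
       have h' := kernel.condition (𝟙 B - u ≫ v)
       rw [Preadditive.comp_sub, Category.comp_id, sub_eq_zero] at h'
       exact h'.symm }⟩

variable {k : Type u} [Field k] {N : ℕ} {X : Scheme.{u}} (i : X ⟶ PnVan.P k N)

/-- `O_X(d)`. -/
abbrev oX (d : ℤ) : X.Modules := (Scheme.Modules.pullback i).obj (Twist.twist (CohB1.polyGrading N k) d)

theorem cl_pull_twist_natCast (d : ℕ) : Nonempty (oX i (d : ℤ) ≅ CohB1.tensorPow (oX i 1) d) := by
  obtain ⟨e⟩ := twist_tensorPow_iso (coordsR k N) coordsR_mem coordsR_cover d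
  refine cl_eq_iff.1 ?_
  rw [cl_tensorPow]
  have h := congrArg (PicF.pullCl i) (cl_eq_iff.2 ⟨e⟩)
  rw [cl_tensorPow, pullCl_pow] at h
  exact h

theorem oX_neg_mul (d : ℕ) :
    Nonempty (CohB1.tensorMod (oX i (-(d : ℤ))) (oX i (d : ℤ)) ≅ Coh.structureModule X) := by
  refine cl_eq_iff.1 ?_
  obtain ⟨f⟩ := twist_tensor_iso (coordsR k N) coordsR_mem coordsR_cover (-(d : ℤ)) (d : ℤ)
  obtain ⟨g⟩ := PnVan.twist_zero (k := k) (r := N)
  have h := congrArg (PicF.pullCl i) (cl_eq_iff.2 ⟨f ≪≫ eqToIso (by rw [neg_add_cancel]) ≪≫ g.symm⟩)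
  rw [cl_tensor, pullCl_mul, ← one_def, pullCl_one] at h
  rw [cl_tensor, ← one_def]
  exact h

variable [IsClosedImmersion i] [X.Over (Spec (CommRingCat.of k))]

theorem isProper_over (hi : i ≫ CohB1.ProjSpace.toSpec N k = X ↘ Spec (CommRingCat.of k)) :
    IsProper (X ↘ Spec (CommRingCat.of k)) := by
  haveI : IsProper (CohB1.ProjSpace.toSpec N k) := PnCoh.Chow.isProper_toSpec N k
  rw [← hi]
  infer_instance

variable [HasExt.{u} X.Modules]

/-- `Ext^j(O_X(-d), ω) = 0` for `j > 0` and large `d`. -/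
theorem exists_ext_negTwist (hp : IsProper (X ↘ Spec (CommRingCat.of k))) {ω : X.Modules} (hω : Coh.IsCoh ω) :
    ∃ d₀ : ℕ, ∀ d : ℕ, d₀ ≤ d → ∀ j, 0 < j → Subsingleton (Abelian.Ext (oX i (-(d : ℤ))) ω j) := by
  haveI := hp
  haveI : IsLocallyNoetherian X := LocallyOfFiniteType.isLocallyNoetherian i
  have hO : FlatMod.IsFinLocFree (Coh.structureModule X) :=
    H23.PullPush.isFinLocFree_of_isInvertible InvX.isInvertible_structureModule
  obtain ⟨h⟩ := hom_structure_iso ω
  obtain ⟨d₀, hd⟩ := AmpleVan.exists_vanishing (A := k) (PnVan.isAmple_pull_twist (k := k) (r := N) i)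
    (SheafHomX.isCoh_of_iso h.symm hω)
  refine ⟨d₀, fun d hdd j hj => ?_⟩
  obtain ⟨q, rfl⟩ : ∃ q, j = q + 1 := ⟨j - 1, by omega⟩
  obtain ⟨e⟩ := cl_pull_twist_natCast i d
  haveI : Subsingleton (Abelian.Ext (CohB1.tensorMod (Coh.structureModule X) (oX i (-(d : ℤ)))) ω (q + 1)) :=
    PnVan.subsingleton_ext_tensor (k := k) hO (PnVan.isInvertible_pull_twist i _) (PnVan.isInvertible_pull_twist i _)
      (oX_neg_mul i d) ω (q + 1)
      (QCoh.subsingleton_HH_of_iso ((DCoh.tensorBi.obj _).mapIso e.symm) (q + 1) (hd d hdd q))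
  obtain ⟨a⟩ := PnVan.tensor_one_iso (oX i (-(d : ℤ)))
  exact subsingleton_of_forall_eq 0 fun x => by
    have h1 : (Abelian.Ext.mk₀ a.hom).comp x (zero_add _) = 0 := Subsingleton.elim _ _
    rw [← Abelian.Ext.mk₀_id_comp x, ← a.inv_hom_id, ← Abelian.Ext.mk₀_comp_mk₀_assoc, h1, Abelian.Ext.comp_zero]

/-- Cohomology of negative twists vanishes below `n`, in the `s` degrees below it. -/
def NegVanRange (n s : ℕ) : Prop :=
  ∀ p, p < n → n ≤ p + s → ∃ q₀ : ℕ, ∀ q : ℕ, q₀ ≤ q → Subsingleton (Coh.HH X (oX i (-(q : ℤ))) p)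

/-- Presentations by negative twists. -/
theorem exists_dualPres_closed (hp : IsProper (X ↘ Spec (CommRingCat.of k))) {ω : X.Modules} (hω : Coh.IsCoh ω)
    {n s : ℕ} (hv : NegVanRange i n s) (t : Coh.HH X ω n →ₗ[k] k)
    (htop : ∀ G, Coh.IsCoh G → Function.Bijective (Canon.dualityMap k X n ω t G))
    {F : X.Modules} (hF : Coh.IsCoh F) :
    ∃ S : ShortComplex X.Modules, S.X₃ = F ∧ Coh.IsCoh S.X₁ ∧ IsDualPresUpTo s t S := by
  classical
  haveI : IsLocallyNoetherian X := LocallyOfFiniteType.isLocallyNoetherian i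
  obtain ⟨d₀, hd₀⟩ := exists_ext_negTwist i hp hω
  choose q hq using hv
  let B := max d₀ ((Finset.range n).sup fun p => if h : p < n ∧ n ≤ p + s then q p h.1 h.2 else 0)
  obtain ⟨β, _, d, hd, T, p, j, hT, hT3, -, hpj⟩ :=
    PnDual.exists_presentation_lt (m := N) (R := k) (PnDual.goodPn_of_isCoh (PnVan.isCoh_push i hF)) (-(B : ℤ))
  haveI := hT.epi_g
  let pb := Scheme.Modules.pullback i
  haveI := AmpleVan.isIso_counit i hF.1
  haveI : PreservesColimitsOfSize.{0, 0} pb :=
    (Scheme.Modules.pullbackPushforwardAdjunction i).leftAdjoint_preservesColimits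
  haveI : pb.Additive := Functor.additive_of_preserves_binary_products _
  let g : pb.obj T.X₂ ⟶ F :=
    pb.map (T.g ≫ eqToHom hT3) ≫ (Scheme.Modules.pullbackPushforwardAdjunction i).counit.app F
  haveI : Epi g := epi_comp _ _
  have hsum : ∑ a, pb.map (p a) ≫ pb.map (j a) = 𝟙 (pb.obj T.X₂) := by
    simp only [← Functor.map_comp]
    rw [← Functor.map_sum, hpj, CategoryTheory.Functor.map_id]
  have hd' : ∀ a, d a = -(((-d a).toNat : ℕ) : ℤ) ∧ B ≤ (-d a).toNat := fun a => by
    have := hd a; omega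
  have hc : Coh.IsCoh (pb.obj T.X₂) := by
    let U : β → X.Modules := fun a => pb.obj (Twist.twist (CohB1.polyGrading N k) (d a))
    have hU : Coh.IsCoh (⨁ U) := QCoh.isCoh_biproduct U fun a => CurveDeg.isCoh_of_isInvertible
      (PnVan.isInvertible_pull_twist i _)
    obtain ⟨v, u, hvu⟩ := exists_retract_biproduct U (fun a => pb.map (p a)) (fun a => pb.map (j a)) hsum
    obtain ⟨e⟩ := nonempty_iso_kernel_of_retract v u hvu
    exact SheafHomX.isCoh_of_iso e.symm (QCoh.isCoh_kernel hU hU _)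
  refine ⟨ShortComplex.mk (kernel.ι g) g (kernel.condition g), rfl, QCoh.isCoh_kernel hc hF g,
    { exact := ShortComplex.exact_of_f_is_kernel _ (kernelIsKernel g) }, fun m hm => ?_, fun m hmn hms => ?_,
    htop _ hc⟩
  · refine PnDual.subsingleton_ext_of_decomposition _ (fun a => pb.map (p a)) (fun a => pb.map (j a)) hsum m
      fun a => ?_
    obtain ⟨ha, hb⟩ := hd' a
    rw [ha]
    exact hd₀ _ ((le_max_left _ _).trans hb) m hm
  · refine subsingleton_HH_of_decomposition _ (fun a => pb.map (p a)) (fun a => pb.map (j a)) hsum m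
      fun a => ?_
    obtain ⟨ha, hb⟩ := hd' a
    rw [ha]
    refine hq m hmn hms _ (le_trans ?_ ((le_max_right _ _).trans hb))
    exact le_trans (by rw [dif_pos ⟨hmn, hms⟩]) (Finset.le_sup (f := fun p => if h : p < n ∧ n ≤ p + s then q p h.1 h.2 else 0) (Finset.mem_range.2 hmn))

/-- Duality in the `s` degrees below the top. -/
theorem bijective_pair_closed (hp : IsProper (X ↘ Spec (CommRingCat.of k))) {ω : X.Modules} (hω : Coh.IsCoh ω)
    {n s : ℕ} (hv : NegVanRange i n s) (t : Coh.HH X ω n →ₗ[k] k)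
    (htop : ∀ G, Coh.IsCoh G → Function.Bijective (Canon.dualityMap k X n ω t G))
    {F : X.Modules} (hF : Coh.IsCoh F) {p j : ℕ} (hj : j ≤ s) (h : p + j = n) :
    Function.Bijective (pair t F h) :=
  bijective_pair_range Coh.IsCoh t s htop (fun G hG => exists_dualPres_closed i hp hω hv t htop hG) j hj F hF p h

/-- A dualizing pair, read as bijective duality maps. -/
theorem bijective_of_existsUnique {n : ℕ} {ω F : X.Modules} (t : Coh.HH X ω n →ₗ[k] k)
    (h : ∀ ψ : Coh.HH X F n →ₗ[k] k, ∃! φ : F ⟶ ω, ∀ x : Coh.HH X F n,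
      ψ x = t (Sheaf.H.map ((SheafOfModules.toSheaf X.ringCatSheaf).map φ) n x)) :
    Function.Bijective (Canon.dualityMap k X n ω t F) := by
  refine ⟨fun a b hab => ?_, fun ψ => ?_⟩
  · obtain ⟨φ, -, hu⟩ := h (Canon.dualityMap k X n ω t F a)
    rw [hu a fun x => rfl, hu b fun x => LinearMap.congr_fun hab x]
  · obtain ⟨φ, hφ, -⟩ := h ψ
    exact ⟨φ, LinearMap.ext fun x => (hφ x).symm⟩

/-- Cohen–Macaulay subschemes have no negative cohomology below the dimension. -/
theorem negVanRange_of_cm {n : ℕ} (hn : topologicalKrullDim X = n) (hCM : ∀ x : X, IsClosed ({x} : Set X) →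
    LocCoh.IsCohenMacaulayLocalRing (X.presheaf.stalk x) ∧ ringKrullDim (X.presheaf.stalk x) = n) (s : ℕ) :
    NegVanRange i n s := fun p hp _ => by
  obtain ⟨q₀, hq⟩ := (PnVan.cm_iff i hn).1 hCM (Coh.structureModule X)
    (H23.PullPush.isFinLocFree_of_isInvertible InvX.isInvertible_structureModule)
  refine ⟨q₀, fun q hqq => ?_⟩
  obtain ⟨a⟩ := PnVan.tensor_one_iso (oX i (-(q : ℤ)))
  exact QCoh.subsingleton_HH_of_iso a p (hq q hqq p hp)

/-- Duality in all degrees for Cohen–Macaulay subschemes. -/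
theorem duality_cm (hi : i ≫ CohB1.ProjSpace.toSpec N k = X ↘ Spec (CommRingCat.of k)) {n : ℕ}
    (hn : topologicalKrullDim X = n) (hCM : ∀ x : X, IsClosed ({x} : Set X) →
      LocCoh.IsCohenMacaulayLocalRing (X.presheaf.stalk x) ∧ ringKrullDim (X.presheaf.stalk x) = n)
    {ω : X.Modules} (hω : Coh.IsCoh ω) (t : Coh.HH X ω n →ₗ[k] k)
    (htop : ∀ G, Coh.IsCoh G → Function.Bijective (Canon.dualityMap k X n ω t G))
    {F : X.Modules} (hF : Coh.IsCoh F) (j : ℕ) :
    (j ≤ n → Nonempty (Abelian.Ext.{u} F ω j ≃ₗ[k] Module.Dual k (Coh.HH X F (n - j)))) ∧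
      (n < j → Subsingleton (Abelian.Ext.{u} F ω j)) :=
  PnDual.duality_induction Coh.IsCoh n t htop (fun G hG => by
    obtain ⟨S, h3, h1, hS⟩ := exists_dualPres_closed i (isProper_over i hi) hω
      (negVanRange_of_cm i hn hCM n) t htop hG
    exact ⟨S, h3, h1, hS.shortExact, hS.ext, fun m hm => hS.coh m hm (by omega), hS.dual⟩) F hF j

/-- Cohomology of isomorphic modules, linearly. -/
theorem nonempty_HH_equiv_of_iso {A : Type u} [CommRing A] {Y : Scheme.{u}} [Y.Over (Spec (CommRingCat.of A))]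
    {M M' : Y.Modules} (e : M ≅ M') (n : ℕ) : Nonempty (Coh.HH Y M n ≃ₗ[A] Coh.HH Y M' n) :=
  ⟨LinearEquiv.ofLinearMap (Canon.HHlin A e.hom n) (Canon.HHlin A e.inv n)
    (LinearMap.ext fun x => by
      show Sheaf.H.map ((QCoh.toAbFunctor Y).map e.hom) n (Sheaf.H.map ((QCoh.toAbFunctor Y).map e.inv) n x) = x
      rw [← Sheaf.H.map_comp_apply, ← Functor.map_comp, e.inv_hom_id, CategoryTheory.Functor.map_id,
        Sheaf.H.map_id_apply])
    (LinearMap.ext fun x => by
      show Sheaf.H.map ((QCoh.toAbFunctor Y).map e.inv) n (Sheaf.H.map ((QCoh.toAbFunctor Y).map e.hom) n x) = x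
      rw [← Sheaf.H.map_comp_apply, ← Functor.map_comp, e.hom_inv_id, CategoryTheory.Functor.map_id,
        Sheaf.H.map_id_apply])⟩

end Groth.Agent.ExtShX
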