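import Groth.Agent.ExtShX.CanonSheaf
import Groth.Agent.ExtShX.CodimPn
import Groth.Agent.FComplLib.SmoothLevel

/-!
# The canonical sheaf of an equidimensional closed subscheme of projective space
-/

set_option linter.style.haveILetI false
set_option linter.unusedSectionVars false
set_option backward.isDefEq.respectTransparency false
set_option backward.isDefEq.respectTransparency.types false
set_option maxHeartbeats 1000000

universe u

open CategoryTheory CategoryTheory.Limits AlgebraicGeometry TopologicalSpace Opposite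

noncomputable section

namespace Groth.Agent.ExtShX

variable {k : Type u} [Field k] {n r : ℕ} {X : Scheme.{u}} (ι : X ⟶ CohB1.ProjSpace n k) [IsClosedImmersion ι]

theorem deg_pn_le_add (y : CohB1.ProjSpace n k) [LocallyOfFiniteType (CohB1.ProjSpace.toSpec n k)] :
    ∃ b : ℕ, ringKrullDim ((CohB1.ProjSpace n k).presheaf.stalk y) = b ∧
      VarDim.deg (CohB1.ProjSpace.toSpec n k) y + b = n := by
  haveI : IsIntegral (CohB1.ProjSpace n k) := H23.PnChart.isIntegral_projSpace n k
  obtain ⟨b, hb, ⟨η, hη, hηb⟩, hle⟩ := VarDim.exists_deg_add_stalk (CohB1.ProjSpace.toSpec n k) y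
  have hg : VarDim.deg (CohB1.ProjSpace.toSpec n k) (genericPoint (CohB1.ProjSpace n k)) = n := by
    have h := (VarDim.topologicalKrullDim_eq_deg_genericPoint (CohB1.ProjSpace.toSpec n k)).symm.trans
      (S10829.result k n)
    exact_mod_cast h
  have h1 := hle _ ((genericPoint_spec (CohB1.ProjSpace n k)).specializes trivial)
  have h2 := VarDim.deg_le_of_specializes (CohB1.ProjSpace.toSpec n k)
    ((genericPoint_spec (CohB1.ProjSpace n k)).specializes (Set.mem_univ η))
  exact ⟨b, hb, by omega⟩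

theorem deg_image (x : X) [LocallyOfFiniteType (CohB1.ProjSpace.toSpec n k)] :
    VarDim.deg (ι ≫ CohB1.ProjSpace.toSpec n k) x = VarDim.deg (CohB1.ProjSpace.toSpec n k) (ι x) := by
  haveI : IsIso (ι.residueFieldMap x) := FComplLib.isIso_residueFieldMap ι x
  exact VarDim.deg_comp (CohB1.ProjSpace.toSpec n k) ι x

/-- Dimensions at a point of an equidimensional closed subscheme. -/
theorem dim_bounds (hr : r ≤ n) (heq : ∀ Z : Set X, Z ∈ irreducibleComponents X → topologicalKrullDim Z = (r : WithBot ℕ∞))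
    (x : X) : ∃ b : ℕ, ringKrullDim ((CohB1.ProjSpace n k).presheaf.stalk (ι x)) = b ∧
      ringKrullDim (X.presheaf.stalk x) + ((n - r : ℕ) : WithBot ℕ∞) ≤ (b : WithBot ℕ∞) ∧
      ((∀ y, y ⤳ x → y = x) → b = n - r) := by
  haveI : LocallyOfFiniteType (CohB1.ProjSpace.toSpec n k) :=
    haveI := Groth.Agent.PnCoh.Chow.isProper_toSpec n k
    inferInstance
  obtain ⟨b, hb, hbn⟩ := deg_pn_le_add (k := k) (ι x)
  rw [← deg_image ι x] at hbn
  obtain ⟨a, ha, ⟨η, hη, hηa⟩, hle⟩ := VarDim.exists_deg_add_stalk (ι ≫ CohB1.ProjSpace.toSpec n k) x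
  have hcomp : ∀ g : X, ∃ g', g' ⤳ g ∧ VarDim.deg (ι ≫ CohB1.ProjSpace.toSpec n k) g' = r := fun g => by
    obtain ⟨g', hg', hmax⟩ := FibDim.exists_maximal_generization g
    refine ⟨g', hg', ?_⟩
    have h := VarDim.topologicalKrullDim_closure_singleton (ι ≫ CohB1.ProjSpace.toSpec n k) g'
    rw [heq _ (FDescent.closure_mem_irreducibleComponents hmax)] at h
    exact_mod_cast h.symm
  refine ⟨b, hb, ?_, fun hmax => ?_⟩
  · obtain ⟨g, hg, hgr⟩ := hcomp η
    have h1 := VarDim.deg_le_of_specializes (ι ≫ CohB1.ProjSpace.toSpec n k) hg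
    rw [ha]
    exact_mod_cast (by omega : a + (n - r) ≤ b)
  · obtain ⟨g, hg, hgr⟩ := hcomp x
    rw [hmax g hg] at hgr
    omega

/-- No element outside the minimal primes kills a germ of `ω`. -/
theorem canon_smul_eq_zero (hr : r ≤ n)
    (heq : ∀ Z : Set X, Z ∈ irreducibleComponents X → topologicalKrullDim Z = (r : WithBot ℕ∞))
    {L : (CohB1.ProjSpace n k).Modules} (hL : PicF.IsInvertible L) {ω : X.Modules}
    (hω : Nonempty ((Coh.push ι).obj ω ≅ (E ((Coh.push ι).obj (Coh.structureModule X)) (n - r)).obj L))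
    (x : X) (t : X.presheaf.stalk x) (ht : ∀ p ∈ minimalPrimes (X.presheaf.stalk x), t ∉ p)
    (w : ω.presheaf.stalk x) (hw : t • w = 0) : w = 0 := by
  haveI : IsLocallyNoetherian (CohB1.ProjSpace n k) := PnVan.locNoethP (k := k) (r := n)
  haveI : IsRegularLocalRing ((CohB1.ProjSpace n k).presheaf.stalk (ι x)) := PnVan.regularP (ι x)
  obtain ⟨b, hb, hdim, -⟩ := dim_bounds ι hr heq x
  exact smul_stalk_eq_zero ι hL hω x hb hdim t ht w hw

/-- `ω` has rank one at the reduced maximal points. -/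
theorem canon_gen (hr : r ≤ n)
    (heq : ∀ Z : Set X, Z ∈ irreducibleComponents X → topologicalKrullDim Z = (r : WithBot ℕ∞))
    {L : (CohB1.ProjSpace n k).Modules} (hL : PicF.IsInvertible L) {ω : X.Modules}
    (hω : Nonempty ((Coh.push ι).obj ω ≅ (E ((Coh.push ι).obj (Coh.structureModule X)) (n - r)).obj L))
    {x : X} (hx : ∀ y, y ⤳ x → y = x) [_root_.IsReduced (X.presheaf.stalk x)] :
    IsField (X.presheaf.stalk x) ∧ ∃ v : ω.presheaf.stalk x, v ≠ 0 ∧ ∀ w, ∃ t : X.presheaf.stalk x, t • v = w := by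
  haveI : IsLocallyNoetherian (CohB1.ProjSpace n k) := PnVan.locNoethP (k := k) (r := n)
  haveI : IsRegularLocalRing ((CohB1.ProjSpace n k).presheaf.stalk (ι x)) := PnVan.regularP (ι x)
  obtain ⟨b, hb, -, hc⟩ := dim_bounds ι hr heq x
  haveI := krullDimLE_zero_stalk hx
  have hf : IsField (X.presheaf.stalk x) := Ring.KrullDimLE.isField_of_isReduced
  exact ⟨hf, exists_gen_stalk ι hL hω x hb (hc hx) hf⟩

end Groth.Agent.ExtShX
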