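import Groth.Agent.ExtShX.DualX
import Groth.Agent.ExtShX.CanonPn
import Groth.Agent.ExtShX.LinearHom
import Groth.Agent.S0002
import Groth.Agent.S11318

/-!
# The trace of an integral subscheme of projective space
-/

set_option linter.style.haveILetI false
set_option linter.unusedSectionVars false
set_option backward.isDefEq.respectTransparency false
set_option backward.isDefEq.respectTransparency.types false
set_option maxHeartbeats 1000000
set_option synthInstance.maxHeartbeats 200000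

universe u

open CategoryTheory CategoryTheory.Limits AlgebraicGeometry TopologicalSpace Opposite

noncomputable section

namespace Groth.Agent.ExtShX

/-- The direct image presentation of a local Ext sheaf. -/
theorem exists_push_iso_E {P X : Scheme.{u}} [IsLocallyNoetherian P] (ι : X ⟶ P) [IsClosedImmersion ι]
    {G : P.Modules} (hG : Coh.IsCoh G) (c : ℕ) :
    ∃ M : X.Modules, Nonempty ((Coh.push ι).obj M ≅ (E ((Coh.push ι).obj (Coh.structureModule X)) c).obj G) := by
  haveI : IsLocallyNoetherian X := LocallyOfFiniteType.isLocallyNoetherian ι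
  have hQ : Coh.IsCoh ((Coh.push ι).obj (Coh.structureModule X)) :=
    QCoh.isCoh_pushforward_finite ι QCoh.isCoh_structureModule'
  let Q := (Coh.push ι).obj (Coh.structureModule X)
  let Ec := (E Q c).obj G
  have key : ∀ (y : P) (a : P.presheaf.stalk y), (∀ m : Q.presheaf.stalk y, a • m = 0) →
      ∀ w : Ec.presheaf.stalk y, a • w = 0 := fun y a ha w => by
    obtain ⟨A, e, M, N, fF, fG, φ, hfF, -, hφ⟩ := exists_stalk_ext_semilinear hQ G c y
    refine φ.injective ?_
    rw [map_zero, hφ]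
    have h0 : (e a • 𝟙 M : M ⟶ M) = 0 := ModuleCat.hom_ext (LinearMap.ext fun m => by
      obtain ⟨q, rfl⟩ := fF.surjective m
      show e a • fF q = 0
      rw [← hfF, show a • q = 0 from ha q, map_zero])
    rw [← Abelian.Ext.mk₀_id_comp (φ w), ← Abelian.Ext.smul_comp, ← Abelian.Ext.mk₀_smul, h0, Abelian.Ext.mk₀_zero,
      Abelian.Ext.zero_comp]
  obtain ⟨e⟩ := AmpleVan.exists_eq_push ι (M := Ec) (isCoh_E hQ hG c).1 fun U a ha s => by
    refine ZClosLib.section_ext Ec _ _ fun y hy => ?_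
    rw [map_zero, QCoh.germ_smul' Ec hy]
    refine key y _ (fun m => ?_) _
    rw [FComplLib.ideal_ker, RingHom.mem_ker] at ha
    by_cases hr : y ∈ Set.range ι
    · obtain ⟨x, rfl⟩ := hr
      letI : Module (P.presheaf.stalk (ι x)) ((Coh.structureModule X).presheaf.stalk x) :=
        Module.compHom _ (ι.stalkMap x).hom
      obtain ⟨d⟩ := H23.SpClosed.nonempty_stalkEquiv ι (Coh.structureModule X) x
      refine d.injective ?_
      rw [map_smul, map_zero]
      show (ι.stalkMap x).hom (P.presheaf.germ U.1 (ι x) hy a) • d m = 0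
      rw [show (ι.stalkMap x).hom (P.presheaf.germ U.1 (ι x) hy a) = 0 from
        (Scheme.Hom.germ_stalkMap_apply ι U.1 x hy a).trans ((congrArg _ ha).trans (map_zero _)), zero_smul]
    · haveI := H23.ClosedPushLen.subsingleton_stalk ι (Coh.structureModule X) hr
      exact Subsingleton.elim _ _
  exact ⟨_, ⟨e.symm⟩⟩

variable {k : Type u} [Field k] {X : Scheme.{u}} [X.Over (Spec (CommRingCat.of k))] [IsIntegral X]

/-- A torsion free rank one coherent sheaf of an integral scheme whose endomorphisms are finite over a field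
algebraically closed in the function field is simple. -/
theorem end_eq_smul {ω : X.Modules} (hω : Coh.IsQCoh ω) [IsLocallyNoetherian X]
    (htf : ∀ (x : X) (r : X.presheaf.stalk x), (∀ p ∈ minimalPrimes (X.presheaf.stalk x), r ∉ p) →
      ∀ w : ω.presheaf.stalk x, r • w = 0 → w = 0)
    (hgen : ∃ v : ω.presheaf.stalk (genericPoint X), v ≠ 0 ∧ ∀ w, ∃ r : X.presheaf.stalk (genericPoint X), r • v = w)
    (hfin : Module.Finite k (ω ⟶ ω))
    (halg : ∀ a : (X.functionField : Type u),
      ((X.presheaf.germ ⊤ (genericPoint X) trivial).hom.comp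
        (Coh.toGlobal (X ↘ Spec (CommRingCat.of k)))).IsIntegralElem a →
      a ∈ Set.range ((X.presheaf.germ ⊤ (genericPoint X) trivial).hom.comp (Coh.toGlobal (X ↘ Spec (CommRingCat.of k))))) :
    (∀ φ : ω ⟶ ω, ∃ a : k, a • 𝟙 ω = φ) ∧ 𝟙 ω ≠ 0 := by
  haveI := hfin
  let η := genericPoint X
  obtain ⟨v, hv, hvs⟩ := hgen
  let ρ : k →+* X.presheaf.stalk η :=
    (X.presheaf.germ ⊤ η trivial).hom.comp (Coh.toGlobal (X ↘ Spec (CommRingCat.of k)))
  letI : Field (X.presheaf.stalk η) := inferInstanceAs (Field X.functionField)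
  letI : Algebra k (X.presheaf.stalk η) := ρ.toAlgebra
  have huniq : ∀ r r' : X.presheaf.stalk η, r • v = r' • v → r = r' := fun r r' h => smul_left_injective _ hv h
  let c : (ω ⟶ ω) → X.presheaf.stalk η := fun φ => (hvs ((DerSch.stalkFunctor X η).map φ v)).choose
  have hc : ∀ φ, c φ • v = (DerSch.stalkFunctor X η).map φ v := fun φ => (hvs _).choose_spec
  have hsm : ∀ (a : k) (w : ω.presheaf.stalk η),
      (DerSch.stalkFunctor X η).map (Formal.smulMod k ω a) w = ρ a • w := fun a w => by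
    rw [stalk_smulMod]
    rfl
  let Θ : (ω ⟶ ω) →ₗ[k] X.presheaf.stalk η :=
    { toFun := c
      map_add' := fun φ ψ => huniq _ _ (by
        rw [add_smul, hc, hc, hc, Functor.map_add]
        rfl)
      map_smul' := fun a φ => huniq _ _ (by
        rw [hc, KLin.smul_def, Functor.map_comp, RingHom.id_apply, Algebra.smul_def, mul_smul, hc]
        show (DerSch.stalkFunctor X η).map φ ((DerSch.stalkFunctor X η).map (Formal.smulMod k ω a) v) =
          ρ a • (DerSch.stalkFunctor X η).map φ v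
        rw [hsm]
        exact map_smul _ _ _) }
  have hcomp : ∀ φ ψ, Θ (φ ≫ ψ) = Θ φ * Θ ψ := fun φ ψ => huniq _ _ (by
    show c (φ ≫ ψ) • v = (c φ * c ψ) • v
    rw [hc, mul_smul, hc ψ, Functor.map_comp]
    show (DerSch.stalkFunctor X η).map ψ ((DerSch.stalkFunctor X η).map φ v) = _
    rw [← hc φ]
    exact map_smul _ _ _)
  have hid : Θ (𝟙 ω) = 1 := huniq _ _ (by
    show c (𝟙 ω) • v = (1 : X.presheaf.stalk η) • v
    rw [hc, CategoryTheory.Functor.map_id, one_smul]
    rfl)
  refine ⟨fun φ => ?_, fun h => one_ne_zero (hid.symm.trans ((congrArg Θ h).trans (map_zero Θ)))⟩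
  have hint : IsIntegral k (Θ φ) := by
    refine isIntegral_of_smul_mem_submodule (LinearMap.range Θ) (fun hb => ?_)
      (Module.Finite.iff_fg.1 (Module.Finite.range Θ)) _ ?_
    · have h1 : (1 : X.presheaf.stalk η) ∈ LinearMap.range Θ := ⟨𝟙 ω, hid⟩
      rw [hb, Submodule.mem_bot] at h1
      exact one_ne_zero h1
    · rintro _ ⟨ψ, rfl⟩
      exact ⟨φ ≫ ψ, hcomp φ ψ⟩
  obtain ⟨a, ha⟩ := halg (Θ φ) hint
  refine ⟨a, ?_⟩
  rw [← sub_eq_zero]
  refine eq_zero_of_vanish_generic hω hω htf _ fun g hg w => ?_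
  obtain rfl : η = g := hg η ((genericPoint_spec X).specializes trivial)
  obtain ⟨r, rfl⟩ := hvs w
  rw [map_smul, CurveHom.stalkMapₗ_eq, Functor.map_sub]
  show r • ((DerSch.stalkFunctor X η).map (a • 𝟙 ω) v - (DerSch.stalkFunctor X η).map φ v) = 0
  rw [← hc, ← hc]
  show r • (Θ (a • 𝟙 ω) • v - Θ φ • v) = 0
  rw [map_smul, hid, show a • (1 : X.presheaf.stalk η) = Θ φ from (Algebra.algebraMap_eq_smul_one a).symm.trans ha,
    sub_self, smul_zero]

/-- The trace is bijective when the endomorphisms of `ω` are scalars. -/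
theorem bijective_trace {n : ℕ} {ω : X.Modules} (t : Coh.HH X ω n →ₗ[k] k)
    (h : Function.Bijective (Canon.dualityMap k X n ω t ω))
    (hend : ∀ φ : ω ⟶ ω, ∃ a : k, a • 𝟙 ω = φ) (h0 : 𝟙 ω ≠ 0) : Function.Bijective t := by
  have hsm : ∀ (a : k) (x : Coh.HH X ω n), Canon.dualityMap k X n ω t ω (a • 𝟙 ω) x = a * t x := fun a x => by
    show PnDual.dualityLin t ω (a • 𝟙 ω) x = a * t x
    rw [map_smul]
    show a • t (Sheaf.H.map ((SheafOfModules.toSheaf X.ringCatSheaf).map (𝟙 ω)) n x) = _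
    rw [CategoryTheory.Functor.map_id, Sheaf.H.map_id_apply, smul_eq_mul]
  have ht : t ≠ 0 := fun ht => h0 (h.1 (LinearMap.ext fun x => by
    show t (Canon.HHlin k (𝟙 ω) n x) = t (Canon.HHlin k (0 : ω ⟶ ω) n x)
    rw [ht]; rfl))
  obtain ⟨x₀, hx₀⟩ : ∃ x₀, t x₀ ≠ 0 := by
    by_contra hne
    exact ht (LinearMap.ext fun x => not_not.1 fun hx => hne ⟨x, hx⟩)
  refine ⟨(injective_iff_map_eq_zero t).2 fun x hx => (Module.forall_dual_apply_eq_zero_iff k x).1 fun ψ => ?_,
    fun y => ⟨(y * (t x₀)⁻¹) • x₀, by rw [map_smul, smul_eq_mul, mul_assoc, inv_mul_cancel₀ hx₀, mul_one]⟩⟩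
  obtain ⟨φ, rfl⟩ := h.2 ψ
  obtain ⟨a, rfl⟩ := hend φ
  rw [hsm, hx, mul_zero]

end Groth.Agent.ExtShX
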