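import Groth.Agent.ExtShX.DepthExt
import Groth.Agent.LC.GorRows
import Groth.Agent.LC.Matlis
import Mathlib.RingTheory.KrullDimension.Regular

/-!
# The lowest nonvanishing `Ext` into a regular local ring
-/

set_option linter.style.haveILetI false
set_option linter.unusedSectionVars false
set_option backward.isDefEq.respectTransparency false
set_option backward.isDefEq.respectTransparency.types false
set_option maxHeartbeats 1000000

universe u

open CategoryTheory CategoryTheory.Limits IsLocalRing
open scoped Pointwise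

noncomputable section

namespace Groth.Agent.ExtShX

variable {A : Type u} [CommRing A]

theorem supportDim_le_of_support_subset (M N : Type u) [AddCommGroup M] [Module A M] [AddCommGroup N] [Module A N]
    (h : Module.support A M ⊆ Module.support A N) : Module.supportDim A M ≤ Module.supportDim A N :=
  Order.krullDim_le_of_strictMono (Set.inclusion h) fun _ _ hh => hh

variable [IsRegularLocalRing A]

theorem depth_self_eq {b : ℕ} (hb : ringKrullDim A = b) : LocCoh.depth A A = b := by
  haveI := LC.gorenstein_of_isRegularLocalRing (R := A)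
  obtain ⟨d, hd, hδ, -⟩ := LC.gorenstein_basic (R := A)
  obtain rfl : d = b := by rw [hb] at hd; exact_mod_cast hd.symm
  exact hδ

variable {b : ℕ} (hb : ringKrullDim A = b)

include hb in
theorem subsingleton_ext_of_dim (N : Type u) [AddCommGroup N] [Module A N] [Module.Finite A N] {i : ℕ}
    (h : Module.supportDim A N + ((i + 1 : ℕ) : WithBot ℕ∞) ≤ (b : WithBot ℕ∞)) :
    Subsingleton (Abelian.Ext (ModuleCat.of A N) (ModuleCat.of A A) i) := by
  rcases subsingleton_or_nontrivial N with hN | hN
  · exact subsingleton_ext_of_subsingleton_left N _ i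
  obtain ⟨D, hD⟩ := LC.exists_supportDim_eq_nat (R := A) N
  rw [hD] at h
  have h' : D + (i + 1) ≤ b := by exact_mod_cast h
  refine LC.subsingleton_ext_of_add_lt_depth A N D i hD.le ?_
  rw [depth_self_eq hb]
  exact_mod_cast (by omega : i + D < b)

include hb in
/-- An element outside the minimal primes of the support is injective on the first possibly nonzero `Ext`. -/
theorem smul_ext_injective (M : Type u) [AddCommGroup M] [Module A M] [Module.Finite A M] {c : ℕ}
    (hM : Module.supportDim A M + (c : WithBot ℕ∞) ≤ (b : WithBot ℕ∞)) {a : A}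
    (ha : ∀ p ∈ (Module.annihilator A M).minimalPrimes, a ∉ p)
    (e : Abelian.Ext (ModuleCat.of A M) (ModuleCat.of A A) c) (he : a • e = 0) : e = 0 := by
  let f : M →ₗ[A] M := LinearMap.lsmul A M a
  let K := LinearMap.ker f
  let R := LinearMap.range f
  have hR : R = (a • ⊤ : Submodule A M) := Submodule.ext fun z => by
    rw [Submodule.mem_smul_pointwise_iff_exists]
    exact ⟨fun ⟨y, hy⟩ => ⟨y, trivial, hy⟩, fun ⟨y, _, hy⟩ => ⟨y, hy⟩⟩
  have hq : Module.supportDim A (QuotSMulTop a M) + ((c + 1 : ℕ) : WithBot ℕ∞) ≤ (b : WithBot ℕ∞) := by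
    refine le_trans ?_ hM
    rw [Nat.cast_add, Nat.cast_one, add_comm (c : WithBot ℕ∞) 1, ← add_assoc]
    exact add_le_add (Module.supportDim_quotSMulTop_succ_le_of_notMem_minimalPrimes ha) le_rfl
  have hQ : Subsingleton (Abelian.Ext (ModuleCat.of A (M ⧸ R)) (ModuleCat.of A A) c) :=
    subsingleton_ext_of_dim hb _ (le_trans (add_le_add (supportDim_le_of_support_subset _ _
      (Submodule.quotEquivOfEq R _ hR).support_eq.le) le_rfl) hq)
  have hKs : Module.support A K ⊆ Module.support A (QuotSMulTop a M) := by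
    rw [Module.support_quotSMulTop]
    refine Set.subset_inter (Module.support_subset_of_injective K.subtype Subtype.val_injective) ?_
    rw [Module.support_eq_zeroLocus]
    refine PrimeSpectrum.zeroLocus_anti_mono (Set.singleton_subset_iff.2 (Module.mem_annihilator.2 fun z => ?_))
    exact Subtype.ext z.2
  have hK : ∀ i, i < c → Subsingleton (Abelian.Ext (ModuleCat.of A K) (ModuleCat.of A A) i) := fun i hi =>
    subsingleton_ext_of_dim hb _ (le_trans (add_le_add (supportDim_le_of_support_subset _ _ hKs)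
      (by exact_mod_cast (by omega : i + 1 ≤ c + 1))) hq)
  let S₁ : ShortComplex (ModuleCat.{u} A) := ShortComplex.mk (X₁ := ModuleCat.of A K) (X₂ := ModuleCat.of A M)
    (X₃ := ModuleCat.of A R) (ModuleCat.ofHom K.subtype) (ModuleCat.ofHom f.rangeRestrict)
    (ModuleCat.hom_ext (LinearMap.ext fun z => Subtype.ext z.2))
  have h₁ : S₁.ShortExact :=
    { exact := (ShortComplex.ShortExact.moduleCat_exact_iff_function_exact _).2 fun z => by
        refine ⟨fun hz => ⟨⟨z, congrArg Subtype.val hz⟩, rfl⟩, ?_⟩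
        rintro ⟨y, rfl⟩
        exact Subtype.ext y.2
      mono_f := (ModuleCat.mono_iff_injective _).2 Subtype.val_injective
      epi_g := (ModuleCat.epi_iff_surjective _).2 f.surjective_rangeRestrict }
  let S₂ : ShortComplex (ModuleCat.{u} A) := ShortComplex.mk (X₁ := ModuleCat.of A R) (X₂ := ModuleCat.of A M)
    (X₃ := ModuleCat.of A (M ⧸ R)) (ModuleCat.ofHom R.subtype) (ModuleCat.ofHom R.mkQ)
    (ModuleCat.hom_ext (LinearMap.ext fun z => (Submodule.Quotient.mk_eq_zero R).2 z.2))
  have h₂ : S₂.ShortExact :=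
    { exact := (ShortComplex.ShortExact.moduleCat_exact_iff_function_exact _).2 (LinearMap.exact_subtype_mkQ R)
      mono_f := (ModuleCat.mono_iff_injective _).2 Subtype.val_injective
      epi_g := (ModuleCat.epi_iff_surjective _).2 R.mkQ_surjective }
  let e' : Abelian.Ext (ModuleCat.of A R) (ModuleCat.of A A) c :=
    (Abelian.Ext.mk₀ (ModuleCat.ofHom R.subtype)).comp e (zero_add c)
  have hπ : (Abelian.Ext.mk₀ (ModuleCat.ofHom f.rangeRestrict)).comp e' (zero_add c) = 0 := by
    rw [Abelian.Ext.mk₀_comp_mk₀_assoc,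
      show ModuleCat.ofHom f.rangeRestrict ≫ ModuleCat.ofHom R.subtype = a • 𝟙 (ModuleCat.of A M) from rfl,
      Abelian.Ext.mk₀_smul, Abelian.Ext.smul_comp, Abelian.Ext.mk₀_id_comp, he]
  have he' : e' = 0 := by
    rcases c with _ | c
    · obtain ⟨g, hg⟩ := (Abelian.Ext.mk₀_bijective _ _).2 e'
      rw [← hg, Abelian.Ext.mk₀_comp_mk₀] at hπ
      have h0 : ModuleCat.ofHom f.rangeRestrict ≫ g = 0 :=
        (Abelian.Ext.mk₀_bijective _ _).1 (by rw [hπ, Abelian.Ext.mk₀_zero])
      haveI : Epi (ModuleCat.ofHom f.rangeRestrict) := h₁.epi_g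
      rw [← hg, show g = 0 from zero_of_epi_comp _ h0, Abelian.Ext.mk₀_zero]
    · obtain ⟨z, hz⟩ := Abelian.Ext.contravariant_sequence_exact₃ h₁ (ModuleCat.of A A) e' hπ (add_comm 1 c)
      rw [← hz, @Subsingleton.elim _ (hK c (Nat.lt_succ_self c)) z 0, Abelian.Ext.comp_zero]
  obtain ⟨w, hw⟩ := Abelian.Ext.contravariant_sequence_exact₂ h₂ (ModuleCat.of A A) e he'
  rw [← hw, @Subsingleton.elim _ hQ w 0, Abelian.Ext.comp_zero]

omit [IsRegularLocalRing A] in
theorem exists_gen_of_length_eq_one {T : Type u} [AddCommGroup T] [Module A T] (h : Module.length A T = 1) :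
    ∃ v : T, v ≠ 0 ∧ ∀ w, ∃ r : A, r • v = w := by
  haveI := Module.length_eq_one_iff.1 h
  haveI := IsSimpleModule.nontrivial A T
  obtain ⟨v, hv⟩ := exists_ne (0 : T)
  exact ⟨v, hv, fun w => Submodule.mem_span_singleton.1
    (((IsSimpleOrder.eq_bot_or_eq_top (Submodule.span A {v})).resolve_left
      (fun h0 => hv (Submodule.span_singleton_eq_bot.1 h0))).ge (Submodule.mem_top : w ∈ ⊤))⟩

include hb in
/-- `Ext^b(k, A)` is simple. -/
theorem exists_gen_ext_residue (M : Type u) [AddCommGroup M] [Module A M] (eM : M ≃ₗ[A] A ⧸ maximalIdeal A) :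
    ∃ v : Abelian.Ext (ModuleCat.of A M) (ModuleCat.of A A) b, v ≠ 0 ∧ ∀ w, ∃ r : A, r • v = w := by
  haveI := LC.gorenstein_of_isRegularLocalRing (R := A)
  haveI : Module.Finite A M := Module.Finite.equiv eM.symm
  let eM' : M ≃ₗ[A] ResidueField A := eM
  have hk : LocCoh.IsPowerTorsion (maximalIdeal A) M := fun z => by
    obtain ⟨n, hn⟩ := LC.isPowerTorsion_residueField (R := A) (eM' z)
    exact ⟨n, fun a ha => eM'.injective (by rw [map_smul, hn a ha, map_zero])⟩
  obtain ⟨e⟩ := LC.nonempty_ext_linearEquiv_hom (LC.prevVanish_gorenstein (depth_self_eq hb)) M hk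
  obtain ⟨g, hg⟩ := LC.isInjectiveHull_H_gorenstein (R := A) (d := b) hb
  refine exists_gen_of_length_eq_one ?_
  rw [e.length_eq, (LinearEquiv.congrLeft _ A eM').length_eq, LC.length_dual_residueField hg]
  exact (Module.length_eq_one_iff (R := A) (M := A ⧸ maximalIdeal A)).2
    (isSimpleModule_iff_isCoatom.2 (IsLocalRing.maximalIdeal.isMaximal A).out)

end Groth.Agent.ExtShX
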