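import Groth.Agent.ExtShX.Local
import Groth.Agent.ExtShX.CanonAlg
import Groth.Agent.H23.SpClosed
import Groth.Agent.H23.InvStalk

/-!
# Stalks of the lowest nonvanishing local Ext sheaf of a closed subscheme
-/

set_option linter.style.haveILetI false
set_option linter.unusedSectionVars false
set_option backward.isDefEq.respectTransparency false
set_option backward.isDefEq.respectTransparency.types false
set_option maxHeartbeats 1000000

universe u

open CategoryTheory CategoryTheory.Limits AlgebraicGeometry TopologicalSpace Opposite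

noncomputable section

namespace Groth.Agent.ExtShX

variable {P : Scheme.{u}} [IsLocallyNoetherian P]

/-- Stalks of local Ext sheaves, compatibly with the scalars. -/
theorem exists_stalk_ext_semilinear {F : P.Modules} (hF : Coh.IsCoh F) (G : P.Modules) (c : ℕ) (y : P) :
    ∃ (A : CommRingCat.{u}) (e : P.presheaf.stalk y ≃+* A) (M N : ModuleCat.{u} A)
      (fF : F.presheaf.stalk y ≃+ M) (fG : G.presheaf.stalk y ≃+ N)
      (φ : ((E F c).obj G).presheaf.stalk y ≃+ Abelian.Ext M N c),
      (∀ r m, fF (r • m) = e r • fF m) ∧ (∀ r m, fG (r • m) = e r • fG m) ∧ ∀ r m, φ (r • m) = e r • φ m := by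
  obtain ⟨V, hV, hx, -⟩ := exists_isAffineOpen_mem_and_subset (TopologicalSpace.Opens.mem_top y)
  obtain ⟨u, rfl⟩ : y ∈ Set.range hV.fromSpec := by rw [hV.range_fromSpec]; exact hx
  haveI : IsLocallyNoetherian (Spec Γ(P, V)) := LocallyOfFiniteType.isLocallyNoetherian hV.fromSpec
  haveI : IsNoetherianRing Γ(P, V) := isLocallyNoetherian_Spec.1 ‹_›
  obtain ⟨r⟩ := restrict_iso hV.fromSpec F G c
  obtain ⟨a⟩ := exists_stalk_ext_affine u (G.restrict hV.fromSpec) c (SheafHomX.isCoh_restrict hV.fromSpec hF)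
  obtain ⟨d, hd⟩ := exists_stalk_restrict hV.fromSpec u ((E F c).obj G)
  obtain ⟨dF, hdF⟩ := exists_stalk_restrict hV.fromSpec u F
  obtain ⟨dG, hdG⟩ := exists_stalk_restrict hV.fromSpec u G
  have key : ∀ {M : P.Modules} (d : (M.restrict hV.fromSpec).presheaf.stalk u ≃+ M.presheaf.stalk (hV.fromSpec u)),
      (∀ s m, d (s • m) = (ringEquiv hV.fromSpec u).symm s • d m) →
      ∀ t m, d.symm (t • m) = ringEquiv hV.fromSpec u t • d.symm m := fun d hd t m =>
    d.injective (by rw [AddEquiv.apply_symm_apply, hd, RingEquiv.symm_apply_apply, AddEquiv.apply_symm_apply])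
  let l := ((DerSch.stalkFunctor (Spec Γ(P, V)) u).mapIso r).toLinearEquiv.trans a
  refine ⟨(Spec Γ(P, V)).presheaf.stalk u, ringEquiv hV.fromSpec u, (DerSch.stalkFunctor _ u).obj (F.restrict hV.fromSpec),
    (DerSch.stalkFunctor _ u).obj (G.restrict hV.fromSpec), dF.symm, dG.symm, d.symm.trans l.toAddEquiv,
    key dF hdF, key dG hdG, fun t m => ?_⟩
  exact (congrArg l (key d hd t m)).trans (map_smul l _ _)

variable {X : Scheme.{u}} (ι : X ⟶ P) [IsClosedImmersion ι]

/-- The stalks of a module whose direct image is `Ext^c(ι_* O_X, L)`. -/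
theorem exists_canon_stalk {L : P.Modules} (hL : PicF.IsInvertible L) {c : ℕ} {ω : X.Modules}
    (hω : Nonempty ((Coh.push ι).obj ω ≅ (E ((Coh.push ι).obj (Coh.structureModule X)) c).obj L)) (x : X) :
    ∃ (A : CommRingCat.{u}) (e : P.presheaf.stalk (ι x) ≃+* A) (σ : A →+* X.presheaf.stalk x) (M : ModuleCat.{u} A)
      (φ : ω.presheaf.stalk x ≃+ Abelian.Ext M (ModuleCat.of A A) c),
      Function.Surjective σ ∧ Nonempty (M ≃ₗ[A] A ⧸ RingHom.ker σ) ∧ ∀ a w, φ (σ a • w) = a • φ w := by
  obtain ⟨i⟩ := hω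
  haveI : IsLocallyNoetherian X := LocallyOfFiniteType.isLocallyNoetherian ι
  have hF : Coh.IsCoh ((Coh.push ι).obj (Coh.structureModule X)) :=
    QCoh.isCoh_pushforward_finite ι QCoh.isCoh_structureModule'
  obtain ⟨A, e, M, N, fF, fG, φ, hfF, hfG, hφ⟩ := exists_stalk_ext_semilinear hF L c (ι x)
  obtain ⟨q⟩ := H23.SpClosed.nonempty_quotEquiv ι x
  obtain ⟨l⟩ := H23.InvStalk.exists_stalk_equiv hL (ι x)
  letI : Module (P.presheaf.stalk (ι x)) (ω.presheaf.stalk x) := Module.compHom _ (ι.stalkMap x).hom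
  obtain ⟨w⟩ := H23.SpClosed.nonempty_stalkEquiv ι ω x
  let σ : A →+* X.presheaf.stalk x := (ι.stalkMap x).hom.comp e.symm.toRingHom
  have hσ : Function.Surjective σ := (ι.stalkMap_surjective x).comp e.symm.surjective
  -- the first argument is cyclic
  let m₀ : M := fF (q.symm 1)
  have hm : ∀ t : A, t • m₀ = fF (q.symm (Ideal.Quotient.mk _ (e.symm t))) := fun t => by
    show t • fF _ = _
    conv_lhs => rw [← e.apply_symm_apply t, ← hfF, ← map_smul q.symm]
    congr 2
    rw [Algebra.smul_def, mul_one]; rfl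
  have hsurj : Function.Surjective (LinearMap.toSpanSingleton A M m₀) := fun m => by
    obtain ⟨r, hr⟩ := Ideal.Quotient.mk_surjective (q (fF.symm m))
    refine ⟨e r, ?_⟩
    show e r • m₀ = m
    rw [hm, RingEquiv.symm_apply_apply, hr, q.symm_apply_apply, fF.apply_symm_apply]
  have hker : LinearMap.ker (LinearMap.toSpanSingleton A M m₀) = RingHom.ker σ := Submodule.ext fun t => by
    rw [LinearMap.mem_ker, LinearMap.toSpanSingleton_apply, hm]
    constructor
    · intro h
      exact (Ideal.Quotient.eq_zero_iff_mem (I := RingHom.ker (ι.stalkMap x).hom)).1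
        (q.symm.injective (fF.injective (h.trans (by rw [map_zero, map_zero]))))
    · intro h
      rw [Ideal.Quotient.eq_zero_iff_mem.2 (show e.symm t ∈ RingHom.ker (ι.stalkMap x).hom from h), map_zero, map_zero]
  have eM : M ≃ₗ[A] A ⧸ RingHom.ker σ :=
    ((LinearMap.toSpanSingleton A M m₀).quotKerEquivOfSurjective hsurj).symm.trans
      (Submodule.quotEquivOfEq _ _ hker)
  -- the second argument is free of rank one
  let n₀ : N := fG (l.symm 1)
  have hn : ∀ t : A, t • n₀ = fG (l.symm (e.symm t)) := fun t => by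
    show t • fG _ = _
    conv_lhs => rw [← e.apply_symm_apply t, ← hfG, ← map_smul l.symm, smul_eq_mul, mul_one]
  let eN : N ≅ ModuleCat.of A A := (LinearEquiv.ofBijective (LinearMap.toSpanSingleton A N n₀)
    ⟨fun a b h => by
      have h' : a • n₀ = b • n₀ := h
      rw [hn, hn] at h'
      exact e.symm.injective (l.symm.injective (fG.injective h')),
    fun n => ⟨e (l (fG.symm n)), by
      show e _ • n₀ = n
      rw [hn, e.symm_apply_apply, l.symm_apply_apply, fG.apply_symm_apply]⟩⟩).symm.toModuleIso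
  let ψ : Abelian.Ext M N c ≃+ Abelian.Ext M (ModuleCat.of A A) c :=
    ((Abelian.extFunctorObj M c).mapIso eN).addCommGroupIsoToAddEquiv
  have hψ : ∀ (t : A) (z : Abelian.Ext M N c), ψ (t • z) = t • ψ z := fun t z =>
    show (t • z).comp (Abelian.Ext.mk₀ eN.hom) (add_zero c) = t • z.comp (Abelian.Ext.mk₀ eN.hom) (add_zero c) from
      Abelian.Ext.smul_comp _ _ _ _
  let j : ((Coh.push ι).obj ω).presheaf.stalk (ι x) ≃ₗ[P.presheaf.stalk (ι x)] _ :=
    ((DerSch.stalkFunctor P (ι x)).mapIso i).toLinearEquiv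
  refine ⟨A, e, σ, M, ((w.symm.toAddEquiv.trans j.toAddEquiv).trans φ).trans ψ, hσ, ⟨eM⟩, fun a m => ?_⟩
  show ψ (φ (j (w.symm (σ a • m)))) = a • ψ (φ (j (w.symm m)))
  rw [show σ a • m = e.symm a • m from rfl, map_smul w.symm, map_smul j]
  rw [show φ (e.symm a • j (w.symm m)) = e (e.symm a) • φ (j (w.symm m)) from hφ _ _, e.apply_symm_apply, hψ]

variable {L : P.Modules} (hL : PicF.IsInvertible L) {c : ℕ} {ω : X.Modules}
    (hω : Nonempty ((Coh.push ι).obj ω ≅ (E ((Coh.push ι).obj (Coh.structureModule X)) c).obj L)) (x : X)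
    [IsRegularLocalRing (P.presheaf.stalk (ι x))] {b : ℕ}
    (hb : ringKrullDim (P.presheaf.stalk (ι x)) = b)

include hL hω hb in
/-- No element outside the minimal primes kills a nonzero germ. -/
theorem smul_stalk_eq_zero (hdim : ringKrullDim (X.presheaf.stalk x) + (c : WithBot ℕ∞) ≤ (b : WithBot ℕ∞))
    (r : X.presheaf.stalk x) (hr : ∀ p ∈ minimalPrimes (X.presheaf.stalk x), r ∉ p)
    (w : ω.presheaf.stalk x) (hw : r • w = 0) : w = 0 := by
  obtain ⟨A, e, σ, M, φ, hσ, ⟨eM⟩, hφ⟩ := exists_canon_stalk ι hL hω x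
  haveI : IsRegularLocalRing A := IsRegularLocalRing.of_ringEquiv e
  haveI : Module.Finite A M := Module.Finite.equiv eM.symm
  obtain ⟨a, rfl⟩ := hσ r
  refine φ.injective ?_
  rw [map_zero]
  refine smul_ext_injective (b := b) ((ringKrullDim_eq_of_ringEquiv e).symm.trans hb) M ?_ (a := a) ?_ (φ w)
    (by rw [← hφ, hw, map_zero])
  · refine le_trans (add_le_add (le_of_eq ?_) le_rfl) hdim
    rw [Module.supportDim_eq_of_equiv eM, Module.supportDim_quotient_eq_ringKrullDim,
      ringKrullDim_eq_of_ringEquiv (RingHom.quotientKerEquivOfSurjective hσ)]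
  · intro p hp ha
    rw [LinearEquiv.annihilator_eq eM, Ideal.annihilator_quotient] at hp
    have hle : RingHom.ker σ ≤ p := hp.1.2
    refine hr (p.map σ) ?_ (Ideal.mem_map_of_mem σ ha)
    haveI : p.IsPrime := hp.1.1
    refine ⟨⟨Ideal.map_isPrime_of_surjective hσ hle, bot_le⟩, fun q hq hqp => ?_⟩
    haveI := hq.1
    have h1 : p ≤ q.comap σ := hp.2 ⟨Ideal.IsPrime.comap σ, Ideal.ker_le_comap σ⟩ (by
      refine (Ideal.comap_mono hqp).trans (le_of_eq ?_)
      rw [Ideal.comap_map_of_surjective σ hσ, sup_eq_left]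
      exact hle)
    exact Ideal.map_le_iff_le_comap.2 h1

include hL hω hb in
/-- At a point where the closed subscheme is reduced of codimension `c`, the stalk is one-dimensional. -/
theorem exists_gen_stalk (hc : b = c) (hfield : IsField (X.presheaf.stalk x)) :
    ∃ v : ω.presheaf.stalk x, v ≠ 0 ∧ ∀ w, ∃ r : X.presheaf.stalk x, r • v = w := by
  obtain ⟨A, e, σ, M, φ, hσ, ⟨eM⟩, hφ⟩ := exists_canon_stalk ι hL hω x
  haveI : IsRegularLocalRing A := IsRegularLocalRing.of_ringEquiv e
  haveI : (RingHom.ker σ).IsMaximal :=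
    letI := hfield.toField
    RingHom.ker_isMaximal_of_surjective σ hσ
  obtain ⟨v, hv, hgen⟩ := exists_gen_ext_residue (b := c) ((ringKrullDim_eq_of_ringEquiv e).symm.trans (hc ▸ hb)) M
    (eM.trans (Submodule.quotEquivOfEq _ _ (IsLocalRing.eq_maximalIdeal ‹_›)))
  refine ⟨φ.symm v, fun h => hv (by simpa using congrArg φ h), fun w => ?_⟩
  obtain ⟨a, ha⟩ := hgen (φ w)
  exact ⟨σ a, φ.injective (by rw [hφ, φ.apply_symm_apply, ha])⟩

end Groth.Agent.ExtShX
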