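import Groth.Agent.ExtShX.DetPn
import Groth.Agent.PnCoh.Chow.Proper
import Groth.Agent.FibDim.LocDim
import Groth.Agent.AlgSpDec.SmoothLocDim

/-!
# Projective space is smooth; the dimension of a smooth scheme over a field
-/

set_option autoImplicit false
set_option linter.style.haveILetI false
set_option backward.isDefEq.respectTransparency false
set_option backward.isDefEq.respectTransparency.types false

universe u

open CategoryTheory CategoryTheory.Limits AlgebraicGeometry TopologicalSpace Opposite

noncomputable section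

namespace Groth.Agent.ExtShX.DetPn

open Groth.Agent Groth.Agent.H23

theorem isStandardSmoothOfRelativeDimension_mvPolynomial (R : Type u) [CommRing R] (σ : Type) [Finite σ] :
    Algebra.IsStandardSmoothOfRelativeDimension (Nat.card σ) R (MvPolynomial σ R) := by
  let v : PEmpty.{1} → MvPolynomial σ R := PEmpty.elim
  let P₀ := Algebra.PreSubmersivePresentation.naive (v := v) PEmpty.elim (fun x => x.elim)
  let P : Algebra.SubmersivePresentation R (MvPolynomial σ R ⧸ Ideal.span (Set.range v)) σ PEmpty.{1} :=
    ⟨P₀, by rw [Algebra.PreSubmersivePresentation.jacobian_eq_jacobiMatrix_det, Matrix.det_isEmpty, map_one]; exact isUnit_one⟩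
  haveI : Algebra.IsStandardSmoothOfRelativeDimension (Nat.card σ) R (MvPolynomial σ R ⧸ Ideal.span (Set.range v)) :=
    P.isStandardSmoothOfRelativeDimension (by simp [Algebra.Presentation.dimension])
  have h : Ideal.span (Set.range v) = ⊥ := by rw [Set.range_eq_empty, Ideal.span_empty]
  exact Algebra.IsStandardSmoothOfRelativeDimension.of_algEquiv _
    ((Ideal.quotientEquivAlgOfEq R h).trans (AlgEquiv.quotientBot R (MvPolynomial σ R)))

theorem isStandardSmoothOfRelativeDimension_mvPolynomial' (R : Type u) [CommRing R] (σ : Type u) [Finite σ] (n : ℕ)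
    (h : Nat.card σ = n) : Algebra.IsStandardSmoothOfRelativeDimension n R (MvPolynomial σ R) := by
  subst h
  haveI := isStandardSmoothOfRelativeDimension_mvPolynomial R (Fin (Nat.card σ))
  haveI : Algebra.IsStandardSmoothOfRelativeDimension (Nat.card σ) R (MvPolynomial (Fin (Nat.card σ)) R) := by
    simpa using this
  exact Algebra.IsStandardSmoothOfRelativeDimension.of_algEquiv _
    (MvPolynomial.renameEquiv R (Finite.equivFin σ).symm)

variable (n : ℕ) (k : Type u) [Field k]

theorem quasiSeparated_toSpec : QuasiSeparated (CohB1.ProjSpace.toSpec n k) := by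
  haveI := PnCoh.Chow.isProper_toSpec n k
  infer_instance

theorem smooth_toSpec : SmoothOfRelativeDimension n (CohB1.ProjSpace.toSpec n k) := by
  refine ⟨fun x => ?_⟩
  obtain ⟨i, hi⟩ := exists_mem_D n k x
  refine ⟨⊤, isAffineOpen_top (Spec (CommRingCat.of k)), D n k i, isAffineOpen_D n k i, hi, le_top, ?_⟩
  letI := ((CohB1.ProjSpace.toSpec n k).appLE ⊤ (D n k i) le_top).hom.toAlgebra
  haveI : QuasiSeparated (CohB1.ProjSpace.toSpec n k) := quasiSeparated_toSpec n k
  obtain ⟨e⟩ := exists_algEquiv n k i
  haveI := isStandardSmoothOfRelativeDimension_mvPolynomial' Γ(Spec (CommRingCat.of k), ⊤) (PnChart.Idx n i) n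
    (by rw [PnChart.Idx, Nat.card_ulift, Nat.card_eq_fintype_card, Fintype.card_subtype_compl]; simp)
  exact Algebra.IsStandardSmoothOfRelativeDimension.of_algEquiv _ e

theorem dim_le_of_smooth {X : Scheme.{u}} (p : X ⟶ Spec (CommRingCat.of k)) (r : ℕ)
    [SmoothOfRelativeDimension r p] : topologicalKrullDim ↥X ≤ (r : WithBot ℕ∞) := by
  haveI : Smooth p := SmoothOfRelativeDimension.smooth r p
  haveI : IsLocallyNoetherian X := LocallyOfFiniteType.isLocallyNoetherian p
  rw [FibDim.topologicalKrullDim_eq_iSup_codim]
  refine iSup_le fun x => ?_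
  have h1 := DimFormula.codim_le_add p x
  have h2 : FlatMor.fibreDimAt p x = (r : WithBot ℕ∞) :=
    FibDim.fibreDimAt_eq_of_hasRelDim p (AlgSpDec.SmoothLocDim.hasRelDim_of_smoothOfRelativeDimension r p) x
  rw [DimFormula.fibreDimAt_eq_add] at h2
  have h3 : FibDim.rd p x + DimFormula.fb p x = r := by exact_mod_cast h2
  have h4 : DimFormula.codim (p x) = 0 := DimFormula.codim_eq_zero_iff.2 fun z _ => Subsingleton.elim _ _
  exact_mod_cast (show DimFormula.codim x ≤ r by omega)

end Groth.Agent.ExtShX.DetPn
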