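import Groth.Agent.ExtShX.Codim
import Groth.Agent.LC.DepthLoc
import Groth.Agent.LC.Depth
import Groth.Agent.H23.SchDense
import Groth.Agent.LCZLib.DepthGlobal
import Mathlib.RingTheory.Depth.Rees

/-!
# Depth along a closed subset and vanishing of local Ext sheaves
-/

set_option linter.style.haveILetI false
set_option linter.unusedSectionVars false
set_option backward.isDefEq.respectTransparency false
set_option backward.isDefEq.respectTransparency.types false
set_option maxHeartbeats 1000000

universe u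

open CategoryTheory CategoryTheory.Limits AlgebraicGeometry TopologicalSpace Opposite

noncomputable section

namespace Groth.Agent.ExtShX

section Alg

variable {R : Type u} [CommRing R] [IsLocalRing R] [IsNoetherianRing R] (N F : Type u) [AddCommGroup N] [Module R N]
  [Module.Finite R N] [AddCommGroup F] [Module R F] [Module.Finite R F]

theorem ext_vanish_tfae [Nontrivial N] [Nontrivial F] (n : ℕ) :
    ((∀ i < n, Subsingleton (Abelian.Ext (ModuleCat.of R N) (ModuleCat.of R F) i)) ↔
      ∀ i < n, Subsingleton (Abelian.Ext (ModuleCat.of R (R ⧸ Module.annihilator R N)) (ModuleCat.of R F) i)) ∧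
    ((∀ i < n, Subsingleton (Abelian.Ext (ModuleCat.of R N) (ModuleCat.of R F) i)) →
      ∀ i < n, Subsingleton (Abelian.Ext (ModuleCat.of R (R ⧸ IsLocalRing.maximalIdeal R)) (ModuleCat.of R F) i)) := by
  let I := Module.annihilator R N
  have hI : I ≤ IsLocalRing.maximalIdeal R := IsLocalRing.le_maximalIdeal fun h => by
    obtain ⟨a, b, hab⟩ := exists_pair_ne N
    have h1 : (1 : R) ∈ I := h ▸ Submodule.mem_top
    exact hab (by rw [← one_smul R a, ← one_smul R b, Module.mem_annihilator.1 h1 a, Module.mem_annihilator.1 h1 b])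
  have hlt : I • (⊤ : Submodule R (ModuleCat.of R F)) < ⊤ := by
    refine Ne.lt_top fun h => ?_
    have h0 := Submodule.eq_bot_of_le_smul_of_le_jacobson_bot I (⊤ : Submodule R F) Module.Finite.fg_top h.ge
      (hI.trans (IsLocalRing.maximalIdeal_le_jacobson _))
    obtain ⟨a, b, hab⟩ := exists_pair_ne F
    exact hab (((Submodule.eq_bot_iff _).1 h0 a trivial).trans ((Submodule.eq_bot_iff _).1 h0 b trivial).symm)
  have h := ModuleCat.exists_isRegular_tfae I n (ModuleCat.of R F) hlt
  have hN : Module.support R N = PrimeSpectrum.zeroLocus (I : Set R) := Module.support_eq_zeroLocus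
  have key : ∀ N' : ModuleCat.{u} R, Nontrivial N' → Module.Finite R N' →
      Module.support R N' = PrimeSpectrum.zeroLocus (I : Set R) →
      (∀ i < n, Subsingleton (Abelian.Ext N' (ModuleCat.of R F) i)) →
      ∀ M' : ModuleCat.{u} R, Nontrivial M' → Module.Finite R M' →
        Module.support R M' ⊆ PrimeSpectrum.zeroLocus (I : Set R) →
        ∀ i < n, Subsingleton (Abelian.Ext M' (ModuleCat.of R F) i) :=
    fun N' a b c d => (h.out 2 0 rfl rfl).1 ⟨N', a, b, c, d⟩
  have hQ : Nontrivial (R ⧸ I) := Submodule.Quotient.nontrivial_iff.2 fun h =>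
    (IsLocalRing.maximalIdeal.isMaximal R).ne_top (top_le_iff.1 (h ▸ hI))
  constructor
  · constructor
    · intro hv
      exact fun i hi => (key (ModuleCat.of R N) ‹_› ‹_› hN hv) (ModuleCat.of R (R ⧸ I)) hQ
        inferInstance (LC.support_quot_self I).le i hi
    · intro hv
      exact fun i hi => (key (ModuleCat.of R (R ⧸ I)) hQ inferInstance (LC.support_quot_self I) hv)
        (ModuleCat.of R N) ‹_› ‹_› hN.le i hi
  · intro hv i hi
    refine (key (ModuleCat.of R N) ‹_› ‹_› hN hv)
      (ModuleCat.of R (R ⧸ IsLocalRing.maximalIdeal R))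
      (Submodule.Quotient.nontrivial_iff.2 (IsLocalRing.maximalIdeal.isMaximal R).ne_top) inferInstance ?_ i hi
    rw [LC.support_quot_self]
    exact PrimeSpectrum.zeroLocus_anti_mono hI

theorem subsingleton_ext_of_subsingleton_left [Subsingleton N] (Y : ModuleCat.{u} R) (i : ℕ) :
    Subsingleton (Abelian.Ext (ModuleCat.of R N) Y i) :=
  subsingleton_of_forall_eq 0 fun z => by
    rw [← z.mk₀_id_comp, show 𝟙 (ModuleCat.of R N) = 0 from ModuleCat.hom_ext (LinearMap.ext fun a =>
      Subsingleton.elim (α := N) _ _), Abelian.Ext.mk₀_zero, Abelian.Ext.zero_comp]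

theorem subsingleton_ext_of_subsingleton_right [Subsingleton F] (Y : ModuleCat.{u} R) (i : ℕ) :
    Subsingleton (Abelian.Ext Y (ModuleCat.of R F) i) :=
  subsingleton_of_forall_eq 0 fun z => by
    rw [← z.comp_mk₀_id, show 𝟙 (ModuleCat.of R F) = 0 from ModuleCat.hom_ext (LinearMap.ext fun a =>
      Subsingleton.elim (α := F) _ _), Abelian.Ext.mk₀_zero, Abelian.Ext.comp_zero]

/-- Vanishing of low `Ext` out of a nonzero module bounds the depth. -/
theorem le_depth_of_ext_vanish [Nontrivial N] {n : ℕ}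
    (h : ∀ i < n, Subsingleton (Abelian.Ext (ModuleCat.of R N) (ModuleCat.of R F) i)) :
    (n : ℕ∞) ≤ LocCoh.depth R F := by
  refine (LC.le_idealDepth_iff_ext (IsLocalRing.maximalIdeal R) F n).2 ?_
  rcases subsingleton_or_nontrivial F with hF | hF
  · exact fun i _ => subsingleton_ext_of_subsingleton_right F _ i
  · exact (ext_vanish_tfae N F n).2 h

/-- Depth at all primes of the support kills low `Ext`. -/
theorem ext_vanish_of_depth {n : ℕ}
    (h : ∀ q : PrimeSpectrum R, q ∈ Module.support R N → (n : ℕ∞) ≤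
      LocCoh.depth (Localization.AtPrime q.asIdeal) (LocalizedModule q.asIdeal.primeCompl F)) (i : ℕ) (hi : i < n) :
    Subsingleton (Abelian.Ext (ModuleCat.of R N) (ModuleCat.of R F) i) := by
  rcases subsingleton_or_nontrivial N with hN | hN
  · exact subsingleton_ext_of_subsingleton_left N _ i
  rcases subsingleton_or_nontrivial F with hF | hF
  · exact subsingleton_ext_of_subsingleton_right F _ i
  refine (ext_vanish_tfae N F n).1.2 ((LC.le_idealDepth_iff_ext _ F n).1 ?_) i hi
  rw [LC.idealDepth_eq_iInf_depth]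
  exact le_iInf₂ fun q hq => h q (by rw [Module.support_eq_zeroLocus]; exact hq)

end Alg

variable {X : Scheme.{u}}

/-- The primes of a local ring are generisations of the point. -/
theorem exists_generization [IsLocallyNoetherian X] (x : X) (Q : PrimeSpectrum (X.presheaf.stalk x)) :
    ∃ y : X, y ⤳ x ∧ ∀ M : X.Modules, Coh.IsQCoh M →
      (Q ∈ Module.support (X.presheaf.stalk x) (M.presheaf.stalk x) → y ∈ CohB1.support M) ∧
      LocCoh.depth (X.presheaf.stalk y) (M.presheaf.stalk y) =
        LocCoh.depth (Localization.AtPrime Q.asIdeal) (LocalizedModule Q.asIdeal.primeCompl (M.presheaf.stalk x)) := by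
  obtain ⟨V, hV, hx, -⟩ := exists_isAffineOpen_mem_and_subset (TopologicalSpace.Opens.mem_top x)
  letI := QCoh.stalkAlg (X := X) hx
  haveI := QCoh.isLocalization_stalk' hV hx
  let q : PrimeSpectrum Γ(X, V) := ⟨Q.asIdeal.comap (algebraMap Γ(X, V) (X.presheaf.stalk x)), inferInstance⟩
  obtain ⟨⟨y, hy⟩, hyq⟩ := H23.SchDense.primeIdealOf_fromSpec hV q
  have hle : q.asIdeal ≤ (hV.primeIdealOf ⟨x, hx⟩).asIdeal := fun a ha => by
    by_contra hna
    exact Q.isPrime.ne_top (Ideal.eq_top_of_isUnit_mem _ ha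
      (IsLocalization.map_units (X.presheaf.stalk x) (⟨a, hna⟩ : (hV.primeIdealOf ⟨x, hx⟩).asIdeal.primeCompl)))
  refine ⟨y, ?_, fun M hM => ?_⟩
  · have h1 : q ⤳ hV.primeIdealOf ⟨x, hx⟩ := (PrimeSpectrum.le_iff_specializes _ _).1 hle
    have h2 := h1.map hV.fromSpec.continuous
    rwa [← hyq, hV.fromSpec_primeIdealOf, hV.fromSpec_primeIdealOf] at h2
  letI := QCoh.stalkModule M hx
  haveI := QCoh.isScalarTower_stalk M hx
  haveI := QCoh.isLocalizedModule_germLin hM hV hx
  haveI : IsLocalization.AtPrime (Localization.AtPrime Q.asIdeal) q.asIdeal :=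
    IsLocalization.isLocalization_isLocalization_atPrime_isLocalization
      (hV.primeIdealOf ⟨x, hx⟩).asIdeal.primeCompl (Localization.AtPrime Q.asIdeal) Q.asIdeal
  let g : Γ(M, V) →ₗ[Γ(X, V)] LocalizedModule Q.asIdeal.primeCompl (M.presheaf.stalk x) :=
    ((LocalizedModule.mkLinearMap Q.asIdeal.primeCompl (M.presheaf.stalk x)).restrictScalars Γ(X, V)).comp
      (QCoh.germLin M hx)
  haveI : IsLocalizedModule q.asIdeal.primeCompl g := by
    rw [isLocalizedModule_iff_isBaseChange _ (Localization.AtPrime Q.asIdeal)]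
    exact (IsLocalizedModule.isBaseChange (hV.primeIdealOf ⟨x, hx⟩).asIdeal.primeCompl (X.presheaf.stalk x)
      (QCoh.germLin M hx)).comp
      (IsLocalizedModule.isBaseChange Q.asIdeal.primeCompl (Localization.AtPrime Q.asIdeal)
        (LocalizedModule.mkLinearMap Q.asIdeal.primeCompl (M.presheaf.stalk x)))
  refine ⟨fun hQ => ?_, ?_⟩
  · rw [← QCoh.mem_moduleSupport_iff hM hV hy, hyq, Module.mem_support_iff]
    haveI := Module.mem_support_iff.1 hQ
    exact (IsLocalizedModule.iso q.asIdeal.primeCompl g).toEquiv.nontrivial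
  · rw [LCZLib.depth_stalk_eq hM hV hy, LCZLib.depth_atPrime_congr Γ(M, V) (congrArg PrimeSpectrum.asIdeal hyq)]
    exact (Alg6.depth_localized_eq q.asIdeal (Localization.AtPrime Q.asIdeal) g).symm

/-- Ext sheaves out of modules supported where the depth is large vanish in low degree. -/
theorem isZero_E_of_depth [IsLocallyNoetherian X] {G F : X.Modules} (hG : Coh.IsCoh G) (hF : Coh.IsCoh F) {n : ℕ}
    (h : ∀ y ∈ CohB1.support G, (n : ℕ∞) ≤ LocCoh.depth (X.presheaf.stalk y) (F.presheaf.stalk y)) {i : ℕ}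
    (hi : i < n) : IsZero ((E G i).obj F) := by
  refine (isZero_E_iff hG F i).2 fun x => ?_
  haveI := QCoh.finite_stalk_of_isFT hG.1 hG.2 x
  haveI := QCoh.finite_stalk_of_isFT hF.1 hF.2 x
  refine ext_vanish_of_depth (G.presheaf.stalk x) (F.presheaf.stalk x) (fun Q hQ => ?_) i hi
  obtain ⟨y, -, hy⟩ := exists_generization x Q
  rw [← (hy F hF.1).2]
  exact h y ((hy G hG.1).1 hQ)

/-- Vanishing of low Ext sheaves bounds the depth on the support. -/
theorem le_depth_of_isZero_E [IsLocallyNoetherian X] {G F : X.Modules} (hG : Coh.IsCoh G) (hF : Coh.IsCoh F) {n : ℕ}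
    (h : ∀ i, i < n → IsZero ((E G i).obj F)) {y : X} (hy : y ∈ CohB1.support G) :
    (n : ℕ∞) ≤ LocCoh.depth (X.presheaf.stalk y) (F.presheaf.stalk y) := by
  haveI := QCoh.finite_stalk_of_isFT hG.1 hG.2 y
  haveI := QCoh.finite_stalk_of_isFT hF.1 hF.2 y
  haveI : Nontrivial (G.presheaf.stalk y) := not_subsingleton_iff_nontrivial.1 hy
  exact le_depth_of_ext_vanish (G.presheaf.stalk y) (F.presheaf.stalk y) fun i hi => (isZero_E_iff hG F i).1 (h i hi) y

/-- Every closed subset carries a coherent sheaf with that support. -/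
theorem exists_coh_support [IsLocallyNoetherian X] {Y : Set X} (hY : IsClosed Y) :
    ∃ G : X.Modules, Coh.IsCoh G ∧ CohB1.support G = Y := by
  let i := (Scheme.IdealSheafData.vanishingIdeal ⟨Y, hY⟩).subschemeι
  haveI : IsLocallyNoetherian (Scheme.IdealSheafData.vanishingIdeal ⟨Y, hY⟩).subscheme :=
    LocallyOfFiniteType.isLocallyNoetherian i
  refine ⟨(Coh.push i).obj (Coh.structureModule _), QCoh.isCoh_pushforward_finite i QCoh.isCoh_structureModule', ?_⟩
  have hr : Set.range i = Y := by
    rw [Scheme.IdealSheafData.range_subschemeι]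
    simp
  refine Eq.trans ?_ hr
  ext y
  constructor
  · intro hy
    by_contra hny
    exact hy (H23.ClosedPushLen.subsingleton_stalk i _ hny)
  · rintro ⟨z, rfl⟩ hs
    obtain ⟨e⟩ := H23.SpClosed.nonempty_quotEquiv i z
    haveI := hs
    haveI : Subsingleton (X.presheaf.stalk (i z) ⧸ RingHom.ker (i.stalkMap z).hom) := e.symm.toEquiv.subsingleton
    exact RingHom.ker_ne_top (i.stalkMap z).hom (Ideal.Quotient.subsingleton_iff.1 ‹_›)

end Groth.Agent.ExtShX
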