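import Groth.Agent.ExtShX.Flasque
import Groth.Agent.ExtShX.DepthExt
import Groth.Agent.SiteBase.Top
import Groth.Agent.SiteBase.ExtMod
import Mathlib.Algebra.Homology.DerivedCategory.Ext.ExactSequences
import Mathlib.Algebra.Homology.DerivedCategory.Ext.EnoughInjectives

/-!
# Vanishing of local Ext sheaves gives vanishing of Ext
-/

set_option linter.style.haveILetI false
set_option linter.unusedSectionVars false
set_option backward.isDefEq.respectTransparency false
set_option backward.isDefEq.respectTransparency.types false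
set_option maxHeartbeats 1000000

universe u

open CategoryTheory CategoryTheory.Limits AlgebraicGeometry TopologicalSpace Opposite

noncomputable section

attribute [local instance] CategoryTheory.Abelian.hasFiniteBiproducts

namespace Groth.Agent.ExtShX

variable {X : Scheme.{u}} [HasExt.{u} X.Modules]

/-- `Hom(F, I)` has no higher cohomology for injective `I`. -/
theorem subsingleton_ext_unit_hom (F I : X.Modules) [Injective I] (q : ℕ) :
    Subsingleton (Abelian.Ext (Coh.structureModule X) ((SheafHomX.hom F).obj I) (q + 1)) := by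
  haveI : DCoh.HasSheafHom F :=
    ⟨_, ⟨(SheafHomX.adj F).ofNatIsoLeft ((KFlatLib.tensorBiFlipIso X).app F)⟩⟩
  let u : DCoh.sheafHom F ≅ SheafHomX.hom F :=
    Adjunction.rightAdjointUniq ((DCoh.sheafHomAdj F).ofNatIsoLeft
      ((KFlatLib.tensorBiFlipIso X).app F).symm) (SheafHomX.adj F)
  let H := (DCoh.sheafHom F).obj I
  haveI : TopCat.Sheaf.IsFlasque (Coh.toAb H) := ⟨fun {U V} i => (AddCommGrpCat.epi_iff_surjective _).2 fun s => by
    obtain ⟨t, ht⟩ := surjective_map_sheafHom F I (leOfHom i.unop) s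
    exact ⟨t, ht⟩⟩
  obtain ⟨e⟩ := SiteBase.nonempty_ext_unit_addEquiv (R := X.ringCatSheaf) H (q + 1)
  haveI h : Subsingleton (CohTop.H (Coh.toAb H) (q + 1)) := SiteBase.subsingleton_H_of_isFlasque (Coh.toAb H) q
  haveI : Subsingleton (Abelian.Ext (Coh.structureModule X) H (q + 1)) := @Equiv.subsingleton _ _ e.toEquiv h
  exact @Equiv.subsingleton _ _
    ((((Abelian.extFunctorObj (Coh.structureModule X) (q + 1)).mapIso (u.app I).symm)).addCommGroupIsoToAddEquiv).toEquiv
    ‹Subsingleton (Abelian.Ext (Coh.structureModule X) H (q + 1))›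

/-- The inductive step, along a coresolution. -/
theorem subsingleton_ext_of_epi (F : X.Modules) (Z I : ℕ → X.Modules) [∀ n, Injective (I n)]
    (f : ∀ n, Z n ⟶ I n) (g : ∀ n, I n ⟶ Z (n + 1)) (w : ∀ n, f n ≫ g n = 0)
    (hS : ∀ n, (ShortComplex.mk (f n) (g n) (w n)).ShortExact) :
    ∀ (i n : ℕ), (∀ l, n ≤ l → l ≤ n + i → Epi ((SheafHomX.hom F).map (g l))) →
      (∀ q, Subsingleton (Abelian.Ext (Coh.structureModule X) ((SheafHomX.hom F).obj (Z n)) (q + 1))) →
      Subsingleton (Abelian.Ext F (Z n) (i + 1)) := by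
  intro i
  induction i with
  | zero =>
    intro n he ha
    haveI := he n le_rfl le_rfl
    have hT : ((ShortComplex.mk (f n) (g n) (w n)).map (SheafHomX.hom F)).ShortExact := by
      have h := ((Functor.preservesFiniteLimits_tfae (SheafHomX.hom F)).out 3 0 rfl rfl).1 inferInstance _ (hS n)
      exact @ShortComplex.ShortExact.mk _ _ _ _ h.1 h.2 (he n le_rfl le_rfl)
    refine subsingleton_of_forall_eq 0 fun x => ?_
    obtain ⟨y, rfl⟩ := Abelian.Ext.covariant_sequence_exact₁ F (hS n) x (Abelian.Ext.eq_zero_of_injective _)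
      (n₀ := 0) rfl
    obtain ⟨v, rfl⟩ := (Abelian.Ext.mk₀_bijective _ _).2 y
    let a := (SheafHomX.ev F (Z (n + 1))).symm v
    obtain ⟨y', hy'⟩ := Abelian.Ext.covariant_sequence_exact₃ (Coh.structureModule X) hT (Abelian.Ext.mk₀ a)
      (n₁ := 1) rfl ((ha 0).elim _ _)
    obtain ⟨b, rfl⟩ := (Abelian.Ext.mk₀_bijective _ _).2 y'
    rw [Abelian.Ext.mk₀_comp_mk₀] at hy'
    have hb : b ≫ (SheafHomX.hom F).map (g n) = a := (Abelian.Ext.mk₀_bijective _ _).1 hy'
    have hv : v = SheafHomX.ev F (I n) b ≫ g n := by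
      rw [← SheafHomX.ev_naturality, hb]
      exact (AddEquiv.apply_symm_apply _ v).symm
    rw [hv, ← Abelian.Ext.mk₀_comp_mk₀, Abelian.Ext.comp_assoc_of_second_deg_zero,
      (hS n).comp_extClass, Abelian.Ext.comp_zero]
  | succ i ih =>
    intro n he ha
    haveI := he n le_rfl (by omega)
    have hT : ((ShortComplex.mk (f n) (g n) (w n)).map (SheafHomX.hom F)).ShortExact := by
      have h := ((Functor.preservesFiniteLimits_tfae (SheafHomX.hom F)).out 3 0 rfl rfl).1 inferInstance _ (hS n)
      exact @ShortComplex.ShortExact.mk _ _ _ _ h.1 h.2 (he n le_rfl (by omega))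
    haveI := ih (n + 1) (fun l h1 h2 => he l (by omega) (by omega)) fun q => subsingleton_of_forall_eq 0 fun x => by
      obtain ⟨y, rfl⟩ := Abelian.Ext.covariant_sequence_exact₃ (Coh.structureModule X) hT x
        (n₁ := q + 2) rfl ((ha (q + 1)).elim _ _)
      rw [show y = 0 from (subsingleton_ext_unit_hom F (I n) q).elim _ _, Abelian.Ext.zero_comp]
    refine subsingleton_of_forall_eq 0 fun x => ?_
    obtain ⟨y, rfl⟩ := Abelian.Ext.covariant_sequence_exact₁ F (hS n) x (Abelian.Ext.eq_zero_of_injective _)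
      (n₀ := i + 1) rfl
    rw [show y = 0 from this.elim _ _, Abelian.Ext.zero_comp]

/-- Vanishing of the local Ext sheaves in degrees below `p` kills Ext below `p`. -/
theorem subsingleton_ext_of_isZero_E (F G : X.Modules) {p : ℕ} (h : ∀ j, j < p → IsZero ((E F j).obj G))
    {i : ℕ} (hi : i < p) : Subsingleton (Abelian.Ext F G i) := by
  have h0 : IsZero ((SheafHomX.hom F).obj G) := (h 0 (by omega)).of_iso ((zeroIso F).app G).symm
  rcases i with _ | i
  · refine subsingleton_of_forall_eq 0 fun x => ?_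
    obtain ⟨v, rfl⟩ := (Abelian.Ext.mk₀_bijective _ _).2 x
    rw [show v = 0 from (SheafHomX.ev F G).symm.injective (h0.eq_of_tgt _ _), Abelian.Ext.mk₀_zero]
  let R := injectiveResolution G
  let d := fun n => R.cocomplex.d n (n + 1)
  let Z : ℕ → X.Modules := fun n => kernel (d n)
  let I : ℕ → X.Modules := fun n => R.cocomplex.X n
  let g : ∀ n, I n ⟶ Z (n + 1) := fun n => kernel.lift (d (n + 1)) (d n) (R.cocomplex.d_comp_d _ _ _)
  have hg : ∀ n, Epi (g n) := fun n => (R.exact_succ n).epi_kernelLift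
  have w : ∀ n, kernel.ι (d n) ≫ g n = 0 := fun n => by
    rw [← cancel_mono (kernel.ι (d (n + 1))), Category.assoc, kernel.lift_ι, kernel.condition, zero_comp]
  have hS : ∀ n, (ShortComplex.mk (kernel.ι (d n)) (g n) (w n)).ShortExact := fun n =>
    { exact := by
        refine ShortComplex.exact_of_f_is_kernel _ (KernelFork.IsLimit.ofι' _ _ fun {W} k hk => ?_)
        have hkd : k ≫ d n = 0 :=
          ((congrArg (k ≫ ·) (kernel.lift_ι (d (n + 1)) (d n) (R.cocomplex.d_comp_d _ _ _))).symm.trans
            (Category.assoc _ _ _).symm).trans ((congrArg (· ≫ kernel.ι (d (n + 1))) hk).trans zero_comp)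
        exact ⟨kernel.lift (d n) k hkd, kernel.lift_ι _ _ _⟩
      mono_f := inferInstanceAs (Mono (kernel.ι (d n)))
      epi_g := hg n }
  have hepi : ∀ l, l + 1 < p → Epi ((SheafHomX.hom F).map (g l)) := fun l hl => by
    let H := SheafHomX.hom F
    let C := (H.mapHomologicalComplex (ComplexShape.up ℕ)).obj R.cocomplex
    have hC : (C.sc' l (l + 1) (l + 2)).Exact :=
      (C.exactAt_iff' l (l + 1) (l + 2) (by simp) (by simp)).1
        ((HomologicalComplex.exactAt_iff_isZero_homology _ _).2
          ((h (l + 1) hl).of_iso (R.isoRightDerivedObj H (l + 1)).symm))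
    haveI := hC.epi_kernelLift
    have e : H.map (g l) ≫ (PreservesKernel.iso H (d (l + 1))).hom =
        kernel.lift (C.sc' l (l + 1) (l + 2)).g (C.sc' l (l + 1) (l + 2)).f (C.sc' l (l + 1) (l + 2)).zero := by
      refine (cancel_mono (kernel.ι (H.map (d (l + 1))))).1 ?_
      refine Eq.trans ?_ (kernel.lift_ι _ _ _).symm
      rw [Category.assoc]
      erw [kernelComparison_comp_ι]
      rw [← Functor.map_comp, kernel.lift_ι]
      rfl
    haveI : Epi (H.map (g l) ≫ (PreservesKernel.iso H (d (l + 1))).hom) := by rw [e]; infer_instance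
    rw [show H.map (g l) = (H.map (g l) ≫ (PreservesKernel.iso H (d (l + 1))).hom) ≫
      (PreservesKernel.iso H (d (l + 1))).inv from by rw [Category.assoc, Iso.hom_inv_id, Category.comp_id]]
    exact epi_comp _ _
  haveI : ∀ n, Injective (I n) := fun n => R.injective n
  let ψ : G ≅ Z 0 := IsLimit.conePointUniqueUpToIso R.isLimitKernelFork (limit.isLimit _)
  haveI := subsingleton_ext_of_epi F Z I (fun n => kernel.ι (d n)) g w hS i 0 (fun l _ h2 => hepi l (by omega))
    fun q => by
      have hz : IsZero ((SheafHomX.hom F).obj (Z 0)) := h0.of_iso ((SheafHomX.hom F).mapIso ψ).symm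
      refine subsingleton_of_forall_eq 0 fun x => ?_
      rw [← x.comp_mk₀_id, hz.eq_of_src (𝟙 _) 0, Abelian.Ext.mk₀_zero, Abelian.Ext.comp_zero]
  exact @Equiv.subsingleton _ _ (((Abelian.extFunctorObj F (i + 1)).mapIso ψ).addCommGroupIsoToAddEquiv).toEquiv
    ‹Subsingleton (Abelian.Ext F (Z 0) (i + 1))›

end Groth.Agent.ExtShX
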