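import Groth.Agent.S11924
import Groth.Agent.S5674
import Groth.Agent.ExtShX.DualX

/-!
# Serre duality for smooth closed subschemes of projective space
-/

set_option autoImplicit false
set_option linter.style.haveILetI false
set_option backward.isDefEq.respectTransparency false
set_option backward.isDefEq.respectTransparency.types false
set_option maxHeartbeats 800000

universe u

open CategoryTheory CategoryTheory.Limits AlgebraicGeometry TopologicalSpace Opposite

noncomputable section

namespace Groth.Agent.ExtShX.SmoothDual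

open Groth.Agent

variable {k : Type u} [Field k]

theorem ringKrullDim_closed {X : Scheme.{u}} (f : X ⟶ Spec (CommRingCat.of k)) (n : ℕ)
    [SmoothOfRelativeDimension n f] {x : X} (hx : IsClosed ({x} : Set X)) :
    ringKrullDim (X.presheaf.stalk x) = n := by
  haveI : Smooth f := SmoothOfRelativeDimension.smooth n f
  haveI : IsLocallyNoetherian X := LocallyOfFiniteType.isLocallyNoetherian f
  obtain ⟨b, hb, hn⟩ := S5674.le_stalk_dim f n x
  rw [(VarDim.closedPoint_iff_deg_eq_zero f x).1 hx, zero_add] at hn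
  have h1 : (b : WithBot ℕ∞) ≤ (n : WithBot ℕ∞) := by
    refine le_trans ?_ (DetPn.dim_le_of_smooth k f n)
    rw [← hb, DimFormula.ringKrullDim_stalk, FibDim.topologicalKrullDim_eq_iSup_codim]
    exact le_iSup (fun y : X => ((DimFormula.codim y : ℕ∞) : WithBot ℕ∞)) x
  rw [hb, show b = n from le_antisymm (by exact_mod_cast h1) hn]

theorem topologicalKrullDim_eq {X : Scheme.{u}} (f : X ⟶ Spec (CommRingCat.of k)) (n : ℕ)
    [SmoothOfRelativeDimension n f] [CompactSpace X] [Nonempty X] : topologicalKrullDim X = n := by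
  haveI : Smooth f := SmoothOfRelativeDimension.smooth n f
  haveI : IsLocallyNoetherian X := LocallyOfFiniteType.isLocallyNoetherian f
  refine le_antisymm (DetPn.dim_le_of_smooth k f n) ?_
  obtain ⟨x, -, hx⟩ := IsClosed.exists_closed_singleton (isClosed_univ (X := X)) Set.univ_nonempty
  rw [← ringKrullDim_closed f n hx, DimFormula.ringKrullDim_stalk, FibDim.topologicalKrullDim_eq_iSup_codim]
  exact le_iSup (fun y : X => ((DimFormula.codim y : ℕ∞) : WithBot ℕ∞)) x

theorem cm_hyp {X : Scheme.{u}} (f : X ⟶ Spec (CommRingCat.of k)) (n : ℕ)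
    [SmoothOfRelativeDimension n f] (x : X) (hx : IsClosed ({x} : Set X)) :
    LocCoh.IsCohenMacaulayLocalRing (X.presheaf.stalk x) ∧ ringKrullDim (X.presheaf.stalk x) = n := by
  haveI : Smooth f := SmoothOfRelativeDimension.smooth n f
  haveI : IsRegularLocalRing (X.presheaf.stalk x) := GrpSchLib.isRegularLocalRing_stalk_of_smooth f x
  haveI := LC.gorenstein_of_isRegularLocalRing (R := X.presheaf.stalk x)
  exact ⟨LC.isCohenMacaulayLocalRing_of_gorenstein (R := X.presheaf.stalk x), ringKrullDim_closed f n hx⟩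

variable {n N : ℕ} {X : Scheme.{u}} [X.Over (Spec (CommRingCat.of k))]
  [SmoothOfRelativeDimension n (X ↘ Spec (CommRingCat.of k))] (ι : X ⟶ PnVan.P k N) [IsClosedImmersion ι]

/-- The top forms of a smooth closed subscheme are coherent and dualizing. -/
theorem exists_dualizing (hι : ι ≫ CohB1.ProjSpace.toSpec N k = X ↘ Spec (CommRingCat.of k)) [Nonempty X]
    {L : X.Modules} (hL : ExtPow.IsExtPow n (Omega.sheaf (X ↘ Spec (CommRingCat.of k))) L) :
    Coh.IsCoh L ∧ ∃ t : Coh.HH X L n →ₗ[k] k, ∀ F : X.Modules, Coh.IsCoh F →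
      Function.Bijective (Canon.dualityMap k X n L t F) := by
  obtain ⟨y⟩ := ‹Nonempty X›
  let ι' : X ⟶ CohB1.ProjSpace N k := ι
  haveI : IsClosedImmersion ι' := ‹IsClosedImmersion ι›
  have hrn : n ≤ N := S11924.le_of_point k N n ι' hι y
  obtain ⟨a⟩ := S11924.nonempty_push_iso k N n ι' hι hL
  have hdim : topologicalKrullDim X + ((N - n : ℕ) : WithBot ℕ∞) ≤ (N : WithBot ℕ∞) := by
    refine (add_le_add (DetPn.dim_le_of_smooth k (X ↘ Spec (CommRingCat.of k)) n) le_rfl).trans ?_
    exact_mod_cast (by omega : n + (N - n) ≤ N)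
  exact exists_dualizing_closed k ι' hι (n := n) (c := N - n) (by omega) hdim a

/-- `Ext^i(F, ω) ≅ H^(n-i)(F)^*`. -/
theorem nonempty_ext_dual (hι : ι ≫ CohB1.ProjSpace.toSpec N k = X ↘ Spec (CommRingCat.of k)) [Nonempty X]
    [HasExt.{u} X.Modules] {L : X.Modules} (hL : ExtPow.IsExtPow n (Omega.sheaf (X ↘ Spec (CommRingCat.of k))) L)
    {F : X.Modules} (hF : Coh.IsCoh F) (i : ℕ) (hi : i ≤ n) :
    Nonempty (Abelian.Ext.{u} F L i ≃ₗ[k] Module.Dual k (Coh.HH X F (n - i))) := by
  haveI := isProper_over ι hι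
  haveI : CompactSpace X := QuasiCompact.compactSpace_of_compactSpace (X ↘ Spec (CommRingCat.of k))
  obtain ⟨hLc, t, ht⟩ := exists_dualizing ι hι hL
  exact (duality_cm ι hι (topologicalKrullDim_eq (X ↘ Spec (CommRingCat.of k)) n)
    (cm_hyp (X ↘ Spec (CommRingCat.of k)) n) hLc t ht hF i).1 hi

/-- `H^p(F)^* ≅ H^(n-p)(ℋom(F, ω))`. -/
theorem nonempty_dual_HH (hι : ι ≫ CohB1.ProjSpace.toSpec N k = X ↘ Spec (CommRingCat.of k)) [Nonempty X]
    {L : X.Modules} (hL : ExtPow.IsExtPow n (Omega.sheaf (X ↘ Spec (CommRingCat.of k))) L)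
    {F : X.Modules} (hF : FlatMod.IsFinLocFree F) (p : ℕ) (hp : p ≤ n) :
    Nonempty (Module.Dual k (Coh.HH X F p) ≃ₗ[k] Coh.HH X ((SheafHomX.hom F).obj L) (n - p)) := by
  haveI : EnoughInjectives X.Modules := inferInstanceAs (EnoughInjectives (SheafOfModules _))
  haveI : HasExt.{u} X.Modules := inferInstance
  haveI : IsLocallyNoetherian X := LocallyOfFiniteType.isLocallyNoetherian ι
  obtain ⟨e⟩ := nonempty_ext_dual ι hι hL (QCoh.isCoh_iff_isFP.2 (QCoh.isFP_of_isFinLocFree hF)) (n - p)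
    (Nat.sub_le n p)
  rw [Nat.sub_sub_self hp] at e
  obtain ⟨g⟩ := PnDual.nonempty_ext_linearEquiv_HH (A := k) hF L (n - p)
  exact ⟨e.symm.trans g⟩

end Groth.Agent.ExtShX.SmoothDual
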