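import Groth.Agent.ExtShX.Local
import Groth.Prelude.Def_ExtSupp

/-!
# Local Ext sheaves from a resolution by locally free modules
-/

set_option linter.style.haveILetI false
set_option linter.unusedSectionVars false
set_option backward.isDefEq.respectTransparency false
set_option backward.isDefEq.respectTransparency.types false
set_option maxHeartbeats 1000000

universe u

open CategoryTheory CategoryTheory.Limits AlgebraicGeometry TopologicalSpace Opposite

noncomputable section

namespace Groth.Agent.ExtShX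

variable {X : Scheme.{u}}

/-- The comparison of internal homs is natural in the first variable. -/
theorem sheafHomIso_naturality {M M' : X.Modules} [ModSite.HasSheafHom (O := X.sheaf) M]
    [ModSite.HasSheafHom (O := X.sheaf) M'] (g : M' ⟶ M) (G : X.Modules) :
    (ExtSupp.sheafHomMap (O := X.sheaf) g).app G ≫ (sheafHomIso M').hom.app G =
      (sheafHomIso M).hom.app G ≫ (SheafHomX.homMap g).app G := by
  have h : (ExtSupp.sheafHomMap (O := X.sheaf) g : shom M ⟶ shom M') ≫ (sheafHomIso M').hom =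
      (sheafHomIso M).hom ≫ SheafHomX.homMap g := by
    show (conjugateEquiv (L₁ := SheafHomX.ten M) (L₂ := SheafHomX.ten M') (R₁ := shom M) (R₂ := shom M')
        (ModSite.sheafHomAdj (O := X.sheaf) M) (ModSite.sheafHomAdj (O := X.sheaf) M')
        ((DCoh.tensorBi (X := X)).flip.map g)) ≫
      conjugateEquiv (L₁ := SheafHomX.ten M') (L₂ := SheafHomX.ten M') (R₁ := shom M')
        (ModSite.sheafHomAdj (O := X.sheaf) M') (SheafHomX.adj M') (𝟙 _) =
      conjugateEquiv (L₁ := SheafHomX.ten M) (L₂ := SheafHomX.ten M) (R₁ := shom M)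
        (ModSite.sheafHomAdj (O := X.sheaf) M) (SheafHomX.adj M) (𝟙 _) ≫
        conjugateEquiv (SheafHomX.adj M) (SheafHomX.adj M') ((DCoh.tensorBi (X := X)).flip.map g)
    rw [conjugateEquiv_comp, conjugateEquiv_comp, Category.id_comp, Category.comp_id]
  exact congrArg (fun t => NatTrans.app t G) h

variable (E' : ChainComplex X.Modules ℕ)

/-- The syzygies. -/
def syz (j : ℕ) : X.Modules := cokernel (E'.d (j + 1) j)

/-- The projection to a syzygy. -/
def syzP (j : ℕ) : E'.X j ⟶ syz E' j := cokernel.π (E'.d (j + 1) j)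

instance (j : ℕ) : Epi (syzP E' j) := by unfold syzP; infer_instance

/-- The inclusion of the next syzygy. -/
def syzI (j : ℕ) : syz E' (j + 1) ⟶ E'.X j := cokernel.desc (E'.d (j + 2) (j + 1)) (E'.d (j + 1) j) (E'.d_comp_d _ _ _)

theorem syzP_syzI (j : ℕ) : syzP E' (j + 1) ≫ syzI E' j = E'.d (j + 1) j := cokernel.π_desc _ _ _

theorem syzI_syzP (j : ℕ) : syzI E' j ≫ syzP E' j = 0 := by
  rw [← cancel_epi (syzP E' (j + 1)), ← Category.assoc, syzP_syzI, comp_zero]
  exact cokernel.condition _

theorem syz_shortExact (hex : ∀ j : ℕ, E'.ExactAt (j + 1)) (j : ℕ) :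
    (ShortComplex.mk (syzI E' j) (syzP E' j) (syzI_syzP E' j)).ShortExact := by
  haveI hmono : Mono (syzI E' j) :=
    ((E'.exactAt_iff' (j + 2) (j + 1) j (by simp) (by simp)).1 (hex j)).mono_cokernelDesc
  have h0 : (ShortComplex.mk (E'.d (j + 1) j) (syzP E' j) (cokernel.condition _)).Exact :=
    ShortComplex.exact_of_g_is_cokernel _ (cokernelIsCokernel _)
  let φ : ShortComplex.mk (E'.d (j + 1) j) (syzP E' j) (cokernel.condition _) ⟶
      ShortComplex.mk (syzI E' j) (syzP E' j) (syzI_syzP E' j) :=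
    { τ₁ := syzP E' (j + 1), τ₂ := 𝟙 _, τ₃ := 𝟙 _
      comm₁₂ := (syzP_syzI E' j).trans (Category.comp_id _).symm
      comm₂₃ := by simp }
  haveI : Epi φ.τ₁ := inferInstanceAs (Epi (syzP E' (j + 1)))
  haveI : IsIso φ.τ₂ := inferInstanceAs (IsIso (𝟙 _))
  haveI : Mono φ.τ₃ := inferInstanceAs (Mono (𝟙 _))
  exact { exact := (ShortComplex.exact_iff_of_epi_of_isIso_of_mono φ).1 h0
          mono_f := hmono
          epi_g := inferInstanceAs (Epi (syzP E' j)) }

/-- Iterated dimension shifting. -/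
theorem syz_shift (hex : ∀ j : ℕ, E'.ExactAt (j + 1)) (hE : ∀ j, FlatMod.IsFinLocFree (E'.X j)) (G : X.Modules) :
    ∀ (i j l : ℕ), j + i = l → Nonempty ((E (syz E' j) (i + 1)).obj G ≅ (E (syz E' l) 1).obj G) := by
  intro i
  induction i with
  | zero =>
    intro j l h
    subst h
    exact ⟨Iso.refl _⟩
  | succ i ih =>
    intro j l h
    obtain ⟨e⟩ := shift (syz_shortExact E' hex j) G (i + 1) (isZero_of_isFinLocFree (hE j) G i)
      (isZero_of_isFinLocFree (hE j) G (i + 1))
    obtain ⟨e'⟩ := ih (j + 1) l (by omega)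
    exact ⟨e.symm ≪≫ e'⟩

variable (C : CochainComplex X.Modules ℕ) {G : X.Modules} (e : ∀ j : ℕ, C.X j ≅ (SheafHomX.hom (E'.X j)).obj G)
  (hC : ∀ j : ℕ, C.d j (j + 1) ≫ (e (j + 1)).hom = (e j).hom ≫ (SheafHomX.homMap (E'.d (j + 1) j)).app G)

include hC in
theorem d_eq (j : ℕ) :
    C.d j (j + 1) = (e j).hom ≫ (SheafHomX.homMap (E'.d (j + 1) j)).app G ≫ (e (j + 1)).inv := by
  rw [← Category.assoc, ← hC, Category.assoc, Iso.hom_inv_id, Category.comp_id]

/-- The kernel of the differential is the hom out of the syzygy. -/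
def syzCycles (j : ℕ) : (SheafHomX.hom (syz E' j)).obj G ⟶ C.X j :=
  (SheafHomX.homMap (syzP E' j)).app G ≫ (e j).inv

include hC in
theorem syzCycles_d (j : ℕ) : syzCycles E' C e j ≫ C.d j (j + 1) = 0 := by
  rw [d_eq E' C e hC j, syzCycles, Category.assoc, Iso.inv_hom_id_assoc, ← Category.assoc,
    ← SheafHomX.homMap_comp, show E'.d (j + 1) j ≫ syzP E' j = 0 from cokernel.condition _,
    SheafHomX.homMap_zero, zero_comp]

include hC in
/-- It is the kernel. -/
theorem syzCycles_isKernel (j : ℕ) :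
    Nonempty (IsLimit (KernelFork.ofι (syzCycles E' C e j) (syzCycles_d E' C e hC j))) := by
  have hex : (ShortComplex.mk (E'.d (j + 1) j) (syzP E' j) (cokernel.condition _)).Exact :=
    ShortComplex.exact_of_g_is_cokernel _ (cokernelIsCokernel _)
  haveI : Epi (ShortComplex.mk (E'.d (j + 1) j) (syzP E' j) (cokernel.condition _)).g :=
    inferInstanceAs (Epi (syzP E' j))
  have h := exact_homMap hex G
  haveI := mono_homMap (syzP E' j) G
  haveI : Mono (ShortComplex.mk _ _ (homMap_zero_comp
    (ShortComplex.mk (E'.d (j + 1) j) (syzP E' j) (cokernel.condition _)) G)).f := mono_homMap (syzP E' j) G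
  haveI : Mono (syzCycles E' C e j) := mono_comp _ _
  refine ⟨KernelFork.IsLimit.ofι' _ _ fun {Z} a ha => ?_⟩
  have ha' : (a ≫ (e j).hom) ≫ (SheafHomX.homMap (E'.d (j + 1) j)).app G = 0 := by
    rw [Category.assoc, ← hC, ← Category.assoc, ha, zero_comp]
  exact ⟨h.lift (a ≫ (e j).hom) ha', by
    show h.lift _ _ ≫ (SheafHomX.homMap (syzP E' j)).app G ≫ (e j).inv = a
    rw [← Category.assoc, show h.lift (a ≫ (e j).hom) ha' ≫ (SheafHomX.homMap (syzP E' j)).app G = a ≫ (e j).hom
      from h.lift_f _ _, Category.assoc, Iso.hom_inv_id, Category.comp_id]⟩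

include hC in
/-- Homology in positive degrees. -/
theorem homology_succ (hex : ∀ j : ℕ, E'.ExactAt (j + 1)) (hE : ∀ j, FlatMod.IsFinLocFree (E'.X j)) (i : ℕ) :
    Nonempty (C.homology (i + 1) ≅ (E (syz E' 0) (i + 1)).obj G) := by
  obtain ⟨hk⟩ := syzCycles_isKernel E' C e hC (i + 1)
  let f' : C.X i ⟶ (SheafHomX.hom (syz E' (i + 1))).obj G := (e i).hom ≫ (SheafHomX.homMap (syzI E' i)).app G
  let T := C.sc' i (i + 1) (i + 2)
  haveI : Mono (syzCycles E' C e (i + 1)) := mono_of_isLimit_fork hk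
  have hf' : f' ≫ syzCycles E' C e (i + 1) = C.d i (i + 1) := by
    rw [d_eq E' C e hC i, syzCycles]
    simp only [f', Category.assoc]
    rw [← reassoc_of% (SheafHomX.homMap_comp (syzP E' (i + 1)) (syzI E' i) G), syzP_syzI]
  let hd : T.LeftHomologyData :=
    { K := (SheafHomX.hom (syz E' (i + 1))).obj G
      H := cokernel f'
      i := syzCycles E' C e (i + 1)
      π := cokernel.π f'
      wi := syzCycles_d E' C e hC (i + 1)
      hi := hk
      wπ := by
        rw [show hk.lift (KernelFork.ofι T.f T.zero) = f' from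
          (cancel_mono (syzCycles E' C e (i + 1))).1 ((Fork.IsLimit.lift_ι hk).trans hf'.symm)]
        exact cokernel.condition _
      hπ := IsColimit.ofIsoColimit (cokernelIsCokernel f') (Cofork.ext (Iso.refl _)) |> fun h => by
        have he : hk.lift (KernelFork.ofι T.f T.zero) = f' :=
          (cancel_mono (syzCycles E' C e (i + 1))).1 ((Fork.IsLimit.lift_ι hk).trans hf'.symm)
        exact CokernelCofork.IsColimit.ofπ _ _ (fun g hg => cokernel.desc f' g (by rw [← he]; exact hg))
          (fun g hg => cokernel.π_desc _ _ _) fun g hg m hm => by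
            rw [← cancel_epi (cokernel.π f')]
            simpa using hm }
  obtain ⟨c⟩ := coker_iso (syz_shortExact E' hex i) G (isZero_of_isFinLocFree (hE i) G 0)
  obtain ⟨s⟩ := syz_shift E' hex hE G i 0 i (zero_add i)
  exact ⟨C.homologyIsoSc' i (i + 1) (i + 2) (by simp) (by simp) ≪≫ hd.homologyIso ≪≫
    cokernelEpiComp (e i).hom ((SheafHomX.homMap (syzI E' i)).app G) ≪≫ c ≪≫ s.symm⟩

include hC in
/-- Homology in degree zero. -/
theorem homology_zero : Nonempty (C.homology 0 ≅ (E (syz E' 0) 0).obj G) := by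
  obtain ⟨hk⟩ := syzCycles_isKernel E' C e hC 0
  exact ⟨(CochainComplex.isoHomologyπ₀ C).symm ≪≫
    IsLimit.conePointUniqueUpToIso (C.cyclesIsKernel 0 1 (by simp)) hk ≪≫ ((zeroIso (syz E' 0)).app G).symm⟩

end Groth.Agent.ExtShX
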