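import Groth.Agent.ExtShX.Basic
import Mathlib.Algebra.Homology.HomologySequence
import Mathlib.Algebra.Homology.HomologicalComplexAbelian

/-!
# The long exact sequence of local Ext sheaves in the first variable
-/

set_option linter.style.haveILetI false
set_option linter.unusedSectionVars false
set_option backward.isDefEq.respectTransparency false
set_option backward.isDefEq.respectTransparency.types false
set_option maxHeartbeats 1000000

universe u

open CategoryTheory CategoryTheory.Limits AlgebraicGeometry TopologicalSpace Opposite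

noncomputable section

attribute [local instance] CategoryTheory.Abelian.hasFiniteBiproducts

namespace Groth.Agent.ExtShX

variable {X : Scheme.{u}} {S : ShortComplex X.Modules}

theorem homMap_zero_comp (S : ShortComplex X.Modules) (N : X.Modules) :
    (SheafHomX.homMap S.g).app N ≫ (SheafHomX.homMap S.f).app N = 0 := by
  rw [← SheafHomX.homMap_comp, S.zero, SheafHomX.homMap_zero]

theorem mono_homMap {M M' : X.Modules} (g : M ⟶ M') [Epi g] (N : X.Modules) :
    Mono ((SheafHomX.homMap g).app N) := by
  refine Preadditive.mono_of_cancel_zero _ fun {Z} a ha => ?_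
  haveI : PreservesColimitsOfSize.{u, u} ((DCoh.tensorBi (X := X)).obj Z) :=
    ⟨fun {K} _ => preservesColimitsOfShape_of_natIso ((KFlatLib.tensorBiFlipIso X).app Z)⟩
  haveI : PreservesFiniteColimits ((DCoh.tensorBi (X := X)).obj Z) :=
    PreservesColimitsOfSize.preservesFiniteColimits _
  haveI := ((DCoh.tensorBi (X := X)).obj Z).map_epi g
  have h1 : ((SheafHomX.adj M).homEquiv Z N).symm (a ≫ (SheafHomX.homMap g).app N) = 0 := by
    rw [ha, Adjunction.homEquiv_counit, Functor.map_zero, zero_comp]
  rw [SheafHomX.homEquiv_homMap] at h1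
  refine SheafHomX.hom_ext ?_
  rw [Adjunction.homEquiv_counit, Adjunction.homEquiv_counit, Functor.map_zero, zero_comp,
    ← Adjunction.homEquiv_counit]
  exact (cancel_epi (((DCoh.tensorBi (X := X)).obj Z).map g)).1 (h1.trans comp_zero.symm)

/-- `Hom(-, N)` is left exact. -/
theorem exact_homMap (hS : S.Exact) [Epi S.g] (N : X.Modules) :
    (ShortComplex.mk _ _ (homMap_zero_comp S N)).Exact := by
  haveI := mono_homMap S.g N
  refine ShortComplex.exact_of_f_is_kernel _ (KernelFork.IsLimit.ofι' _ _ fun {Z} a ha => ?_)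
  haveI : PreservesColimitsOfSize.{u, u} ((DCoh.tensorBi (X := X)).obj Z) :=
    ⟨fun {K} _ => preservesColimitsOfShape_of_natIso ((KFlatLib.tensorBiFlipIso X).app Z)⟩
  haveI : PreservesFiniteColimits ((DCoh.tensorBi (X := X)).obj Z) :=
    PreservesColimitsOfSize.preservesFiniteColimits _
  have hT : (S.map ((DCoh.tensorBi (X := X)).obj Z)).Exact :=
    hS.map_of_epi_of_preservesCokernel _ inferInstance inferInstance
  haveI : Epi (S.map ((DCoh.tensorBi (X := X)).obj Z)).g := ((DCoh.tensorBi (X := X)).obj Z).map_epi S.g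
  have hb : (S.map ((DCoh.tensorBi (X := X)).obj Z)).f ≫ ((SheafHomX.adj S.X₂).homEquiv Z N).symm a = 0 := by
    have h := SheafHomX.homEquiv_homMap S.f a
    rw [show a ≫ (SheafHomX.homMap S.f).app N = 0 from ha, Adjunction.homEquiv_counit, Functor.map_zero,
      zero_comp] at h
    exact h.symm
  refine ⟨(SheafHomX.adj S.X₃).homEquiv Z N (hT.desc _ hb), SheafHomX.hom_ext ?_⟩
  rw [SheafHomX.homEquiv_homMap, Equiv.symm_apply_apply]
  exact hT.g_desc _ hb

/-- `Hom(F, I)` for the chosen resolution of `G`. -/
abbrev cx (F G : X.Modules) : CochainComplex X.Modules ℕ :=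
  ((SheafHomX.hom F).mapHomologicalComplex (ComplexShape.up ℕ)).obj (injectiveResolution G).cocomplex

/-- Functoriality in the first variable. -/
abbrev cxMap {F F' : X.Modules} (g : F ⟶ F') (G : X.Modules) : cx F' G ⟶ cx F G :=
  (NatTrans.mapHomologicalComplex (SheafHomX.homMap g) _).app (injectiveResolution G).cocomplex

variable (S) in
/-- The sequence of complexes. -/
def cxSeq (G : X.Modules) : ShortComplex (CochainComplex X.Modules ℕ) :=
  ShortComplex.mk (cxMap S.g G) (cxMap S.f G) (HomologicalComplex.Hom.ext (funext fun n => by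
    simpa using homMap_zero_comp S ((injectiveResolution G).cocomplex.X n)))

theorem shortExact_cxSeq (hS : S.ShortExact) (G : X.Modules) : (cxSeq S G).ShortExact := by
  refine HomologicalComplex.shortExact_of_degreewise_shortExact _ fun n => ?_
  haveI := hS.epi_g
  haveI := hS.mono_f
  exact { exact := exact_homMap hS.exact ((injectiveResolution G).cocomplex.X n)
          mono_f := mono_homMap S.g _
          epi_g := epi_homMap_injective S.f _ }

/-- Dimension shifting. -/
theorem shift (hS : S.ShortExact) (G : X.Modules) (i : ℕ) (h1 : IsZero ((E S.X₂ i).obj G))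
    (h2 : IsZero ((E S.X₂ (i + 1)).obj G)) : Nonempty ((E S.X₁ i).obj G ≅ (E S.X₃ (i + 1)).obj G) := by
  let I := injectiveResolution G
  exact ⟨I.isoRightDerivedObj _ i ≪≫ (shortExact_cxSeq hS G).δIso i (i + 1) rfl
    (h1.of_iso (I.isoRightDerivedObj (SheafHomX.hom S.X₂) i).symm)
    (h2.of_iso (I.isoRightDerivedObj (SheafHomX.hom S.X₂) (i + 1)).symm) ≪≫
      (I.isoRightDerivedObj _ (i + 1)).symm⟩

/-- `Hom(F, G)` is the degree zero homology. -/
def z (F G : X.Modules) : (SheafHomX.hom F).obj G ≅ (cx F G).homology 0 :=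
  asIso ((injectiveResolution G).toRightDerivedZero' (SheafHomX.hom F)) ≪≫ CochainComplex.isoHomologyπ₀ _

theorem z_naturality {F F' : X.Modules} (g : F ⟶ F') (G : X.Modules) :
    (SheafHomX.homMap g).app G ≫ (z F G).hom = (z F' G).hom ≫ HomologicalComplex.homologyMap (cxMap g G) 0 := by
  have h : (SheafHomX.homMap g).app G ≫ (injectiveResolution G).toRightDerivedZero' (SheafHomX.hom F) =
      (injectiveResolution G).toRightDerivedZero' (SheafHomX.hom F') ≫
        HomologicalComplex.cyclesMap (cxMap g G) 0 := by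
    simp only [← cancel_mono (HomologicalComplex.iCycles _ _), Category.assoc,
      InjectiveResolution.toRightDerivedZero'_comp_iCycles, HomologicalComplex.cyclesMap_i,
      InjectiveResolution.toRightDerivedZero'_comp_iCycles_assoc]
    exact ((SheafHomX.homMap g).naturality ((injectiveResolution G).ι.f 0)).symm
  simp only [z, Iso.trans_hom, asIso_hom, Category.assoc]
  rw [reassoc_of% h]
  simp

/-- `Ext¹` is a cokernel. -/
theorem coker_iso (hS : S.ShortExact) (G : X.Modules) (h1 : IsZero ((E S.X₂ 1).obj G)) :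
    Nonempty (cokernel ((SheafHomX.homMap S.f).app G) ≅ (E S.X₃ 1).obj G) := by
  let I := injectiveResolution G
  let T := cxSeq S G
  have hT := shortExact_cxSeq hS G
  haveI : Epi (hT.δ 0 1 rfl) := hT.epi_δ 0 1 rfl (h1.of_iso (I.isoRightDerivedObj (SheafHomX.hom S.X₂) 1).symm)
  let c := IsColimit.coconePointUniqueUpToIso (colimit.isColimit _) (hT.homology_exact₃ 0 1 rfl).gIsCokernel
  exact ⟨cokernel.mapIso _ _ (z S.X₂ G) (z S.X₁ G) (z_naturality S.f G) ≪≫ c ≪≫ (I.isoRightDerivedObj _ 1).symm⟩

end Groth.Agent.ExtShX
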