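import Groth.Agent.ExtShX.KoszulConormal
import Groth.Agent.RegImmLib.SmoothClosed
import Groth.Agent.ExtPowSh.Filt
import Groth.Agent.ExtPowSh.Loc
import Groth.Agent.ExtPowSh.Iso
import Groth.Agent.GrpOmega.Section
import Groth.Agent.Synt29.ConormalSeq
import Groth.Agent.S9370
import Groth.Agent.S5020
import Groth.Agent.S1488
import Groth.Agent.Lib.TopDiff
import Groth.Agent.H23.Frame
import Groth.Agent.KRRReg.LamPull
import Groth.Agent.KZ.CycleTensor

/-!
# The adjunction formula for smooth schemes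
-/

set_option linter.style.haveILetI false
set_option linter.unusedSectionVars false
set_option backward.isDefEq.respectTransparency false
set_option backward.isDefEq.respectTransparency.types false
set_option maxHeartbeats 1000000

universe u

open CategoryTheory CategoryTheory.Limits AlgebraicGeometry TopologicalSpace Opposite
open scoped TensorProduct

noncomputable section

attribute [local instance] CategoryTheory.Abelian.hasFiniteBiproducts

namespace Groth.Agent.ExtShX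

open ExtPowSh

section Algebra

variable {R A B C : Type u} [CommRing R] [AddCommGroup A] [Module R A] [AddCommGroup B] [Module R B]
  [AddCommGroup C] [Module R C]

theorem exteriorPower_eq_zero_of_lt {c i : ℕ} (l : A ≃ₗ[R] (ULift.{u} (Fin c) →₀ R)) (hi : c < i)
    (x : ↥(⋀[R]^i A)) : x = 0 := by
  rcases subsingleton_or_nontrivial R with hR | hR
  · haveI := Module.subsingleton R ↥(⋀[R]^i A)
    exact Subsingleton.elim _ _
  haveI : Module.Free R A := Module.Free.of_equiv l.symm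
  haveI : Module.Finite R A := Module.Finite.equiv l.symm
  have h : Module.finrank R ↥(⋀[R]^i A) = 0 := by
    rw [exteriorPower.finrank_eq, l.finrank_eq]
    simp [Nat.choose_eq_zero_of_lt hi]
  haveI : Module.Free R ↥(⋀[R]^i A) := inferInstance
  haveI : Module.Finite R ↥(⋀[R]^i A) := inferInstance
  haveI := (Module.finrank_eq_zero_iff_of_free (R := R) (M := ↥(⋀[R]^i A))).1 h
  exact Subsingleton.elim _ _

variable (a : A →ₗ[R] B) (b : B →ₗ[R] C) (s : C →ₗ[R] B)

theorem filt_succ_eq_bot {c : ℕ} (l : A ≃ₗ[R] (ULift.{u} (Fin c) →₀ R)) (q : ℕ) : filt a (c + 1) q = ⊥ := by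
  rw [filt, mem_deg1_pow, show (⋀[R]^(c + 1) A : Submodule R (ExteriorAlgebra R A)) = ⊥ from
    (Submodule.eq_bot_iff _).2 fun x hx =>
      congrArg Subtype.val (exteriorPower_eq_zero_of_lt l (Nat.lt_succ_self c) ⟨x, hx⟩), Submodule.map_bot,
    Submodule.bot_mul]

theorem mem_filt_top {c r : ℕ} (lA : A ≃ₗ[R] (ULift.{u} (Fin c) →₀ R)) (lC : C ≃ₗ[R] (ULift.{u} (Fin r) →₀ R))
    (hs : ∀ x : B, ∃ y : A, x - s (b x) = a y) (w : ↥(⋀[R]^(c + r) B)) :
    (w : ExteriorAlgebra R B) ∈ filt a c r := by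
  obtain ⟨f, rfl⟩ := gradedSum_surjective a b s hs (c + r) w
  rw [gradedSum, LinearMap.sum_apply, Submodule.coe_sum]
  refine Submodule.sum_mem _ fun ij _ => ?_
  obtain ⟨⟨i, j⟩, hij⟩ := ij
  have hsum : i + j = c + r := by simpa using hij
  show (gradedMap a s hsum (f ⟨(i, j), hij⟩) : ExteriorAlgebra R B) ∈ _
  rcases lt_trichotomy i c with h | h | h
  · rw [show f ⟨(i, j), hij⟩ = 0 from by
      induction f ⟨(i, j), hij⟩ using TensorProduct.induction_on with
      | zero => rfl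
      | tmul x y => rw [exteriorPower_eq_zero_of_lt lC (show r < j by omega) y, TensorProduct.tmul_zero]
      | add x y hx hy => rw [hx, hy, add_zero], map_zero]
    exact zero_mem _
  · obtain rfl : j = r := by omega
    subst h
    exact (range_mu a hsum).le ⟨_, ⟨_, rfl⟩, rfl⟩
  · rw [show f ⟨(i, j), hij⟩ = 0 from by
      induction f ⟨(i, j), hij⟩ using TensorProduct.induction_on with
      | zero => rfl
      | tmul x y => rw [exteriorPower_eq_zero_of_lt lA h x, TensorProduct.zero_tmul]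
      | add x y hx hy => rw [hx, hy, add_zero], map_zero]
    exact zero_mem _

end Algebra

section Det

variable {X : Scheme.{u}}

/-- Small opens with constant ranks. -/
theorem exists_small_ranks {S : ShortComplex X.Modules} {c r : ℕ} (h₁ : FlatMod.IsFinLocFreeOfRank c S.X₁)
    (h₃ : FlatMod.IsFinLocFreeOfRank r S.X₃) :
    Opens.IsBasis {V : X.Opens | Small S V ∧
      Nonempty (S.X₁.val.obj (op V) ≃ₗ[Γ(X, V)] (ULift.{u} (Fin c) →₀ Γ(X, V))) ∧
      Nonempty (S.X₃.val.obj (op V) ≃ₗ[Γ(X, V)] (ULift.{u} (Fin r) →₀ Γ(X, V)))} := by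
  refine Opens.isBasis_iff_nbhd.2 fun {W x} hx => ?_
  obtain ⟨U₁, hx₁, ⟨e₁⟩⟩ := h₁ x
  obtain ⟨U₃, hx₃, ⟨e₃⟩⟩ := h₃ x
  obtain ⟨V, hV, hxV, hle⟩ := exists_isAffineOpen_mem_and_subset (U := W ⊓ U₁ ⊓ U₃) (x := x) ⟨⟨hx, hx₁⟩, hx₃⟩
  have a₁ := free_sections_vb hV (fun y hy => (hle hy).1.2) e₁
  have a₃ := free_sections_vb hV (fun y hy => (hle hy).2) e₃
  obtain ⟨l₁⟩ := QCoh.free_sections hV (fun y hy => (hle hy).1.2) e₁
  obtain ⟨l₃⟩ := QCoh.free_sections hV (fun y hy => (hle hy).2) e₃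
  refine ⟨V, ⟨⟨hV, a₁.1, a₁.2, a₃.1, a₃.2⟩, ⟨?_⟩, ⟨?_⟩⟩, hxV, fun y hy => (hle hy).1.1⟩
  · exact { toFun := l₁, map_add' := map_add l₁, map_smul' := fun r s => l₁.map_smul r s
            invFun := l₁.symm, left_inv := l₁.symm_apply_apply, right_inv := l₁.apply_symm_apply }
  · exact { toFun := l₃, map_add' := map_add l₃, map_smul' := fun r s => l₃.map_smul r s
            invFun := l₃.symm, left_inv := l₃.symm_apply_apply, right_inv := l₃.apply_symm_apply }

/-- The determinant of an extension. -/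
theorem nonempty_det_iso {S : ShortComplex X.Modules} (hS : S.ShortExact) {c r : ℕ}
    (h₁' : FlatMod.IsFinLocFreeOfRank c S.X₁) (h₃' : FlatMod.IsFinLocFreeOfRank r S.X₃) :
    Nonempty (tens (L S.X₁ c) (L S.X₃ r) ≅ L S.X₂ (c + r)) := by
  have hb' := exists_small_ranks h₁' h₃'
  have f₁ := KZ.CycleClass.isFinLocFree_of_rank h₁'
  have f₃ := KZ.CycleClass.isFinLocFree_of_rank h₃'
  have h₁ := QCoh.isQCoh_of_isFinLocFree f₁
  have h₃ := QCoh.isQCoh_of_isFinLocFree f₃
  have hb := isBasis_small S f₁ f₃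
  have h₂ := QCoh.isQCoh_of_isFinLocFree (isFinLocFree_X₂ hS h₁ f₁ f₃)
  obtain ⟨K, hK, ν, hν, hν0⟩ : ∃ (K : X.Modules) (_ : Coh.IsQCoh K) (ν : K ⟶ L S.X₂ (c + r)),
      (∀ V, Small S V → ∀ w, (∃ k, appL ν V k = toL S.X₂ (c + r) V w) ↔
        (w : ExteriorAlgebra Γ(X, V) (S.X₂.val.obj (op V))) ∈ filtNext (appL S.f V) c r) ∧ ν = 0 := by
    cases r with
    | zero =>
      refine ⟨L S.X₂ c, isQCoh S.X₂ c h₂, 0, fun V hV w => ?_, rfl⟩
      refine ⟨fun ⟨k, hk⟩ => ?_, fun hw => ?_⟩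
      · have : w = 0 := (toL_bijective S.X₂ c h₂ hV.affine).1 (hk.symm.trans (map_zero (toL S.X₂ c V)).symm)
        rw [this]
        exact zero_mem _
      · have : w = 0 := Subtype.ext ((Submodule.mem_bot _).1 hw)
        exact ⟨0, by rw [this, map_zero, map_zero]⟩
    | succ q =>
      have h : c + 1 + q = c + (q + 1) := by omega
      refine ⟨_, isQCoh_tens h₁ h₂ (c + 1) q, muHom h₁ h₂ h,
        fun V hV w => exists_muHom_eq_iff h₁ h₂ h hV.affine w, hom_eq_zero_of_isBasis _ hb' fun V hV k => ?_⟩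
      obtain ⟨hV, ⟨l⟩, -⟩ := hV
      obtain ⟨w, hw⟩ := (toL_bijective S.X₂ _ h₂ hV.affine).2 (appL (muHom h₁ h₂ h) V k)
      have hw0 := (exists_muHom_eq_iff h₁ h₂ h hV.affine w).1 ⟨k, hw.symm⟩
      rw [filt_succ_eq_bot _ l, Submodule.mem_bot] at hw0
      show appL (muHom h₁ h₂ h) V k = 0
      rw [← hw, show w = 0 from Subtype.ext hw0, map_zero]
  subst hν0
  obtain ⟨f, g, w, hse⟩ := exists_step hS h₁ h₂ h₃ (rfl : c + r = c + r) hb hK
    (0 : K ⟶ L S.X₂ (c + r)) hν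
  haveI : Epi (muHom (S := S) h₁ h₂ (rfl : c + r = c + r)) := RelTildeX.epi_of_locally _ fun U t x hx => by
    obtain ⟨V, ⟨hV, ⟨l₁⟩, ⟨l₃⟩⟩, hxV, hle⟩ := Opens.isBasis_iff_nbhd.1 hb' hx
    obtain ⟨w, hw⟩ := (toL_bijective S.X₂ _ h₂ hV.affine).2 ((L S.X₂ (c + r)).presheaf.map (homOfLE hle).op t)
    obtain ⟨s, -, hs⟩ := exists_section hS h₁ hV
    obtain ⟨k, hk⟩ := (exists_muHom_eq_iff h₁ h₂ rfl hV.affine w).2 (mem_filt_top _ _ s l₁ l₃ hs w)
    exact ⟨V, hle, hxV, k, hk.trans hw⟩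
  haveI := hse.mono_f
  haveI : Epi f := hse.exact.epi_f ((isZero_cokernel_of_epi _).eq_of_tgt _ _)
  haveI : IsIso f := isIso_of_mono_of_epi f
  exact ⟨asIso f ≪≫ cokernelZeroIsoTarget⟩

end Det

section Smooth

variable {X Y S : Scheme.{u}}

/-- The conormal sequence of a closed immersion between smooth schemes. -/
theorem exists_conormal_shortExact (f : X ⟶ S) (i : Y ⟶ X) [IsClosedImmersion i] [Smooth f] [Smooth (i ≫ f)]
    [QuasiSeparated f] [QuasiSeparated (i ≫ f)] :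
    ∃ (φ : Omega.conormal i ⟶ (Scheme.Modules.pullback i).obj (Omega.sheaf f))
      (c : (Scheme.Modules.pullback i).obj (Omega.sheaf f) ⟶ Omega.sheaf (i ≫ f)) (w : φ ≫ c = 0),
      (ShortComplex.mk φ c w).ShortExact := by
  obtain ⟨φ, hφ⟩ := GrpOmega.exists_conormalDiff f i _ (OmegaSh.dOmega f)
  obtain ⟨c, hc, -⟩ := S9370.result f (i ≫ f) i (𝟙 S) (Category.comp_id _) _ (OmegaSh.dOmega f)
    (OmegaUniv.isUniversal_dOmega f) _ (OmegaSh.dOmega (i ≫ f)) (OmegaUniv.isUniversal_dOmega (i ≫ f))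
  have hu := OmegaUniv.isUniversal_dOmega f
  have hv := OmegaUniv.isUniversal_dOmega (i ≫ f)
  haveI : Mono φ := S5020.result i f ((S1488.result (i ≫ f)).1 inferInstance).2 _ _ hu φ hφ
  haveI : Epi c := Synt29.ConormalSeq.epi_diffCompat f i _ _ hu _ _ hv c hc
  have w := Synt29.ConormalSeq.comp_eq_zero f i _ _ _ _ φ hφ c hc
  exact ⟨φ, c, w, { exact := Synt29.ConormalSeq.exact_conormal_diffCompat f i _ _ hu _ _ hv φ hφ c hc w
                    mono_f := inferInstance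
                    epi_g := inferInstance }⟩

theorem finrank_eq_add {R : Type u} [CommRing R] [Nontrivial R] {A B C : Type u} [AddCommGroup A] [Module R A]
    [AddCommGroup B] [Module R B] [AddCommGroup C] [Module R C] [Module.Free R A] [Module.Finite R A]
    [Module.Free R C] [Module.Finite R C] (p : A →ₗ[R] B) (q : B →ₗ[R] C) (h : Function.Exact p q)
    (hp : Function.Injective p) (hq : Function.Surjective q) :
    Module.finrank R B = Module.finrank R A + Module.finrank R C := by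
  obtain ⟨s, hs⟩ := Module.projective_lifting_property q LinearMap.id hq
  obtain ⟨e, -⟩ := h.splitSurjectiveEquiv hp ⟨s, hs⟩
  rw [e.finrank_eq, Module.finrank_prod]

theorem finrank_stalk_eq {M : X.Modules} {n : ℕ} (h : FlatMod.IsFinLocFreeOfRank n M) (x : X) :
    Module.Free (X.presheaf.stalk x) (M.presheaf.stalk x) ∧ Module.Finite (X.presheaf.stalk x) (M.presheaf.stalk x) ∧
      Module.finrank (X.presheaf.stalk x) (M.presheaf.stalk x) = n := by
  obtain ⟨b⟩ := KZ.CycleClass.exists_basis h x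
  exact ⟨Module.Free.of_basis b, Module.Finite.of_basis b, by rw [Module.finrank_eq_card_basis b, Fintype.card_fin]⟩

theorem exists_chart_smooth (f : X ⟶ S) (i : Y ⟶ X) [IsClosedImmersion i] {n m : ℕ}
    [SmoothOfRelativeDimension n f] [SmoothOfRelativeDimension m (i ≫ f)] [QuasiSeparated f]
    [QuasiSeparated (i ≫ f)] (y : Y) :
    ∃ U : X.affineOpens, i y ∈ U.1 ∧ IsClosedImmersion (i ∣_ U.1) ∧
      ∃ rs : List Γ(X, U.1), rs.length + m = n ∧ RegImm.Kind.regular.Seq Γ(X, U.1) rs ∧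
        RingHom.ker (i.app U.1).hom = Ideal.ofList rs := by
  haveI : Smooth f := SmoothOfRelativeDimension.smooth n f
  haveI : Smooth (i ≫ f) := SmoothOfRelativeDimension.smooth m (i ≫ f)
  obtain ⟨-, hreg⟩ := RegImmLib.regular_of_smooth f i
  obtain ⟨U, hyU, hU, rs, hrs, hker⟩ := hreg y
  refine ⟨U, hyU, hU, rs, ?_, hrs, hker⟩
  obtain ⟨c, hc⟩ := exists_chart_of_seq i U y hyU rs hrs hker
  obtain ⟨φ, q, w, hse⟩ := exists_conormal_shortExact f i
  let σ := DerSch.stalkFunctor Y y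
  obtain ⟨bC, -⟩ := TopDiff.basis_of_unique _ (c.bijective_stalk i (x := y) hc)
  haveI := Module.Free.of_basis bC
  haveI := Module.Finite.of_basis bC
  obtain ⟨hf3, hF3, hr3⟩ := finrank_stalk_eq (TopDiff.isFinLocFreeOfRank_omega (i ≫ f) m) y
  obtain ⟨hf2, hF2, hr2⟩ := finrank_stalk_eq
    (KRRReg.isFinLocFreeOfRank_pullback i (TopDiff.isFinLocFreeOfRank_omega f n)) y
  have hs := hse.map_of_exact σ
  haveI : Module.Free (Y.presheaf.stalk y) (σ.obj (Omega.conormal i)) := Module.Free.of_basis bC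
  haveI : Module.Finite (Y.presheaf.stalk y) (σ.obj (Omega.conormal i)) := Module.Finite.of_basis bC
  haveI : Module.Free (Y.presheaf.stalk y) (σ.obj (Omega.sheaf (i ≫ f))) := hf3
  haveI : Module.Finite (Y.presheaf.stalk y) (σ.obj (Omega.sheaf (i ≫ f))) := hF3
  have h := finrank_eq_add (σ.map φ).hom (σ.map q).hom
    ((ShortComplex.ShortExact.moduleCat_exact_iff_function_exact _).1 hs.exact)
    hs.moduleCat_injective_f hs.moduleCat_surjective_g
  have hC : Module.finrank (Y.presheaf.stalk y) (σ.obj (Omega.conormal i)) = rs.length :=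
    (Module.finrank_eq_card_basis bC).trans (Fintype.card_fin _)
  rw [show Module.finrank (Y.presheaf.stalk y) (σ.obj ((Scheme.Modules.pullback i).obj (Omega.sheaf f))) = n from hr2,
    show Module.finrank (Y.presheaf.stalk y) (σ.obj (Omega.sheaf (i ≫ f))) = m from hr3, hC] at h
  omega

theorem le_of_chart (f : X ⟶ S) (i : Y ⟶ X) [IsClosedImmersion i] {n m : ℕ}
    [SmoothOfRelativeDimension n f] [SmoothOfRelativeDimension m (i ≫ f)] [QuasiSeparated f]
    [QuasiSeparated (i ≫ f)] (y : Y) : m ≤ n := by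
  obtain ⟨U, -, -, rs, h, -⟩ := exists_chart_smooth f i (n := n) (m := m) y
  omega

theorem regularOfCodim_smooth (f : X ⟶ S) (i : Y ⟶ X) [IsClosedImmersion i] {n m : ℕ}
    [SmoothOfRelativeDimension n f] [SmoothOfRelativeDimension m (i ≫ f)] [QuasiSeparated f]
    [QuasiSeparated (i ≫ f)] : RegImm.IsRegularImmersionOfCodim RegImm.Kind.regular (n - m) i :=
  ⟨inferInstance, fun y => by
    obtain ⟨U, hy, hU, rs, h, hrs⟩ := exists_chart_smooth f i (n := n) (m := m) y
    exact ⟨U, hy, hU, rs, by omega, hrs⟩⟩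

theorem isFinLocFreeOfRank_conormal (i : Y ⟶ X) [IsClosedImmersion i] {d : ℕ}
    (h : ∀ y : Y, ∃ c : Chart i d, i y ∈ c.U.1) : FlatMod.IsFinLocFreeOfRank d (Omega.conormal i) := fun y => by
  obtain ⟨c, hc⟩ := h y
  exact ⟨i ⁻¹ᵁ c.U.1, hc, H23.Frame.exists_iso_of_frame (c.v i)
    (bijective_of_stalk_bases (c.v i) fun z hz => c.bijective_stalk i hz)⟩

theorem nonempty_det_tensor {T : ShortComplex Y.Modules} (hT : T.ShortExact) {c r n : ℕ} (hn : c + r = n)
    (h₁ : FlatMod.IsFinLocFreeOfRank c T.X₁) (h₃ : FlatMod.IsFinLocFreeOfRank r T.X₃) (h₂ : Coh.IsQCoh T.X₂)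
    {A B M : Y.Modules} (hA : ExtPow.IsExtPow c T.X₁ A) (hB : ExtPow.IsExtPow r T.X₃ B)
    (hM : ExtPow.IsExtPow n T.X₂ M) : Nonempty (M ≅ CohB1.tensorMod B A) := by
  subst hn
  obtain ⟨e⟩ := nonempty_det_iso hT h₁ h₃
  obtain ⟨a₁⟩ := nonempty_iso hA
    (isExtPow T.X₁ c (QCoh.isQCoh_of_isFinLocFree (KZ.CycleClass.isFinLocFree_of_rank h₁)))
  obtain ⟨a₃⟩ := nonempty_iso hB
    (isExtPow T.X₃ r (QCoh.isQCoh_of_isFinLocFree (KZ.CycleClass.isFinLocFree_of_rank h₃)))
  obtain ⟨a₂⟩ := nonempty_iso hM (isExtPow T.X₂ (c + r) h₂)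
  let k : tens (L T.X₁ c) (L T.X₃ r) ≅ CohB1.tensorMod (L T.X₃ r) (L T.X₁ c) :=
    (H23.PicMul.comm (L T.X₁ c) (L T.X₃ r)).some
  let u : CohB1.tensorMod (L T.X₃ r) (L T.X₁ c) ≅ CohB1.tensorMod B (L T.X₁ c) :=
    ((DCoh.tensorBi (X := Y)).mapIso a₃.symm).app (L T.X₁ c)
  let v : CohB1.tensorMod B (L T.X₁ c) ≅ CohB1.tensorMod B A :=
    ((DCoh.tensorBi (X := Y)).obj B).mapIso a₁.symm
  exact ⟨a₂.trans (e.symm.trans (k.trans (u.trans v)))⟩

/-- Adjunction. -/
theorem nonempty_adjunction (f : X ⟶ S) (i : Y ⟶ X) [IsClosedImmersion i] {n m : ℕ} (hmn : m ≤ n)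
    [SmoothOfRelativeDimension n f] [SmoothOfRelativeDimension m (i ≫ f)] [QuasiSeparated f]
    [QuasiSeparated (i ≫ f)] {ωX : X.Modules} (hωX : ExtPow.IsExtPow n (Omega.sheaf f) ωX)
    {ωY : Y.Modules} (hωY : ExtPow.IsExtPow m (Omega.sheaf (i ≫ f)) ωY)
    {Lc : Y.Modules} (hL : ExtPow.IsExtPow (n - m) (Omega.conormal i) Lc) :
    Nonempty ((Scheme.Modules.pullback i).obj ωX ≅ CohB1.tensorMod ωY Lc) := by
  haveI : Smooth f := SmoothOfRelativeDimension.smooth n f
  haveI : Smooth (i ≫ f) := SmoothOfRelativeDimension.smooth m (i ≫ f)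
  obtain ⟨φ, q, w, hse⟩ := exists_conormal_shortExact f i
  exact nonempty_det_tensor hse (Nat.sub_add_cancel hmn)
    (isFinLocFreeOfRank_conormal i (exists_chart i (regularOfCodim_smooth f i (n := n) (m := m))))
    (TopDiff.isFinLocFreeOfRank_omega (i ≫ f) m) (QCoh.isQCoh_pullback i (OmegaUniv.isQCoh_omega f)) hL hωY
    (ExtPowSh.isExtPow_pullback i (OmegaUniv.isQCoh_omega f) hωX)

end Smooth

end Groth.Agent.ExtShX
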