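import Groth.Agent.ExtShX.Stalk
import Groth.Agent.KZ.QuasiProj

/-!
# Local Ext sheaves of coherent modules on a Noetherian affine scheme
-/

set_option linter.style.haveILetI false
set_option linter.unusedSectionVars false
set_option backward.isDefEq.respectTransparency false
set_option backward.isDefEq.respectTransparency.types false
set_option maxHeartbeats 1000000

universe u

open CategoryTheory CategoryTheory.Limits AlgebraicGeometry TopologicalSpace Opposite

noncomputable section

attribute [local instance] CategoryTheory.Abelian.hasFiniteBiproducts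

namespace Groth.Agent.ExtShX

variable {A : CommRingCat.{u}} [IsNoetherianRing A]

/-- A resolution step by a finite free module. -/
theorem exists_free_cover {F : (Spec A).Modules} (hF : Coh.IsCoh F) :
    ∃ S : ShortComplex (Spec A).Modules, S.ShortExact ∧ S.X₃ = F ∧ Coh.IsCoh S.X₁ ∧ FlatMod.IsFinLocFree S.X₂ := by
  obtain ⟨σ, τ, _, _, f, g, w, hg, -⟩ := SheafHomX.exists_presentation_biproduct hF
  have hE : FlatMod.IsFinLocFree (⨁ fun _ : σ => Coh.structureModule (Spec A)) :=
    KZ.QuasiProj.flf_biproduct _ fun _ => KZ.QuasiProj.flf_of_invertible InvX.isInvertible_structureModule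
  have hEc : Coh.IsCoh (⨁ fun _ : σ => Coh.structureModule (Spec A)) :=
    QCoh.isCoh_iff_isFP.2 (QCoh.isFP_of_isFinLocFree hE)
  let S : ShortComplex (Spec A).Modules := ShortComplex.mk (kernel.ι g) g (kernel.condition g)
  exact ⟨S, { exact := ShortComplex.exact_of_f_is_kernel _ (kernelIsKernel g) }, rfl,
    QCoh.isCoh_kernel hEc hF g, hE⟩

variable (x : (Spec A : Scheme.{u}))

theorem bijective_phi {F : (Spec A).Modules} (hF : Coh.IsCoh F) (G : (Spec A).Modules) :
    Function.Bijective (phi x F G) := by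
  obtain ⟨σ, τ, _, _, f, g, w, hg, hex⟩ := SheafHomX.exists_presentation_biproduct hF
  have h : ∀ (ρ : Type u) [Fintype ρ],
      Function.Bijective (phi x (⨁ fun _ : ρ => Coh.structureModule (Spec A)) G) := fun ρ _ => by
    exact bijective_phi_of_decomposition x (fun _ : ρ => Coh.structureModule (Spec A))
      (biproduct.π _) (biproduct.ι _) (by
        classical
        exact biproduct.hom_ext _ _ fun j => by simp [Preadditive.sum_comp, biproduct.ι_π, comp_ite]) G fun _ => bijective_phi_unit x G
  haveI : Epi (ShortComplex.mk f g w).g := hg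
  exact bijective_phi_of_exact x hex G (h σ) (h τ).1

/-- Stalks of local Ext sheaves are Ext modules of stalks. -/
theorem exists_stalk_ext_affine (G : (Spec A).Modules) : ∀ (i : ℕ) {F : (Spec A).Modules}, Coh.IsCoh F →
    Nonempty ((DerSch.stalkFunctor (Spec A) x).obj ((E F i).obj G) ≃ₗ[(Spec A).presheaf.stalk x]
      Abelian.Ext ((DerSch.stalkFunctor (Spec A) x).obj F) ((DerSch.stalkFunctor (Spec A) x).obj G) i) := by
  let R := (Spec A).presheaf.stalk x
  let σ := DerSch.stalkFunctor (Spec A) x
  intro i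
  induction i with
  | zero =>
    intro F hF
    exact ⟨(σ.mapIso ((zeroIso F).app G)).toLinearEquiv.trans
      ((LinearEquiv.ofBijective (phi x F G) (bijective_phi x hF G)).trans
        (Abelian.Ext.linearEquiv₀.trans ModuleCat.homLinearEquiv :
          Abelian.Ext (σ.obj F) (σ.obj G) 0 ≃ₗ[R] (σ.obj F →ₗ[R] σ.obj G)).symm)⟩
  | succ i ih =>
    intro F hF
    obtain ⟨S, hS, rfl, h1, h2⟩ := exists_free_cover hF
    let T := S.map σ
    have hT : T.ShortExact := hS.map_of_exact σ
    haveI : Module.Free R (σ.obj S.X₂) := QCoh.free_stalk_of_isFinLocFree h2 x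
    haveI : Projective T.X₂ := (IsProjective.iff_projective (R := R) (σ.obj S.X₂)).1 inferInstance
    let Y := σ.obj G
    let δ : Abelian.Ext T.X₁ Y i →ₗ[R] Abelian.Ext T.X₃ Y (i + 1) :=
      Abelian.Ext.precompOfLinear hT.extClass R Y (add_comm 1 i)
    have hδ : Function.Surjective δ := fun z =>
      Abelian.Ext.contravariant_sequence_exact₃ hT Y z (Abelian.Ext.eq_zero_of_projective _) (add_comm 1 i)
    rcases i with _ | i
    · obtain ⟨c⟩ := coker_iso hS G (isZero_of_isFinLocFree h2 G 0)
      let r := ((SheafHomX.homMap S.f).app G)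
      let π : σ.obj ((SheafHomX.hom S.X₁).obj G) →ₗ[R] σ.obj ((E S.X₃ 1).obj G) :=
        (σ.map (cokernel.π r ≫ c.hom)).hom
      have hπ : Function.Surjective π := (ModuleCat.epi_iff_surjective _).1 inferInstance
      have hex : Function.Exact (σ.map r).hom π := by
        have h0 : (ShortComplex.mk r (cokernel.π r ≫ c.hom) (by simp)).Exact :=
          ShortComplex.exact_of_g_is_cokernel _ (CokernelCofork.IsColimit.ofπ _ (by simp)
            (fun g hg => c.inv ≫ cokernel.desc r g hg) (fun g hg => by simp)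
            (fun g hg m hm => by rw [← cancel_epi c.hom, Iso.hom_inv_id_assoc, ← cancel_epi (cokernel.π r)]
                                 simpa using hm))
        exact (ShortComplex.ShortExact.moduleCat_exact_iff_function_exact _).1 (h0.map σ)
      let e0 : Abelian.Ext T.X₁ Y 0 ≃ₗ[R] (σ.obj S.X₁ →ₗ[R] Y) :=
        Abelian.Ext.linearEquiv₀.trans ModuleCat.homLinearEquiv
      let q : σ.obj ((SheafHomX.hom S.X₁).obj G) →ₗ[R] Abelian.Ext T.X₃ Y 1 :=
        δ ∘ₗ e0.symm.toLinearMap ∘ₗ phi x S.X₁ G
      have hq : Function.Surjective q :=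
        hδ.comp (e0.symm.surjective.comp (bijective_phi x h1 G).2)
      have hker : LinearMap.ker q = LinearMap.ker π := by
        ext z
        rw [LinearMap.mem_ker, LinearMap.mem_ker, hex z]
        constructor
        · intro hz
          obtain ⟨x₂, hx₂⟩ := Abelian.Ext.contravariant_sequence_exact₁ hT Y (e0.symm (phi x S.X₁ G z))
            (add_comm 1 0) hz
          obtain ⟨f₂, rfl⟩ := (Abelian.Ext.linearEquiv₀ (R := R)).symm.surjective x₂
          obtain ⟨m, hm⟩ := (bijective_phi x (QCoh.isCoh_iff_isFP.2 (QCoh.isFP_of_isFinLocFree h2)) G).2 f₂.hom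
          refine ⟨m, (bijective_phi x h1 G).1 ?_⟩
          rw [Abelian.Ext.linearEquiv₀_symm_apply, Abelian.Ext.mk₀_comp_mk₀] at hx₂
          have h3 := (Abelian.Ext.mk₀_bijective _ _).1 (hx₂.trans
            (show e0.symm (phi x S.X₁ G z) = Abelian.Ext.mk₀ (ModuleCat.ofHom (phi x S.X₁ G z)) from rfl))
          rw [phi_natural, hm]
          exact congrArg ModuleCat.Hom.hom h3
        · rintro ⟨m, rfl⟩
          show hT.extClass.comp (Abelian.Ext.mk₀ (ModuleCat.ofHom (phi x S.X₁ G ((σ.map r).hom m))))
            (add_comm 1 0) = 0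
          rw [phi_natural, show ModuleCat.ofHom (phi x S.X₂ G m ∘ₗ (σ.map S.f).hom) =
            T.f ≫ ModuleCat.ofHom (phi x S.X₂ G m) from rfl, ← Abelian.Ext.mk₀_comp_mk₀]
          exact hT.extClass_comp_assoc _
      exact ⟨(LinearMap.quotKerEquivOfSurjective π hπ).symm.trans
        ((Submodule.quotEquivOfEq _ _ hker.symm).trans (LinearMap.quotKerEquivOfSurjective q hq))⟩
    · obtain ⟨e⟩ := shift hS G (i + 1) (isZero_of_isFinLocFree h2 G i) (isZero_of_isFinLocFree h2 G (i + 1))
      obtain ⟨e'⟩ := ih h1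
      have hδi : Function.Injective δ := (injective_iff_map_eq_zero _).2 fun z hz => by
        obtain ⟨y, hy⟩ := Abelian.Ext.contravariant_sequence_exact₁ hT Y z (add_comm 1 (i + 1)) hz
        rw [← hy, Abelian.Ext.eq_zero_of_projective y, Abelian.Ext.comp_zero]
      exact ⟨((σ.mapIso e).toLinearEquiv.symm.trans e').trans (LinearEquiv.ofBijective δ ⟨hδi, hδ⟩)⟩

/-- Local Ext sheaves of coherent modules are coherent. -/
theorem isCoh_affine {G : (Spec A).Modules} (hG : Coh.IsCoh G) : ∀ (i : ℕ) {F : (Spec A).Modules}, Coh.IsCoh F →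
    Coh.IsCoh ((E F i).obj G) := by
  intro i
  induction i with
  | zero => exact fun hF => SheafHomX.isCoh_of_iso ((zeroIso _).app G).symm (SheafHomX.isCoh_hom hF hG)
  | succ i ih =>
    intro F hF
    obtain ⟨S, hS, rfl, h1, h2⟩ := exists_free_cover hF
    rcases i with _ | i
    · obtain ⟨c⟩ := coker_iso hS G (isZero_of_isFinLocFree h2 G 0)
      exact SheafHomX.isCoh_of_iso c (QCoh.isCoh_cokernel
        (SheafHomX.isCoh_hom (QCoh.isCoh_iff_isFP.2 (QCoh.isFP_of_isFinLocFree h2)) hG).1
        (SheafHomX.isCoh_hom h1 hG) _)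
    · obtain ⟨e⟩ := shift hS G (i + 1) (isZero_of_isFinLocFree h2 G i) (isZero_of_isFinLocFree h2 G (i + 1))
      exact SheafHomX.isCoh_of_iso e (ih h1)

end Groth.Agent.ExtShX
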