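import Groth.Agent.ExtShX.Affine
import Groth.Agent.ExtShX.Local
import Groth.Agent.SheafHomX.Extra
import Groth.Agent.QCoh.Tilde

/-!
# Global sections of local Ext sheaves on an affine scheme
-/

set_option linter.style.haveILetI false
set_option linter.unusedSectionVars false
set_option backward.isDefEq.respectTransparency false
set_option backward.isDefEq.respectTransparency.types false
set_option maxHeartbeats 1000000

universe u

open CategoryTheory CategoryTheory.Limits AlgebraicGeometry TopologicalSpace Opposite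

noncomputable section

attribute [local instance] CategoryTheory.Abelian.hasFiniteBiproducts

namespace Groth.Agent.ExtShX

variable {A : CommRingCat.{u}}

/-- `Spec A` over itself. -/
@[reducible] def specOver (A : CommRingCat.{u}) : (Spec A).Over (Spec (CommRingCat.of A)) := ⟨𝟙 _⟩

attribute [local instance] specOver

local notation "ΓA" => (moduleSpecΓFunctor (R := A))

theorem glob_smul (N : (Spec A).Modules) (a : A) (s : Γ(N, ⊤)) :
    (Formal.smulMod (A : Type u) N a).app ⊤ s = (show Γ(N, ⊤) from a • (show (ΓA).obj N from s)) := by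
  rw [SheafHomX.smulMod_app_top]
  show (((Spec A).presheaf.map (homOfLE le_top).op).hom
    ((𝟙 (Spec A) : Spec A ⟶ Spec A).appTop.hom ((Scheme.ΓSpecIso A).inv.hom a))) • s = _
  rw [show (homOfLE (le_top : (⊤ : (Spec A).Opens) ≤ ⊤)).op = 𝟙 _ from rfl, CategoryTheory.Functor.map_id]
  rfl

theorem hom_ext_one {N : (Spec A).Modules} {x y : Coh.structureModule (Spec A) ⟶ N}
    (h : InvX.one x = InvX.one y) : x = y := by
  have e : ∀ z : Coh.structureModule (Spec A) ⟶ N, ∀ V : (Spec A).Opens,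
      AModX.res N (le_top : V ≤ ⊤) (InvX.one z) = z.app V (1 : Γ(Spec A, V)) := fun z V => by
    rw [InvX.one, ← AModX.app_res]
    exact congrArg _ (map_one ((Spec A).presheaf.map (homOfLE (le_top : V ≤ ⊤)).op).hom)
  refine (SheafOfModules.unitHomEquiv N).injective (Subtype.ext (funext fun V => ?_))
  exact (e x V.unop).symm.trans ((congrArg _ h).trans (e y V.unop))

theorem ofSect_injective {N : (Spec A).Modules} : Function.Injective (InvX.ofSect (X := Spec A) (M := N)) :=
  fun s t h => by rw [← InvX.one_ofSect s, ← InvX.one_ofSect t, h]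

theorem ofSect_one {N : (Spec A).Modules} (x : Coh.structureModule (Spec A) ⟶ N) :
    InvX.ofSect (InvX.one x) = x :=
  hom_ext_one (InvX.one_ofSect _)

theorem tenUnitIso_natural {M M' : (Spec A).Modules} (g : M ⟶ M') :
    ((DCoh.tensorBi (X := Spec A)).flip.map g).app (Coh.structureModule (Spec A)) ≫ (SheafHomX.tenUnitIso M').hom =
      (SheafHomX.tenUnitIso M).hom ≫ g := by
  have h1 := NatTrans.congr_app ((KFlatLib.tensorBiFlipIso (Spec A)).hom.naturality g) (Coh.structureModule (Spec A))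
  have h2 := (KFlatLib.tensorStructureIso (Spec A)).hom.naturality g
  simp only [SheafHomX.tenUnitIso, Iso.trans_hom, Iso.app_hom]
  simp only [NatTrans.comp_app] at h1
  rw [Category.assoc]
  erw [reassoc_of% h1]
  exact congrArg (_ ≫ ·) h2

theorem ev_homMap {M M' : (Spec A).Modules} (g : M ⟶ M') (N : (Spec A).Modules)
    (x : Coh.structureModule (Spec A) ⟶ (SheafHomX.hom M').obj N) :
    SheafHomX.ev M N (x ≫ (SheafHomX.homMap g).app N) = g ≫ SheafHomX.ev M' N x := by
  show (SheafHomX.tenUnitIso M).inv ≫ _ = g ≫ (SheafHomX.tenUnitIso M').inv ≫ _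
  rw [SheafHomX.homEquiv_homMap, ← Category.assoc, ← Category.assoc]
  refine congrArg (· ≫ _) ?_
  rw [Iso.inv_comp_eq, ← Category.assoc, Iso.eq_comp_inv]
  exact tenUnitIso_natural g

/-- A section of `Hom(M~, G)` as a linear map. -/
def psiFun (G : (Spec A).Modules) (M : ModuleCat.{u} A) (s : (ΓA).obj ((SheafHomX.hom ((tilde.functor A).obj M)).obj G)) :
    M ⟶ (ΓA).obj G :=
  tilde.adjunction.homEquiv M G (SheafHomX.ev _ G (InvX.ofSect (X := Spec A) s))

/-- The morphism attached to a section is natural in the section's module. -/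
theorem ofSect_app {N N' : (Spec A).Modules} (f : N ⟶ N') (s : Γ(N, ⊤)) :
    InvX.ofSect (f.app ⊤ s) = InvX.ofSect s ≫ f := by
  refine hom_ext_one ?_
  rw [InvX.one_ofSect]
  exact (congrArg (f.app ⊤) (InvX.one_ofSect s)).symm

theorem psiFun_natural (G : (Spec A).Modules) {M M' : ModuleCat.{u} A} (g : M ⟶ M')
    (s : (ΓA).obj ((SheafHomX.hom ((tilde.functor A).obj M')).obj G)) :
    psiFun G M ((ΓA).map ((SheafHomX.homMap ((tilde.functor A).map g)).app G) s) = g ≫ psiFun G M' s := by
  show tilde.adjunction.homEquiv M G (SheafHomX.ev _ G (InvX.ofSect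
    (((SheafHomX.homMap ((tilde.functor A).map g)).app G).app ⊤ s))) = _
  rw [ofSect_app]
  erw [ev_homMap, Adjunction.homEquiv_naturality_left]
  rfl

/-- Sections of `Hom(M~, G)` are linear maps `M → Γ(G)`. -/
def psi (G : (Spec A).Modules) (M : ModuleCat.{u} A) :
    (ΓA).obj ((SheafHomX.hom ((tilde.functor A).obj M)).obj G) ≃ₗ[A] (M ⟶ (ΓA).obj G) where
  toFun := psiFun G M
  invFun φ := InvX.one ((SheafHomX.ev _ G).symm ((tilde.adjunction.homEquiv M G).symm φ))
  left_inv s := by
    simp only [psiFun, Equiv.symm_apply_apply, AddEquiv.symm_apply_apply]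
    exact InvX.one_ofSect _
  right_inv φ := by
    simp only [psiFun, ofSect_one, Equiv.apply_symm_apply, AddEquiv.apply_symm_apply]
  map_add' s t := by
    have h : InvX.ofSect (X := Spec A) (M := (SheafHomX.hom ((tilde.functor A).obj M)).obj G) (s + t) =
        InvX.ofSect s + InvX.ofSect t := by
      refine hom_ext_one ?_
      rw [InvX.one_ofSect]
      show _ = InvX.one (InvX.ofSect s) + InvX.one (InvX.ofSect t)
      rw [InvX.one_ofSect, InvX.one_ofSect]
    simp only [psiFun]
    erw [h]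
    haveI : (ΓA).Additive := tilde.adjunction.right_adjoint_additive
    rw [map_add, Adjunction.homEquiv_unit, Adjunction.homEquiv_unit, Adjunction.homEquiv_unit, Functor.map_add,
      Preadditive.comp_add]
  map_smul' a s := by
    simp only [psiFun, RingHom.id_apply]
    have hs : InvX.ofSect (X := Spec A) (M := (SheafHomX.hom ((tilde.functor A).obj M)).obj G) (a • s :) =
        InvX.ofSect s ≫ Formal.smulMod (A : Type u) _ a :=
      (congrArg InvX.ofSect (glob_smul ((SheafHomX.hom ((tilde.functor A).obj M)).obj G) a s).symm).trans (ofSect_app _ _)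
    erw [hs]
    rw [← SheafHomX.hom_map_smulMod, SheafHomX.ev_naturality, Adjunction.homEquiv_naturality_right]
    refine ModuleCat.hom_ext (LinearMap.ext fun m => ?_)
    exact glob_smul G a _

theorem psi_natural (G : (Spec A).Modules) {M M' : ModuleCat.{u} A} (g : M ⟶ M')
    (s : (ΓA).obj ((SheafHomX.hom ((tilde.functor A).obj M')).obj G)) :
    psi G M ((ΓA).map ((SheafHomX.homMap ((tilde.functor A).map g)).app G) s) = g ≫ psi G M' s :=
  psiFun_natural G g s

theorem isQCoh_hom_tilde {G : (Spec A).Modules} (hG : Coh.IsQCoh G) (M : ModuleCat.{u} A)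
    [Module.FinitePresentation A M] : Coh.IsQCoh ((SheafHomX.hom ((tilde.functor A).obj M)).obj G) := by
  have hM : Coh.IsQCoh ((tilde.functor A).obj M) := inferInstanceAs (Coh.IsQCoh (tilde M))
  haveI : Module.FinitePresentation A ((ΓA).obj ((tilde.functor A).obj M)) :=
    haveI : Module.FinitePresentation A ((𝟭 (ModuleCat.{u} A)).obj M) := ‹Module.FinitePresentation A M›
    Module.FinitePresentation.of_equiv ((asIso ((tilde.adjunction (R := A)).unit.app M)).toLinearEquiv)
  obtain ⟨P, hP⟩ := QCoh.exists_presentation_of_finitePresentation hM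
  haveI : Finite P.generators.I := SheafOfModules.GeneratingSections.IsFiniteType.finite
  haveI : Finite P.relations.I := SheafOfModules.GeneratingSections.IsFiniteType.finite
  haveI := Fintype.ofFinite P.generators.I
  haveI := Fintype.ofFinite P.relations.I
  let a : (⨁ fun _ : P.generators.I => Coh.structureModule (Spec A)) ≅
      (SheafOfModules.free P.generators.I : (Spec A).Modules) :=
    biproduct.isoCoproduct _
  let b : (⨁ fun _ : P.relations.I => Coh.structureModule (Spec A)) ≅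
      (SheafOfModules.free P.relations.I : (Spec A).Modules) :=
    biproduct.isoCoproduct _
  let π : (SheafOfModules.free P.generators.I : (Spec A).Modules) ⟶ (tilde.functor A).obj M := P.generators.π
  let k : (SheafOfModules.free P.relations.I : (Spec A).Modules) ⟶ kernel π := P.relations.π
  haveI : Epi k := inferInstanceAs (Epi P.relations.π)
  haveI : Epi π := inferInstanceAs (Epi P.generators.π)
  have w : (b.hom ≫ k ≫ kernel.ι π ≫ a.inv) ≫ (a.hom ≫ π) = 0 := by simp
  refine (SheafHomX.isQCoh_hom_of_presentation _ _ w ?_ hG).1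
  have h0 : (ShortComplex.mk (kernel.ι π) π (kernel.condition π)).Exact :=
    ShortComplex.exact_of_f_is_kernel _ (kernelIsKernel π)
  let S1 := ShortComplex.mk (k ≫ kernel.ι π) π (by simp)
  have h1 : S1.Exact := by
    let φ : S1 ⟶ ShortComplex.mk (kernel.ι π) π (kernel.condition π) :=
      { τ₁ := k, τ₂ := 𝟙 _, τ₃ := 𝟙 _ }
    haveI : Epi φ.τ₁ := inferInstanceAs (Epi k)
    haveI : IsIso φ.τ₂ := inferInstanceAs (IsIso (𝟙 _))
    haveI : Mono φ.τ₃ := inferInstanceAs (Mono (𝟙 _))
    exact (ShortComplex.exact_iff_of_epi_of_isIso_of_mono φ).2 h0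
  let e : S1 ≅ ShortComplex.mk (b.hom ≫ k ≫ kernel.ι π ≫ a.inv) (a.hom ≫ π) w :=
    ShortComplex.isoMk b.symm a.symm (Iso.refl _) (by simp [S1]) (by simp [S1])
  exact ShortComplex.exact_of_iso e h1

theorem shortExact_map_tilde {T : ShortComplex (ModuleCat.{u} A)} (hT : T.ShortExact) :
    (T.map (tilde.functor A)).ShortExact := hT.map_of_exact _

theorem surjective_gamma {M N : (Spec A).Modules} (f : M ⟶ N) [Epi f] (hM : Coh.IsQCoh M) (hN : Coh.IsQCoh N) :
    Function.Surjective ((ΓA).map f).hom :=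
  QCoh.app_surjective_of_epi hM hN f (isAffineOpen_top _)

theorem function_exact_gamma' {P Q R : (Spec A).Modules} (f : P ⟶ Q) (g : Q ⟶ R) (hw : f ≫ g = 0)
    (hS : (ShortComplex.mk f g hw).Exact) (h₁ : Coh.IsQCoh P) (h₂ : Coh.IsQCoh Q) (h₃ : Coh.IsQCoh R) :
    Function.Exact ((ΓA).map f).hom ((ΓA).map g).hom := by
  intro y
  constructor
  · intro hy
    let k := kernel.lift g f hw
    haveI : Epi k := hS.epi_kernelLift
    have hker : Coh.IsQCoh (kernel g) := QCoh.isQCoh_kernel h₂ h₃ _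
    let T : ShortComplex (Spec A).Modules := ShortComplex.mk (kernel.ι g) g (kernel.condition g)
    haveI : (ΓA).Additive := tilde.adjunction.right_adjoint_additive
    haveI : PreservesLimits (ΓA) := tilde.adjunction.rightAdjoint_preservesLimits
    have hT : (T.map (ΓA)).Exact :=
      ((ShortComplex.exact_of_f_is_kernel T (kernelIsKernel g)).map_of_mono_of_preservesKernel (ΓA)
        (inferInstanceAs (Mono (kernel.ι g))) inferInstance)
    obtain ⟨z, hz⟩ := ((ShortComplex.ShortExact.moduleCat_exact_iff_function_exact _).1 hT y).1 hy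
    obtain ⟨w, rfl⟩ := surjective_gamma k h₁ hker z
    refine ⟨w, Eq.trans ?_ hz⟩
    show ((ΓA).map f).hom w = ((ΓA).map k ≫ (ΓA).map (kernel.ι g)).hom w
    rw [← Functor.map_comp, kernel.lift_ι]
  · rintro ⟨w, rfl⟩
    show ((ΓA).map f ≫ (ΓA).map g).hom w = 0
    rw [← Functor.map_comp, hw]
    haveI : (ΓA).Additive := tilde.adjunction.right_adjoint_additive
    rw [Functor.map_zero]
    rfl

/-- A free cover of a finite module. -/
theorem exists_module_cover [IsNoetherianRing A] (M : ModuleCat.{u} A) [Module.Finite A M] :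
    ∃ T : ShortComplex (ModuleCat.{u} A), T.ShortExact ∧ T.X₃ = M ∧ Module.Finite A T.X₁ ∧
      Module.Finite A T.X₂ ∧ Projective T.X₂ ∧ Module.Projective A T.X₂ := by
  obtain ⟨n, g, hg⟩ := Module.Finite.exists_fin' A M
  exact ⟨LinearMap.shortComplexKer g, LinearMap.shortExact_shortComplexKer hg, rfl,
    Module.Finite.iff_fg.2 (IsNoetherian.noetherian (LinearMap.ker g)), inferInstanceAs (Module.Finite A (Fin n → A)),
    (IsProjective.iff_projective (R := A) (ModuleCat.of A (Fin n → A))).1 inferInstance,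
    inferInstanceAs (Module.Projective A (Fin n → A))⟩

/-- The cokernel presentation of `Ext¹`. -/
theorem ext_one_equiv {T : ShortComplex (ModuleCat.{u} A)} (hT : T.ShortExact) [Projective T.X₂] (Y : ModuleCat.{u} A)
    {H₂ H₁ Q : Type u} [AddCommGroup H₂] [Module A H₂] [AddCommGroup H₁] [Module A H₁] [AddCommGroup Q] [Module A Q]
    (r : H₂ →ₗ[A] H₁) (π : H₁ →ₗ[A] Q) (hπ : Function.Surjective π) (hex : Function.Exact r π)
    (ψ₁ : H₁ ≃ₗ[A] (T.X₁ ⟶ Y)) (ψ₂ : H₂ ≃ₗ[A] (T.X₂ ⟶ Y)) (hn : ∀ m, ψ₁ (r m) = T.f ≫ ψ₂ m) :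
    Nonempty (Q ≃ₗ[A] Abelian.Ext T.X₃ Y 1) := by
  let δ : Abelian.Ext T.X₁ Y 0 →ₗ[A] Abelian.Ext T.X₃ Y 1 :=
    Abelian.Ext.precompOfLinear hT.extClass A Y (add_comm 1 0)
  have hδ : Function.Surjective δ := fun z =>
    Abelian.Ext.contravariant_sequence_exact₃ hT Y z (Abelian.Ext.eq_zero_of_projective _) (add_comm 1 0)
  let e0 : Abelian.Ext T.X₁ Y 0 ≃ₗ[A] (T.X₁ ⟶ Y) := Abelian.Ext.linearEquiv₀
  let q : H₁ →ₗ[A] Abelian.Ext T.X₃ Y 1 := δ ∘ₗ e0.symm.toLinearMap ∘ₗ ψ₁.toLinearMap
  have hq : Function.Surjective q := hδ.comp (e0.symm.surjective.comp ψ₁.surjective)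
  have hker : LinearMap.ker q = LinearMap.ker π := by
    ext z
    rw [LinearMap.mem_ker, LinearMap.mem_ker, hex z]
    constructor
    · intro hz
      obtain ⟨x₂, hx₂⟩ := Abelian.Ext.contravariant_sequence_exact₁ hT Y (e0.symm (ψ₁ z)) (add_comm 1 0) hz
      obtain ⟨f₂, rfl⟩ := (Abelian.Ext.linearEquiv₀ (R := A)).symm.surjective x₂
      obtain ⟨m, rfl⟩ := ψ₂.surjective f₂
      refine ⟨m, ψ₁.injective ?_⟩
      rw [Abelian.Ext.linearEquiv₀_symm_apply, Abelian.Ext.mk₀_comp_mk₀] at hx₂
      exact (hn m).trans ((Abelian.Ext.mk₀_bijective _ _).1 (hx₂.trans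
        (show e0.symm (ψ₁ z) = Abelian.Ext.mk₀ (ψ₁ z) from rfl)))
    · rintro ⟨m, rfl⟩
      show hT.extClass.comp (Abelian.Ext.mk₀ (ψ₁ (r m))) (add_comm 1 0) = 0
      rw [hn, ← Abelian.Ext.mk₀_comp_mk₀]
      exact hT.extClass_comp_assoc _
  exact ⟨(LinearMap.quotKerEquivOfSurjective π hπ).symm.trans
    ((Submodule.quotEquivOfEq _ _ hker.symm).trans (LinearMap.quotKerEquivOfSurjective q hq))⟩

/-- The step to `Ext¹`. -/
theorem step_one [IsNoetherianRing A] {G : (Spec A).Modules} (hG : Coh.IsQCoh G)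
    {T : ShortComplex (ModuleCat.{u} A)} (hT : T.ShortExact) [Module.Finite A T.X₁]
    [Module.Finite A T.X₂] [Projective T.X₂] [Module.Projective A T.X₂] :
    Coh.IsQCoh ((E ((tilde.functor A).obj T.X₃) 1).obj G) ∧
      Nonempty ((ΓA).obj ((E ((tilde.functor A).obj T.X₃) 1).obj G) ≃ₗ[A] Abelian.Ext T.X₃ ((ΓA).obj G) 1) := by
  haveI : Module.FinitePresentation A T.X₁ := Module.finitePresentation_of_finite A T.X₁
  haveI : Module.FinitePresentation A T.X₂ := Module.finitePresentation_of_finite A T.X₂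
  have h2 : FlatMod.IsFinLocFree ((tilde.functor A).obj T.X₂) :=
    (QCoh.isFinLocFree_tilde_iff T.X₂).2 ⟨inferInstance, inferInstance⟩
  obtain ⟨c⟩ := coker_iso (shortExact_map_tilde hT) G (isZero_of_isFinLocFree h2 G 0)
  let r := (SheafHomX.homMap ((tilde.functor A).map T.f)).app G
  let p : (SheafHomX.hom ((tilde.functor A).obj T.X₁)).obj G ⟶ (E ((tilde.functor A).obj T.X₃) 1).obj G :=
    cokernel.π r ≫ c.hom
  have q1 := isQCoh_hom_tilde hG T.X₁
  have q2 := isQCoh_hom_tilde hG T.X₂
  have q3 : Coh.IsQCoh ((E ((tilde.functor A).obj T.X₃) 1).obj G) :=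
    (QCoh.isQCoh_iff_iso c).1 (QCoh.isQCoh_cokernel q2 q1 r)
  have hz : r ≫ p = 0 := by simp only [p, ← Category.assoc]; rw [cokernel.condition, zero_comp]
  have h0 : (ShortComplex.mk r p hz).Exact := by
    refine ShortComplex.exact_of_g_is_cokernel _ ?_
    exact IsColimit.ofIsoColimit (cokernelIsCokernel r) (Cofork.ext c)
  haveI : Epi p := epi_comp _ _
  refine ⟨q3, ?_⟩
  have hs : Function.Surjective ((ΓA).map p).hom := surjective_gamma p q1 q3
  have he : Function.Exact ((ΓA).map r).hom ((ΓA).map p).hom := function_exact_gamma' r p hz h0 q2 q1 q3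
  have hn : ∀ m, psi G T.X₁ (((ΓA).map r).hom m) = T.f ≫ psi G T.X₂ m := fun m => psi_natural G T.f m
  exact ext_one_equiv hT _ ((ΓA).map r).hom ((ΓA).map p).hom hs he (psi G T.X₁) (psi G T.X₂) hn

/-- The step to higher `Ext`. -/
theorem step_succ [IsNoetherianRing A] {G : (Spec A).Modules}
    {T : ShortComplex (ModuleCat.{u} A)} (hT : T.ShortExact)
    [Module.Finite A T.X₂] [Projective T.X₂] [Module.Projective A T.X₂] (i : ℕ)
    (hq : Coh.IsQCoh ((E ((tilde.functor A).obj T.X₁) (i + 1)).obj G))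
    (he : Nonempty ((ΓA).obj ((E ((tilde.functor A).obj T.X₁) (i + 1)).obj G) ≃ₗ[A]
      Abelian.Ext T.X₁ ((ΓA).obj G) (i + 1))) :
    Coh.IsQCoh ((E ((tilde.functor A).obj T.X₃) (i + 2)).obj G) ∧
      Nonempty ((ΓA).obj ((E ((tilde.functor A).obj T.X₃) (i + 2)).obj G) ≃ₗ[A]
        Abelian.Ext T.X₃ ((ΓA).obj G) (i + 2)) := by
  have h2 : FlatMod.IsFinLocFree ((tilde.functor A).obj T.X₂) :=
    (QCoh.isFinLocFree_tilde_iff T.X₂).2 ⟨inferInstance, inferInstance⟩
  obtain ⟨e₀⟩ := shift (shortExact_map_tilde hT) G (i + 1) (isZero_of_isFinLocFree h2 G i)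
    (isZero_of_isFinLocFree h2 G (i + 1))
  let e : (E ((tilde.functor A).obj T.X₁) (i + 1)).obj G ≅ (E ((tilde.functor A).obj T.X₃) (i + 2)).obj G := e₀
  obtain ⟨e'⟩ := he
  let δ : Abelian.Ext T.X₁ ((ΓA).obj G) (i + 1) →ₗ[A] Abelian.Ext T.X₃ ((ΓA).obj G) (i + 2) :=
    Abelian.Ext.precompOfLinear hT.extClass A _ (add_comm 1 (i + 1))
  have hδ : Function.Surjective δ := fun z =>
    Abelian.Ext.contravariant_sequence_exact₃ hT _ z (Abelian.Ext.eq_zero_of_projective _) (add_comm 1 (i + 1))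
  have hδi : Function.Injective δ := (injective_iff_map_eq_zero _).2 fun z hz => by
    obtain ⟨y, hy⟩ := Abelian.Ext.contravariant_sequence_exact₁ hT _ z (add_comm 1 (i + 1)) hz
    rw [← hy, Abelian.Ext.eq_zero_of_projective y, Abelian.Ext.comp_zero]
  exact ⟨(QCoh.isQCoh_iff_iso e).1 hq,
    ⟨(((ΓA).mapIso e).toLinearEquiv.symm.trans e').trans (LinearEquiv.ofBijective δ ⟨hδi, hδ⟩)⟩⟩

/-- On a Noetherian affine scheme, `Ext^i(M~, G)` is quasi-coherent with sections `Ext^i(M, Γ(G))`. -/
theorem isQCoh_and_gamma_iso [IsNoetherianRing A] {G : (Spec A).Modules} (hG : Coh.IsQCoh G) :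
    ∀ (i : ℕ) (M : ModuleCat.{u} A), Module.Finite A M →
      Coh.IsQCoh ((E ((tilde.functor A).obj M) i).obj G) ∧
      Nonempty ((ΓA).obj ((E ((tilde.functor A).obj M) i).obj G) ≃ₗ[A] Abelian.Ext M ((ΓA).obj G) i) := by
  intro i
  induction i with
  | zero =>
    intro M hM
    haveI : Module.FinitePresentation A M := Module.finitePresentation_of_finite A M
    exact ⟨(QCoh.isQCoh_iff_iso ((zeroIso _).app G)).2 (isQCoh_hom_tilde hG M),
      ⟨(((ΓA).mapIso ((zeroIso _).app G)).toLinearEquiv.trans (psi G M)).trans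
        (Abelian.Ext.linearEquiv₀ (R := A)).symm⟩⟩
  | succ i ih =>
    intro M hM
    obtain ⟨T, hT, rfl, _, _, _, _⟩ := exists_module_cover M
    rcases i with _ | i
    · exact step_one hG hT
    · obtain ⟨hq, he⟩ := ih T.X₁ inferInstance
      exact step_succ hT i hq he

end Groth.Agent.ExtShX
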