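import Groth.Agent.ExtShX.KoszulConormal
import Groth.Agent.AmpleVan.Tw
import Groth.Agent.RefX.Lift
import Groth.Agent.H23.PullPush
import Groth.Agent.KFlatLib.Scheme.Exact

/-!
# The fundamental isomorphism `Ext^r(ι_* O, F) ≅ ι_* ℋom(∧^r C, ι^* F)`
-/

set_option linter.style.haveILetI false
set_option linter.unusedSectionVars false
set_option backward.isDefEq.respectTransparency false
set_option backward.isDefEq.respectTransparency.types false
set_option maxHeartbeats 1000000

universe u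

open CategoryTheory CategoryTheory.Limits AlgebraicGeometry TopologicalSpace Opposite
open scoped TensorProduct

noncomputable section

attribute [local instance] CategoryTheory.Abelian.hasFiniteBiproducts

namespace Groth.Agent.ExtShX

section HomSh

variable {X : Scheme.{u}}

/-- The internal Hom and the sheaf Hom agree on invertible modules. -/
theorem nonempty_hom_iso_homSh {L : X.Modules} (hL : PicF.IsInvertible L) (G : X.Modules) :
    Nonempty ((SheafHomX.hom L).obj G ≅ RefHull.homSh L G) := by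
  let H := (SheafHomX.hom L).obj G
  let fam : ∀ (U : X.Opens), Γ(H, U) → Γ(RefHull.homSh L G, U) := fun U t =>
    ⟨fun z => phi z.1 L G (H.presheaf.germ U z.1 z.2 t), fun V i m z => by
      refine ⟨V, z.2, 𝟙 V, ((SheafHomX.adj L).counit.app G).app V (KFlatLib.tmSh H L (AModX.res H i.le t) m),
        fun y => ?_⟩
      refine (phi_apply y.1 L G _ _).trans ?_
      rw [← RefX.germ_res H i.le y.2 t]
      refine (congrArg ((DerSch.stalkFunctor X y.1).map ((SheafHomX.adj L).counit.app G)).hom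
        (KFlatLib.stalkTensorIso_gm H L V y.2 (AModX.res H i.le t) m)).trans ?_
      exact DerSch.stalkFunctor_map_germ y.1 _ V y.2 _⟩
  let α : H ⟶ RefHull.homSh L G :=
    ⟨PresheafOfModules.homMk
      { app := fun U => AddCommGrpCat.ofHom
          { toFun := fam U.unop
            map_zero' := RefX.sect_ext fun z => by
              show phi z.1 L G _ = 0
              rw [map_zero]; exact map_zero _
            map_add' := fun a b => RefX.sect_ext fun z => by
              show phi z.1 L G _ = phi z.1 L G _ + phi z.1 L G _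
              rw [map_add]; exact map_add _ _ _ }
        naturality := fun {U V} i => by
          ext t
          refine RefX.sect_ext fun z => ?_
          show phi z.1 L G _ = phi z.1 L G _
          exact congrArg _ (TopCat.Presheaf.germ_res_apply' H.presheaf i z.1 z.2 t) }
      (fun U a t => RefX.sect_ext fun z => by
        show phi z.1 L G _ = X.presheaf.germ U.unop z.1 z.2 a • phi z.1 L G _
        exact (congrArg _ (QCoh.germ_smul' H z.2 a t)).trans (map_smul _ _ _))⟩
  have hev : ∀ x (m : H.presheaf.stalk x), RefHull.evalStalk L G x (stk α x m) = phi x L G m := fun x m => by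
    obtain ⟨U, hU, t, rfl⟩ := TopCat.Presheaf.exists_germ_eq H.presheaf m
    erw [stk_germ α hU t, RefHull.evalStalk_germ]
    rfl
  have hft : CohB1.IsFT L := QCoh.isFT_of_isFP (QCoh.isFP_of_isFinLocFree (H23.PullPush.isFinLocFree_of_isInvertible hL))
  have hphi : ∀ x, Function.Bijective (phi x L G) := fun x => by
    haveI : (SheafHomX.ten L).IsEquivalence := AmpleVan.isEquivalence_tw hL
    haveI : IsIso ((SheafHomX.adj L).counit.app G) := inferInstance
    obtain ⟨e⟩ := H23.InvStalk.exists_stalk_equiv (X := X) hL x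
    refine bijective_curry x e ?_
    rw [LinearMap.coe_comp]
    exact Function.Bijective.comp
      (ConcreteCategory.bijective_of_isIso ((DerSch.stalkFunctor X x).map ((SheafHomX.adj L).counit.app G)))
      (ConcreteCategory.bijective_of_isIso (KFlatLib.stalkTensorIso x _ _).hom)
  haveI : IsIso α := KFlatLib.isIso_of_stalk _ fun x => by
    refine (ConcreteCategory.isIso_iff_bijective _).2 ⟨fun a b hab => (hphi x).1 ?_, fun v => ?_⟩
    · rw [← hev, ← hev]; exact congrArg _ hab
    · obtain ⟨m, hm⟩ := (hphi x).2 (RefHull.evalStalk L G x v)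
      exact ⟨m, RefX.evalStalk_injective hft x ((hev x m).trans hm)⟩
  exact ⟨asIso α⟩

end HomSh

variable {P X : Scheme.{u}} (ι : X ⟶ P) [IsClosedImmersion ι] (F : P.Modules)

local notation "π₀" => piMap ι

/-- Reduction of stalks to the closed subscheme. -/
def bar (x : X) (f : F.presheaf.stalk (ι x)) : ((Scheme.Modules.pullback ι).obj F).presheaf.stalk x :=
  ((KFlatLib.stalkPullbackIso ι x).app F).inv.hom
    (((ModuleCat.extendRestrictScalarsAdj (ι.stalkMap x).hom).unit.app ((DerSch.stalkFunctor P (ι x)).obj F)).hom f)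

theorem bar_add (x : X) (f f' : F.presheaf.stalk (ι x)) : bar ι F x (f + f') = bar ι F x f + bar ι F x f' :=
  (congrArg _ (map_add _ _ _)).trans (map_add _ _ _)

theorem bar_zero (x : X) : bar ι F x 0 = 0 := (congrArg _ (map_zero _)).trans (map_zero _)

theorem bar_smul (x : X) (a : P.presheaf.stalk (ι x)) (f : F.presheaf.stalk (ι x)) :
    bar ι F x (a • f) = (ι.stalkMap x).hom a • bar ι F x f :=
  (congrArg _ (map_smul ((ModuleCat.extendRestrictScalarsAdj (ι.stalkMap x).hom).unit.app
    ((DerSch.stalkFunctor P (ι x)).obj F)).hom a f)).trans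
    (map_smul ((KFlatLib.stalkPullbackIso ι x).app F).inv.hom ((ι.stalkMap x).hom a) _)

theorem bar_germ (x : X) {U : P.Opens} (hx : ι x ∈ U) (f : Γ(F, U)) :
    bar ι F x (F.presheaf.germ U (ι x) hx f) =
      ((Scheme.Modules.pullback ι).obj F).presheaf.germ (ι ⁻¹ᵁ U) x hx (OmegaSh.pullSect ι F U f) := by
  let Pu := (KFlatLib.stalkPullbackIso ι x).app F
  refine (ConcreteCategory.bijective_of_isIso Pu.hom).1 ?_
  refine Eq.trans ?_ (KFlatLib.stalkPullbackIso_gm ι x F U hx f).symm
  show Pu.hom.hom (Pu.inv.hom _) = _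
  rw [← LinearMap.comp_apply, ← ModuleCat.hom_comp, Iso.inv_hom_id]
  rfl

theorem bar_surjective (x : X) : Function.Surjective (bar ι F x) := by
  intro t
  let Pu := (KFlatLib.stalkPullbackIso ι x).app F
  let u₁ := ((ModuleCat.extendRestrictScalarsAdj (ι.stalkMap x).hom).unit.app ((DerSch.stalkFunctor P (ι x)).obj F)).hom
  have hu : Function.Surjective u₁ := fun z => by
    let _ := (ι.stalkMap x).hom.toAlgebra
    change (X.presheaf.stalk x) ⊗[P.presheaf.stalk (ι x)] (F.presheaf.stalk (ι x)) at z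
    induction z using TensorProduct.induction_on with
    | zero => exact ⟨0, map_zero _⟩
    | tmul b m =>
      obtain ⟨a, ha⟩ := ι.stalkMap_surjective x b
      refine ⟨a • m, (map_smul u₁ a m).trans ?_⟩
      show (ι.stalkMap x).hom a • ((1 : X.presheaf.stalk x) ⊗ₜ[P.presheaf.stalk (ι x)] m) = _
      rw [show (ι.stalkMap x).hom a = b from ha]
      show (b * 1) ⊗ₜ[P.presheaf.stalk (ι x)] m = b ⊗ₜ[P.presheaf.stalk (ι x)] m
      rw [mul_one]
    | add z w ihz ihw =>
      obtain ⟨m, hm⟩ := ihz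
      obtain ⟨m', hm'⟩ := ihw
      exact ⟨m + m', (map_add u₁ m m').trans (congrArg₂ (· + ·) hm hm')⟩
  obtain ⟨f, hf⟩ := hu (Pu.hom.hom t)
  refine ⟨f, ?_⟩
  show Pu.inv.hom (u₁ f) = t
  rw [hf, ← LinearMap.comp_apply, ← ModuleCat.hom_comp, Iso.hom_inv_id]
  rfl

theorem bar_eq_zero_iff (x : X) (f : F.presheaf.stalk (ι x)) :
    bar ι F x f = 0 ↔ f ∈ (ann π₀ (ι x) • ⊤ : Submodule (P.presheaf.stalk (ι x)) (F.presheaf.stalk (ι x))) := by
  let Pu := (KFlatLib.stalkPullbackIso ι x).app F
  letI := (ι.stalkMap x).hom.toAlgebra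
  rw [ann_piMap]
  constructor
  · intro h
    have h1 := (ConcreteCategory.bijective_of_isIso Pu.inv).1 (h.trans (map_zero Pu.inv.hom).symm)
    exact KRRReg.mem_smul_top_of_one_tmul_eq_zero (S := X.presheaf.stalk x) (ι.stalkMap_surjective x) f h1
  · intro h
    refine Submodule.smul_induction_on h (fun a ha z _ => ?_) fun a b ha hb => ?_
    · rw [bar_smul, RingHom.mem_ker.1 ha, zero_smul]
    · rw [bar_add, ha, hb, add_zero]

section Cls

variable {ι F} {r : ℕ}

theorem div_resM {U : P.Opens} {g : Fin r → Γ(P, U)} (hg : ∀ z (hz : z ∈ U), RegSeqAt g z hz) {y : P} (hy : y ∈ U) :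
    KoszulLift.Div (resM F y) (fun i => P.presheaf.germ U y hy (g i)) := fun j q s hs => by
  haveI : Injective ((res F).X q) := (injectiveResolution F).injective q
  exact div_stalk g hg hy j s hs

variable (ι F)

/-- `e` is the class of the lift of `f`. -/
def IsE {y : P} (g : Fin r → P.presheaf.stalk y) (f : F.presheaf.stalk y)
    (e : ((E ((Coh.push ι).obj (Coh.structureModule X)) r).obj F).presheaf.stalk y) : Prop :=
  ∃ s, KoszulLift.IsLift (resM F y) (resd F y) g (aug F y f) s ∧ IsCls π₀ F r y s e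

theorem killed_E {y : P} {a : P.presheaf.stalk y} (ha : a ∈ ann π₀ y)
    (e : ((E ((Coh.push ι).obj (Coh.structureModule X)) r).obj F).presheaf.stalk y) : a • e = 0 := by
  obtain ⟨s, hs, -, hk⟩ := exists_cocycle π₀ (killed_push ι _) F r e
  have h1 := hs.smul a
  rw [hk a ha] at h1
  have h0 : IsCls π₀ F r y 0 (0 : ((E ((Coh.push ι).obj (Coh.structureModule X)) r).obj F).presheaf.stalk y) :=
    ⟨0, map_zero _, map_zero _⟩
  exact h1.unique h0

variable {ι F} (c : Chart ι r) {y : P} (hy : y ∈ c.U.1)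

/-- The germs of the generators. -/
abbrev Chart.gy : Fin r → P.presheaf.stalk y := fun i => P.presheaf.germ c.U.1 y hy (c.g i)

variable (F) in
theorem Chart.exists_isE (f : F.presheaf.stalk y) : ∃ e, IsE ι F (c.gy hy) f e := by
  obtain ⟨s, hs⟩ := KoszulLift.lift_exists (resd_comp F y) (div_resM c.reg hy) (resd_aug F y f)
  obtain ⟨hk, hd⟩ := KoszulLift.lift_spec (resd_comp F y) (resd_aug F y f) hs
  obtain ⟨e, he⟩ := exists_isCls π₀ F r c.gen hy s hk hd
  exact ⟨e, s, hs, he⟩

theorem Chart.isE_unique {f : F.presheaf.stalk y}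
    {e e' : ((E ((Coh.push ι).obj (Coh.structureModule X)) r).obj F).presheaf.stalk y}
    (h : IsE ι F (c.gy hy) f e) (h' : IsE ι F (c.gy hy) f e') : e = e' := by
  obtain ⟨s, hs, he⟩ := h
  obtain ⟨s', hs', he'⟩ := h'
  have hb := KoszulLift.lift_unique (resd_comp F y) (div_resM c.reg hy) hs hs'
  have h1 := he.add (he'.smul (-1))
  rw [neg_one_smul, neg_one_smul, ← sub_eq_add_neg, ← sub_eq_add_neg] at h1
  exact sub_eq_zero.1 ((isCls_eq_zero_iff π₀ (killed_push ι _) F r c.gen hy h1).2 hb)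

variable (F) in
/-- The class of the lift, as a linear map. -/
def Chart.eMap :
    F.presheaf.stalk y →ₗ[P.presheaf.stalk y]
      ((E ((Coh.push ι).obj (Coh.structureModule X)) r).obj F).presheaf.stalk y where
  toFun f := (c.exists_isE F hy f).choose
  map_add' f f' := by
    obtain ⟨s, hs, he⟩ := (c.exists_isE F hy f).choose_spec
    obtain ⟨s', hs', he'⟩ := (c.exists_isE F hy f').choose_spec
    exact c.isE_unique hy (c.exists_isE F hy (f + f')).choose_spec
      ⟨s + s', by rw [map_add]; exact KoszulLift.lift_add hs hs', he.add he'⟩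
  map_smul' a f := by
    obtain ⟨s, hs, he⟩ := (c.exists_isE F hy f).choose_spec
    exact c.isE_unique hy (c.exists_isE F hy (a • f)).choose_spec
      ⟨a • s, by rw [map_smul]; exact KoszulLift.lift_smul a hs, he.smul a⟩

theorem Chart.eMap_eq {f : F.presheaf.stalk y}
    {e : ((E ((Coh.push ι).obj (Coh.structureModule X)) r).obj F).presheaf.stalk y}
    (h : IsE ι F (c.gy hy) f e) : c.eMap F hy f = e :=
  c.isE_unique hy (c.exists_isE F hy f).choose_spec h

theorem Chart.eMap_surjective : Function.Surjective (c.eMap F hy) := by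
  intro e
  obtain ⟨s, he, hs, hk⟩ := exists_cocycle π₀ (killed_push ι _) F r e
  have hk' : KoszulLift.Kills (c.gy hy) s := fun i => hk _ (by
    rw [c.gen y hy]; exact Ideal.subset_span ⟨i, rfl⟩)
  obtain ⟨m, hm, hl⟩ := KoszulLift.lift_surjective (resd_comp F y) (fun q s => resd_exact F y q s)
    (div_resM c.reg hy) hk' hs
  obtain ⟨f, rfl⟩ := exists_aug F y m hm
  exact ⟨f, c.eMap_eq hy ⟨s, hl, he⟩⟩

theorem Chart.eMap_eq_zero_iff (f : F.presheaf.stalk y) :
    c.eMap F hy f = 0 ↔ f ∈ (ann π₀ y • ⊤ : Submodule (P.presheaf.stalk y) (F.presheaf.stalk y)) := by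
  constructor
  · intro h
    obtain ⟨s, hs, he⟩ := (c.exists_isE F hy f).choose_spec
    obtain ⟨b, hb, hfb⟩ := KoszulLift.lift_kernel (resd_comp F y) (fun q s => resd_exact F y q s)
      (div_resM c.reg hy) (resd_aug F y f) hs ((isCls_eq_zero_iff π₀ (killed_push ι _) F r c.gen hy he).1 h)
    choose b' hb' using fun i => exists_aug F y (b i) (hb i)
    have e1 : f = ∑ i, c.gy hy i • b' i := aug_injective F y (by
      rw [hfb, map_sum]
      exact Finset.sum_congr rfl fun i _ => by rw [map_smul, hb'])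
    rw [e1]
    exact Submodule.sum_mem _ fun i _ => Submodule.smul_mem_smul
      (by rw [c.gen y hy]; exact Ideal.subset_span ⟨i, rfl⟩) Submodule.mem_top
  · intro h
    refine Submodule.smul_induction_on h (fun a ha z _ => ?_) fun a b ha hb => ?_
    · rw [map_smul, killed_E ι F ha]
    · rw [map_add, ha, hb, add_zero]

end Cls

section Indep

variable {ι} {r : ℕ}

/-- Every sequence of generators of the ideal in a local ring spreads out to a regular one. -/
theorem div_of_span [IsLocallyNoetherian P] (c : Chart ι r) {x : X} (hx : ι x ∈ c.U.1)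
    (g : Fin r → P.presheaf.stalk (ι x)) (hg : Ideal.span (Set.range g) = ann π₀ (ι x)) :
    KoszulLift.Div (resM F (ι x)) g := by
  classical
  have hreg : Reg g := reg_of_span (g := c.gy hx) (c.reg (ι x) hx)
    ((c.gen (ι x) hx).symm.trans_ne (ann_ne_top ι x)) ((c.gen (ι x) hx).symm.trans hg.symm)
  choose W hW a ha using fun i => P.presheaf.exists_germ_eq (x := ι x) (g i)
  have hyW : ι x ∈ c.U.1 ⊓ Finset.univ.inf W := ⟨hx, by
    show ι x ∈ ((Finset.univ.inf W : P.Opens) : Set P)
    simp [TopologicalSpace.Opens.coe_finset_inf, hW]⟩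
  obtain ⟨_, ⟨V, hV, rfl⟩, hxV, hVW⟩ :=
    P.isBasis_affineOpens.exists_subset_of_mem_open (show ι x ∈ c.U.1 ⊓ Finset.univ.inf W from hyW) (Opens.is_open' _)
  haveI : IsNoetherianRing Γ(P, V) := IsLocallyNoetherian.component_noetherian ⟨V, hV⟩
  let g' : Fin r → Γ(P, V) := fun i =>
    AModX.resR ((show V ≤ c.U.1 ⊓ Finset.univ.inf W from hVW).trans
      (inf_le_right.trans (Finset.inf_le (f := W) (Finset.mem_univ i)))) (a i)
  have hgerm : (fun i => P.presheaf.germ V (ι x) hxV (g' i)) = g := funext fun i => by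
    rw [RefX.germ_resR, ha]
  obtain ⟨O, hO, hOreg⟩ := exists_regSeqAt_nhd hV (g := g') hxV (by
    subst hgerm
    exact hreg)
  have := div_resM (F := F) (g := fun i => AModX.resR (inf_le_left : V ⊓ O ≤ V) (g' i))
    (fun z hz j b hb => by
      simp only [RefX.germ_resR] at hb ⊢
      exact hOreg z hz.2 hz.1 j b hb) (y := ι x) ⟨hxV, hO⟩
  rw [← hgerm]
  simp only [RefX.germ_resR] at this
  exact this

variable {L : X.Modules}
  {φ : ∀ U : X.affineOpens, (L.val.obj (op U.1)) ≃ₗ[Γ(X, U.1)]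
    ↥(⋀[Γ(X, U.1)]^r ((Omega.conormal ι).val.obj (op U.1)))}
  (hφ : ∀ (U V : X.affineOpens) (h : V.1 ≤ U.1) (e : Fin r → (Omega.conormal ι).val.obj (op U.1)),
    L.val.map (homOfLE h).op ((φ U).symm (exteriorPower.ιMulti _ r e)) =
      (φ V).symm (exteriorPower.ιMulti _ r (fun j => (Omega.conormal ι).val.map (homOfLE h).op (e j))))

variable (φ) in
/-- The germ of the wedge. -/
abbrev Chart.wx (c : Chart ι r) {x : X} (hx : ι x ∈ c.U.1) : L.presheaf.stalk x :=
  L.presheaf.germ (ι ⁻¹ᵁ c.U.1) x hx (c.w ι φ)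

include hφ in
theorem Chart.wx_basis (c : Chart ι r) {x : X} (hx : ι x ∈ c.U.1) :
    Function.Bijective fun b : X.presheaf.stalk x => b • c.wx φ hx :=
  (c.isFrame_w ι hφ).germ_bijective hx

include hφ in
/-- Two charts compare by the determinant. -/
theorem exists_rel [IsLocallyNoetherian P] (c c' : Chart ι r) {x : X} (hx : ι x ∈ c.U.1) (hx' : ι x ∈ c'.U.1) :
    ∃ k : P.presheaf.stalk (ι x), c'.wx φ hx' = (ι.stalkMap x).hom k • c.wx φ hx ∧
      ∀ f, c.eMap F hx f = k • c'.eMap F hx' f := by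
  classical
  let A := P.presheaf.stalk (ι x)
  let B := X.presheaf.stalk x
  let J := ann π₀ (ι x)
  have hJ : J = RingHom.ker (ι.stalkMap x).hom := ann_piMap ι x
  have hg : Ideal.span (Set.range (c.gy hx)) = J := (c.gen (ι x) hx).symm
  have hg' : Ideal.span (Set.range (c'.gy hx')) = J := (c'.gen (ι x) hx').symm
  have hzero : ∀ g : Fin r → A, Ideal.span (Set.range g) = J → ∀ i, g i ≠ 0 := fun g hgJ i h0 => by
    have hreg : Reg g := reg_of_span (g := c.gy hx) (c.reg (ι x) hx) (hg.trans_ne (ann_ne_top ι x))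
      (hg.trans hgJ.symm)
    have h1 := hreg i 1 (by rw [h0, mul_zero]; exact Submodule.zero_mem _)
    refine ann_ne_top ι x ((Ideal.eq_top_iff_one _).2 (hgJ.le (Ideal.span_mono ?_ h1)))
    rintro _ ⟨m, rfl⟩
    exact ⟨m.1, rfl⟩
  obtain ⟨k, hkL, hkS⟩ := KoszulLift.rel_of_span (M := resM F (ι x)) (d := resd F (ι x)) (I := J)
    (resd_comp F (ι x)) (fun g hgJ => div_of_span F c hx g hgJ) (ann_ne_top ι x) hzero hg hg'
  refine ⟨k, ?_, fun f => ?_⟩
  swap
  · obtain ⟨s, hs, he⟩ := (c.exists_isE F hx f).choose_spec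
    obtain ⟨s', hs', he'⟩ := (c'.exists_isE F hx' f).choose_spec
    have h1 := he.add ((he'.smul k).smul (-1))
    rw [neg_one_smul, neg_one_smul, ← sub_eq_add_neg, ← sub_eq_add_neg] at h1
    exact sub_eq_zero.1 ((isCls_eq_zero_iff π₀ (killed_push ι _) F r c.gen hx h1).2
      (hkS _ _ _ (resd_aug F (ι x) f) hs hs'))
  -- the classes in the conormal module
  let C := (Omega.conormal ι).presheaf.stalk x
  let b : Module.Basis (Fin r) B C := (TopDiff.basis_of_unique
    (fun i => (Omega.conormal ι).presheaf.germ (ι ⁻¹ᵁ c.U.1) x hx (c.v ι i)) (c.bijective_stalk ι hx)).choose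
  have hb : ⇑b = fun i => (Omega.conormal ι).presheaf.germ (ι ⁻¹ᵁ c.U.1) x hx (c.v ι i) :=
    (TopDiff.basis_of_unique
      (fun i => (Omega.conormal ι).presheaf.germ (ι ⁻¹ᵁ c.U.1) x hx (c.v ι i)) (c.bijective_stalk ι hx)).choose_spec
  letI : Module A B := Module.compHom _ (ι.stalkMap x).hom
  let toK : J → RingHom.ker (ι.stalkMap x).hom := fun a => ⟨a.1, hJ ▸ a.2⟩
  let Lm : AlternatingMap A J B (Fin r) :=
    { toFun := fun u => b.det fun i => lam ι x (toK (u i))
      map_update_add' := fun {inst} u i a a' => by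
        obtain rfl : inst = instDecidableEqFin r := Subsingleton.elim _ _
        have e : ∀ z : J, (fun m => lam ι x (toK (Function.update u i z m))) =
            Function.update (fun m => lam ι x (toK (u m))) i (lam ι x (toK z)) := fun z =>
          funext fun m => Function.apply_update (fun _ t => lam ι x (toK t)) u i z m
        simp only [e]
        rw [show lam ι x (toK (a + a')) = lam ι x (toK a) + lam ι x (toK a') from
          lam_add ι x (toK a) (toK a')]
        exact b.det.map_update_add _ _ _ _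
      map_update_smul' := fun {inst} u i t a => by
        obtain rfl : inst = instDecidableEqFin r := Subsingleton.elim _ _
        have e : ∀ z : J, (fun m => lam ι x (toK (Function.update u i z m))) =
            Function.update (fun m => lam ι x (toK (u m))) i (lam ι x (toK z)) := fun z =>
          funext fun m => Function.apply_update (fun _ t => lam ι x (toK t)) u i z m
        simp only [e]
        rw [show lam ι x (toK (t • a)) = (ι.stalkMap x).hom t • lam ι x (toK a) from lam_smul ι x t (toK a)]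
        exact b.det.map_update_smul _ _ _ _
      map_eq_zero_of_eq' := fun u i j hij hne =>
        b.det.map_eq_zero_of_eq _ (congrArg (fun t => lam ι x (toK t)) hij) hne }
  have hmem : ∀ i, c.gy hx i ∈ J := fun i => hg.le (Ideal.subset_span ⟨i, rfl⟩)
  have hmem' : ∀ i, c'.gy hx' i ∈ J := fun i => hg'.le (Ideal.subset_span ⟨i, rfl⟩)
  have hk : b.det (fun i => (Omega.conormal ι).presheaf.germ (ι ⁻¹ᵁ c'.U.1) x hx' (c'.v ι i)) =
      (ι.stalkMap x).hom k := by
    have h1 := hkL B Lm hmem hmem'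
    have e1 : Lm (fun i => ⟨c.gy hx i, hmem i⟩) = 1 := by
      show b.det (fun i => lam ι x (toK ⟨c.gy hx i, hmem i⟩)) = 1
      rw [show (fun i => lam ι x (toK ⟨c.gy hx i, hmem i⟩)) = ⇑b from
        (funext fun i => c.lam_germ ι hx i).trans hb.symm, b.det_self]
    have e2 : Lm (fun i => ⟨c'.gy hx' i, hmem' i⟩) =
        b.det (fun i => (Omega.conormal ι).presheaf.germ (ι ⁻¹ᵁ c'.U.1) x hx' (c'.v ι i)) :=
      congrArg b.det (funext fun i => c'.lam_germ ι hx' i)
    rw [e1, e2] at h1
    exact h1.trans (mul_one _)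
  -- the coefficients, near the point
  choose β hβ using fun i => (c.bijective_stalk ι hx).2
    ((Omega.conormal ι).presheaf.germ (ι ⁻¹ᵁ c'.U.1) x hx' (c'.v ι i))
  choose Wb hWb α hα using fun p : Fin r × Fin r => X.presheaf.exists_germ_eq (x := x) (β p.1 p.2)
  let W₀ : X.Opens := (ι ⁻¹ᵁ c.U.1 ⊓ ι ⁻¹ᵁ c'.U.1) ⊓ Finset.univ.inf Wb
  have hxW₀ : x ∈ W₀ := ⟨⟨hx, hx'⟩, by
    show x ∈ ((Finset.univ.inf Wb : X.Opens) : Set X)
    simp [TopologicalSpace.Opens.coe_finset_inf, hWb]⟩
  have hWU : W₀ ≤ ι ⁻¹ᵁ c.U.1 := inf_le_left.trans inf_le_left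
  have hWU' : W₀ ≤ ι ⁻¹ᵁ c'.U.1 := inf_le_left.trans inf_le_right
  let α₀ : Fin r → Fin r → Γ(X, W₀) := fun i j =>
    AModX.resR (inf_le_right.trans (Finset.inf_le (f := Wb) (Finset.mem_univ (i, j))) : W₀ ≤ Wb (i, j)) (α (i, j))
  have hα₀ : ∀ i j, X.presheaf.germ W₀ x hxW₀ (α₀ i j) = β i j := fun i j => by rw [RefX.germ_resR, hα]
  have hv : ∀ i, (Omega.conormal ι).presheaf.germ W₀ x hxW₀ (AModX.res (Omega.conormal ι) hWU' (c'.v ι i)) =
      (Omega.conormal ι).presheaf.germ W₀ x hxW₀ (∑ j, α₀ i j • AModX.res (Omega.conormal ι) hWU (c.v ι j)) :=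
    fun i => by
    rw [RefX.germ_res, map_sum, ← hβ i]
    exact Finset.sum_congr rfl fun j _ => by rw [QCoh.germ_smul', hα₀, RefX.germ_res]
  choose O hxO ia ib hab using fun i => TopCat.Presheaf.germ_eq (C := AddCommGrpCat.{u})
    (Omega.conormal ι).presheaf x hxW₀ hxW₀ _ _ (hv i)
  have hxV₀ : x ∈ W₀ ⊓ Finset.univ.inf O := ⟨hxW₀, by
    show x ∈ ((Finset.univ.inf O : X.Opens) : Set X)
    simp [TopologicalSpace.Opens.coe_finset_inf, hxO]⟩
  obtain ⟨_, ⟨V, hV, rfl⟩, hxV, hVle⟩ := X.isBasis_affineOpens.exists_subset_of_mem_open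
    (show x ∈ W₀ ⊓ Finset.univ.inf O from hxV₀) (Opens.is_open' _)
  have hVW : V ≤ W₀ := (show V ≤ W₀ ⊓ Finset.univ.inf O from hVle).trans inf_le_left
  have hvV : ∀ i, AModX.res (Omega.conormal ι) (hVW.trans hWU') (c'.v ι i) =
      ∑ j, AModX.resR hVW (α₀ i j) • AModX.res (Omega.conormal ι) (hVW.trans hWU) (c.v ι j) := fun i => by
    have h1 : AModX.res (Omega.conormal ι) (ia i).le (AModX.res (Omega.conormal ι) hWU' (c'.v ι i)) =
        AModX.res (Omega.conormal ι) (ib i).le (∑ j, α₀ i j • AModX.res (Omega.conormal ι) hWU (c.v ι j)) := hab i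
    have h2 := congrArg (AModX.res (Omega.conormal ι)
      (((show V ≤ W₀ ⊓ Finset.univ.inf O from hVle).trans inf_le_right).trans
        (Finset.inf_le (f := O) (Finset.mem_univ i)) : V ≤ O i)) h1
    simp only [AModX.res_res, map_sum, AModX.res_smul, AModX.resR_resR] at h2
    exact h2
  have hw : AModX.res L (hVW.trans hWU') (c'.w ι φ) =
      Matrix.det (Matrix.of fun i j => AModX.resR hVW (α₀ i j)) • AModX.res L (hVW.trans hWU) (c.w ι φ) := by
    rw [c'.res_w ι hφ hV, c.res_w ι hφ hV]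
    simp only [hvV]
    rw [alternating_sum]
    exact (φ ⟨V, hV⟩).symm.map_smul _ _
  have hdet : b.det (fun i => (Omega.conormal ι).presheaf.germ (ι ⁻¹ᵁ c'.U.1) x hx' (c'.v ι i)) =
      Matrix.det (Matrix.of β) := by
    rw [show (fun i => (Omega.conormal ι).presheaf.germ (ι ⁻¹ᵁ c'.U.1) x hx' (c'.v ι i)) =
      fun i => ∑ j, β i j • b j from funext fun i => by rw [hb]; exact (hβ i).symm]
    refine (alternating_sum b.det (⇑b) β).trans ?_
    rw [b.det_self, smul_eq_mul, mul_one]
  show L.presheaf.germ _ x hx' (c'.w ι φ) = _ • L.presheaf.germ _ x hx (c.w ι φ)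
  rw [← RefX.germ_res L (hVW.trans hWU') hxV, hw, QCoh.germ_smul', RefX.germ_res, ← hk, hdet]
  congr 1
  refine ((X.presheaf.germ V x hxV).hom.map_det _).trans (congrArg Matrix.det (Matrix.ext fun i j => ?_))
  show X.presheaf.germ V x hxV (AModX.resR hVW (α₀ i j)) = β i j
  rw [RefX.germ_resR, hα₀]

variable (φ)

/-- The linear map on the top exterior power attached to a class, in a chart. -/
def IsTheta (c : Chart ι r) {x : X} (hx : ι x ∈ c.U.1)
    (e : ((E ((Coh.push ι).obj (Coh.structureModule X)) r).obj F).presheaf.stalk (ι x))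
    (l : RefHull.StalkHom L ((Scheme.Modules.pullback ι).obj F) x) : Prop :=
  ∀ f, c.eMap F hx f = e → l (c.wx φ hx) = bar ι F x f

variable {φ}

include hφ in
theorem exists_isTheta (c : Chart ι r) {x : X} (hx : ι x ∈ c.U.1)
    (e : ((E ((Coh.push ι).obj (Coh.structureModule X)) r).obj F).presheaf.stalk (ι x)) :
    ∃! l, IsTheta F φ c hx e l := by
  obtain ⟨f, hf⟩ := c.eMap_surjective (F := F) hx e
  let eL : X.presheaf.stalk x ≃ₗ[X.presheaf.stalk x] L.presheaf.stalk x :=
    LinearEquiv.ofBijective (LinearMap.toSpanSingleton _ _ (c.wx φ hx)) (c.wx_basis hφ hx)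
  let l : RefHull.StalkHom L ((Scheme.Modules.pullback ι).obj F) x :=
    (LinearMap.toSpanSingleton _ _ (bar ι F x f)).comp eL.symm.toLinearMap
  have hw : eL.symm (c.wx φ hx) = 1 := eL.injective (by
    rw [eL.apply_symm_apply]
    exact (one_smul (X.presheaf.stalk x) (c.wx φ hx)).symm)
  have hl : l (c.wx φ hx) = bar ι F x f := by
    show (eL.symm (c.wx φ hx)) • bar ι F x f = _
    rw [hw, one_smul]
  refine ⟨l, fun f' hf' => ?_, fun l' hl' => LinearMap.ext fun v => ?_⟩
  · rw [hl]
    have h0 : c.eMap F hx (f - f') = 0 := by rw [map_sub, hf, hf', sub_self]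
    have h1 := (bar_eq_zero_iff ι F x _).2 ((c.eMap_eq_zero_iff hx _).1 h0)
    rw [sub_eq_add_neg, bar_add, ← neg_one_smul (P.presheaf.stalk (ι x)) f', bar_smul, map_neg, map_one,
      neg_one_smul, ← sub_eq_add_neg] at h1
    exact sub_eq_zero.1 h1
  · obtain ⟨b, rfl⟩ := (c.wx_basis hφ hx).2 v
    dsimp only
    rw [map_smul, map_smul, hl' f hf, hl]

include hφ in
theorem IsTheta.indep [IsLocallyNoetherian P] {c c' : Chart ι r} {x : X} {hx : ι x ∈ c.U.1} (hx' : ι x ∈ c'.U.1)
    {e : ((E ((Coh.push ι).obj (Coh.structureModule X)) r).obj F).presheaf.stalk (ι x)}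
    {l : RefHull.StalkHom L ((Scheme.Modules.pullback ι).obj F) x} (h : IsTheta F φ c hx e l) :
    IsTheta F φ c' hx' e l := by
  intro f' hf'
  obtain ⟨k, hk, hke⟩ := exists_rel F hφ c c' hx hx'
  obtain ⟨f₀, hf₀⟩ := c.eMap_surjective (F := F) hx e
  have h0 : c.eMap F hx (f' - k • f₀) = 0 := by
    rw [map_sub, map_smul, hf₀, hke f', hf', sub_self]
  have h1 := (bar_eq_zero_iff ι F x _).2 ((c.eMap_eq_zero_iff hx _).1 h0)
  rw [sub_eq_add_neg, bar_add, ← neg_one_smul (P.presheaf.stalk (ι x)) (k • f₀), bar_smul, map_neg, map_one,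
    neg_one_smul, ← sub_eq_add_neg, bar_smul] at h1
  rw [hk, map_smul, h f₀ hf₀]
  exact (sub_eq_zero.1 h1).symm

end Indep

section Spread

variable {r : ℕ}

theorem exists_lift_section {y : P} {U : P.Opens} (hy : y ∈ U) (f : Γ(F, U)) :
    ∀ {n : ℕ} (g : Fin n → Γ(P, U)) (s : resM F y n),
      KoszulLift.IsLift (resM F y) (resd F y) (fun i => P.presheaf.germ U y hy (g i))
        (aug F y (F.presheaf.germ U y hy f)) s →
      ∃ (W : P.Opens) (hW : W ≤ U) (hyW : y ∈ W) (t : Γ((res F).X n, W)),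
        ((res F).X n).presheaf.germ W y hyW t = s ∧
        ∀ z (hz : z ∈ W), KoszulLift.IsLift (resM F z) (resd F z) (fun i => P.presheaf.germ U z (hW hz) (g i))
          (aug F z (F.presheaf.germ U z (hW hz) f)) (((res F).X n).presheaf.germ W z hz t) := by
  intro n
  induction n with
  | zero =>
    intro g s hs
    simp only [KoszulLift.IsLift] at hs ⊢
    refine ⟨U, le_rfl, hy, ((injectiveResolution F).ι.f 0).app U f, ?_, fun z hz => ?_⟩
    · rw [hs]; exact (stk_germ ((injectiveResolution F).ι.f 0) hy f).symm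
    · exact (stk_germ ((injectiveResolution F).ι.f 0) hz f).symm
  | succ n ih =>
    rintro g _ ⟨s₀, hs₀, t, ht, hts, rfl⟩
    obtain ⟨W₀, hW₀, hyW₀, t₀, ht₀, hall⟩ := ih (Fin.tail g) s₀ hs₀
    obtain ⟨W₁, hyW₁, τ, rfl⟩ := TopCat.Presheaf.exists_germ_eq ((res F).X n).presheaf t
    let W := W₀ ⊓ W₁
    have hyW : y ∈ W := ⟨hyW₀, hyW₁⟩
    have hWU : W ≤ U := inf_le_left.trans hW₀
    let τ' : Γ((res F).X n, W) := AModX.res _ inf_le_right τ
    let m : Fin (n + 1) → Γ((res F).X n, W) := fun i =>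
      AModX.resR hWU (g i) • τ' - if i = 0 then AModX.res _ inf_le_left t₀ else 0
    have hm : ∀ i, ((res F).X n).presheaf.germ W y hyW (m i) = 0 := fun i => by
      show _ = 0
      rw [map_sub, QCoh.germ_smul', RefX.germ_resR, RefX.germ_res]
      refine Fin.cases ?_ (fun i => ?_) i
      · rw [if_pos rfl, RefX.germ_res, ht₀, sub_eq_zero]
        exact hts
      · rw [if_neg (Fin.succ_ne_zero i), map_zero, sub_zero]
        exact ht i
    choose O hyO ia ib hab using fun i => TopCat.Presheaf.germ_eq (C := AddCommGrpCat.{u})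
      ((res F).X n).presheaf y hyW hyW (m i) 0 ((hm i).trans (map_zero _).symm)
    let V := W ⊓ Finset.univ.inf O
    have hyV : y ∈ V := ⟨hyW, by
      show y ∈ ((Finset.univ.inf O : P.Opens) : Set P)
      simp [TopologicalSpace.Opens.coe_finset_inf, hyO]⟩
    let τV : Γ((res F).X n, V) := AModX.res _ (inf_le_left.trans inf_le_right) τ
    refine ⟨V, inf_le_left.trans hWU, hyV, ((res F).d n (n + 1)).app V τV, ?_, fun z hz => ?_⟩
    · rw [← stk_germ ((res F).d n (n + 1)) hyV, RefX.germ_res]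
    · have hzW : z ∈ W := hz.1
      have hmz : ∀ i, ((res F).X n).presheaf.germ W z hzW (m i) = 0 := fun i => by
        have hzO : z ∈ O i := (Finset.inf_le (f := O) (Finset.mem_univ i) : Finset.univ.inf O ≤ O i) hz.2
        have h1 : AModX.res ((res F).X n) (ia i).le (m i) = 0 := (hab i).trans (map_zero _)
        rw [← RefX.germ_res ((res F).X n) (ia i).le hzO, h1, map_zero]
      refine ⟨((res F).X n).presheaf.germ W₀ z hzW.1 t₀, hall z hzW.1,
        ((res F).X n).presheaf.germ W₁ z hzW.2 τ, fun i => ?_, ?_, ?_⟩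
      · have h1 := hmz i.succ
        rw [map_sub, QCoh.germ_smul', RefX.germ_resR, RefX.germ_res, if_neg (Fin.succ_ne_zero i), map_zero,
          sub_zero] at h1
        exact h1
      · have h1 := hmz 0
        rw [map_sub, QCoh.germ_smul', RefX.germ_resR, RefX.germ_res, if_pos rfl, RefX.germ_res, sub_eq_zero] at h1
        exact h1
      · rw [← stk_germ ((res F).d n (n + 1)) hz, RefX.germ_res]

end Spread

section Main

variable {r : ℕ} {ι}

theorem exists_eMap_section' (c : Chart ι r) {y : P} {U : P.Opens} (hy : y ∈ U) (hU : U ≤ c.U.1) (f : Γ(F, U)) :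
    ∃ (W : P.Opens) (hW : W ≤ U) (t : Γ((E ((Coh.push ι).obj (Coh.structureModule X)) r).obj F, W)), y ∈ W ∧
      ∀ z (hz : z ∈ W), c.eMap F (hU (hW hz)) (F.presheaf.germ U z (hW hz) f) =
        ((E ((Coh.push ι).obj (Coh.structureModule X)) r).obj F).presheaf.germ W z hz t := by
  obtain ⟨s, hs, he⟩ := (c.exists_isE F (hU hy) (F.presheaf.germ U y hy f)).choose_spec
  let g : Fin r → Γ(P, U) := fun i => AModX.resR hU (c.g i)
  have hgg : ∀ z (hz : z ∈ U), (fun i => P.presheaf.germ U z hz (g i)) = c.gy (y := z) (hU hz) :=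
    fun z hz => funext fun i => RefX.germ_resR _ hz _
  obtain ⟨W₀, hW₀, hyW₀, τ, hτ, hall⟩ := exists_lift_section F hy f g s (by rw [hgg]; exact hs)
  subst hτ
  obtain ⟨W, hW, t, hyW, ht⟩ := exists_cls_section π₀ F r hyW₀ τ he
  refine ⟨W, hW.trans hW₀, t, hyW, fun z hz => c.eMap_eq _ ⟨_, ?_, ht z hz⟩⟩
  have h1 := hall z (hW hz)
  rw [hgg] at h1
  exact h1

/-- The fundamental isomorphism, onto the sheaf Hom, from charts. -/
theorem nonempty_E_iso_homSh_of_charts [IsLocallyNoetherian P] (ι : X ⟶ P) [IsClosedImmersion ι] {r : ℕ}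
    (hι : ∀ x : X, ∃ c : Chart ι r, ι x ∈ c.U.1) (F : P.Modules) {L : X.Modules}
    (hL : ExtPow.IsExtPow r (Omega.conormal ι) L) :
    PicF.IsInvertible L ∧
    Nonempty ((E ((Coh.push ι).obj (Coh.structureModule X)) r).obj F ≅
      (Coh.push ι).obj (RefHull.homSh L ((Scheme.Modules.pullback ι).obj F))) := by
  classical
  obtain ⟨φ, hφ⟩ := hL
  choose ch hch using hι
  have hinv : PicF.IsInvertible L :=
    InvX.isInvertible_of_frames fun x => ⟨_, hch x, _, (ch x).isFrame_w ι hφ⟩
  refine ⟨hinv, ?_⟩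
  have hft : CohB1.IsFT L := QCoh.isFT_of_isFP (QCoh.isFP_of_isFinLocFree (H23.PullPush.isFinLocFree_of_isInvertible hinv))
  let Es := (E ((Coh.push ι).obj (Coh.structureModule X)) r).obj F
  let G := (Scheme.Modules.pullback ι).obj F
  let θ : ∀ x : X, Es.presheaf.stalk (ι x) → RefHull.StalkHom L G x := fun x e =>
    (exists_isTheta F hφ (ch x) (hch x) e).choose
  have hθ : ∀ (c : Chart ι r) (x : X) (hx : ι x ∈ c.U.1) e, IsTheta F φ c hx e (θ x e) := fun c x hx e =>
    IsTheta.indep F hφ hx (exists_isTheta F hφ (ch x) (hch x) e).choose_spec.1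
  have huniq : ∀ (x : X) e l, IsTheta F φ (ch x) (hch x) e l → θ x e = l := fun x e l hl =>
    ((exists_isTheta F hφ (ch x) (hch x) e).choose_spec.2 l hl).symm
  have θadd : ∀ x e e', θ x (e + e') = θ x e + θ x e' := fun x e e' => huniq x _ _ fun f hf => by
    obtain ⟨f₁, h₁⟩ := (ch x).eMap_surjective (F := F) (hch x) e
    have h₂ : (ch x).eMap F (hch x) (f - f₁) = e' := by rw [map_sub, hf, h₁, add_sub_cancel_left]
    rw [LinearMap.add_apply, hθ _ x (hch x) e f₁ h₁, hθ _ x (hch x) e' _ h₂, ← bar_add, add_sub_cancel]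
  have θsmul : ∀ x (a : P.presheaf.stalk (ι x)) e, θ x (a • e) = (ι.stalkMap x).hom a • θ x e :=
    fun x a e => huniq x _ _ fun f hf => by
    obtain ⟨f₁, h₁⟩ := (ch x).eMap_surjective (F := F) (hch x) e
    have h0 : (ch x).eMap F (hch x) (f - a • f₁) = 0 := by rw [map_sub, map_smul, hf, h₁, sub_self]
    have h1 := (bar_eq_zero_iff ι F x _).2 (((ch x).eMap_eq_zero_iff (hch x) _).1 h0)
    rw [sub_eq_add_neg, bar_add, ← neg_one_smul (P.presheaf.stalk (ι x)) (a • f₁), bar_smul, map_neg, map_one,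
      neg_one_smul, ← sub_eq_add_neg, bar_smul] at h1
    rw [LinearMap.smul_apply, hθ _ x (hch x) e f₁ h₁]
    exact (sub_eq_zero.1 h1).symm
  have θzero : ∀ x, θ x 0 = 0 := fun x => by
    have h := θadd x 0 0
    rw [add_zero] at h
    exact left_eq_add.1 h
  let fam : ∀ V : P.Opens, Γ(Es, V) → Γ(RefHull.homSh L G, ι ⁻¹ᵁ V) := fun V e =>
    ⟨fun x => θ x.1 (Es.presheaf.germ V (ι x.1) x.2 e), fun V' i m x => by
      obtain ⟨x, hx⟩ := x
      have hxV : ι x ∈ V := i.le hx
      let c := ch x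
      let y := ι x
      have hyc : y ∈ c.U.1 := hch x
      obtain ⟨f, hf⟩ := c.eMap_surjective (F := F) hyc (Es.presheaf.germ V y hxV e)
      obtain ⟨U₀, hyU₀, f₀, rfl⟩ := TopCat.Presheaf.exists_germ_eq F.presheaf f
      let U := c.U.1 ⊓ U₀
      have hyU : y ∈ U := ⟨hyc, hyU₀⟩
      obtain ⟨W, hW, t, hyW, ht⟩ := exists_eMap_section' F c hyU inf_le_left (AModX.res F inf_le_right f₀)
      have hte : Es.presheaf.germ W y hyW t = Es.presheaf.germ V y hxV e := by
        rw [← ht y hyW, RefX.germ_res]; exact hf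
      obtain ⟨O, hyO, ja, jb, hjab⟩ := TopCat.Presheaf.germ_eq (C := AddCommGrpCat.{u}) Es.presheaf y hyW hxV _ _ hte
      have hcW : O ≤ c.U.1 := ja.le.trans (hW.trans inf_le_left)
      obtain ⟨ρ, hρ⟩ := ((c.isFrame_w ι hφ) (ι ⁻¹ᵁ O ⊓ V') (inf_le_left.trans (fun p hp => hcW hp))).2
        (AModX.res L inf_le_right m)
      refine ⟨ι ⁻¹ᵁ O ⊓ V', ⟨hyO, hx⟩, homOfLE inf_le_right,
        ρ • AModX.res G (inf_le_left.trans (fun p hp => (hW.trans inf_le_right) (ja.le hp)))
          (OmegaSh.pullSect ι F U₀ f₀), fun p => ?_⟩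
      obtain ⟨p, hp⟩ := p
      have hpc : ι p ∈ c.U.1 := hcW hp.1
      show θ p (Es.presheaf.germ V (ι p) _ e) (L.presheaf.germ V' p _ m) = _
      have he : Es.presheaf.germ V (ι p) (jb.le hp.1) e = Es.presheaf.germ W (ι p) (ja.le hp.1) t := by
        rw [← RefX.germ_res Es ja.le hp.1, ← RefX.germ_res Es jb.le hp.1]
        exact congrArg _ hjab.symm
      rw [← RefX.germ_res L (inf_le_right : ι ⁻¹ᵁ O ⊓ V' ≤ V') hp, ← hρ, QCoh.germ_smul', RefX.germ_res,
        map_smul, he, ← ht (ι p) (ja.le hp.1), RefX.germ_res,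
        show θ p (c.eMap F hpc (F.presheaf.germ U₀ (ι p) _ f₀)) (c.wx φ hpc) = _ from hθ c p hpc _ _ rfl,
        bar_germ, QCoh.germ_smul', RefX.germ_res]⟩
  let Θ : Es ⟶ (Coh.push ι).obj (RefHull.homSh L G) :=
    ⟨PresheafOfModules.homMk
      { app := fun V => AddCommGrpCat.ofHom
          { toFun := fun e => (show Γ((Coh.push ι).obj (RefHull.homSh L G), V.unop) from fam V.unop e)
            map_zero' := RefX.sect_ext fun z => by
              show θ z.1 _ = 0
              rw [map_zero]; exact θzero _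
            map_add' := fun a b => RefX.sect_ext fun z => by
              show θ z.1 _ = θ z.1 _ + θ z.1 _
              rw [map_add]; exact θadd _ _ _ }
        naturality := fun {U V} i => by
          ext e
          refine RefX.sect_ext fun z => ?_
          show θ z.1 _ = θ z.1 _
          exact congrArg _ (TopCat.Presheaf.germ_res_apply' Es.presheaf i (ι z.1) z.2 e) }
      (fun V a e => RefX.sect_ext fun z => by
        show θ z.1 _ = X.presheaf.germ (ι ⁻¹ᵁ V.unop) z.1 z.2 (ι.app V.unop a) • θ z.1 _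
        rw [← Scheme.Hom.germ_stalkMap_apply]
        exact (congrArg _ (QCoh.germ_smul' Es z.2 a e)).trans (θsmul _ _ _))⟩
  haveI : IsIso Θ := KFlatLib.isIso_of_stalk _ fun y => by
    by_cases hy : y ∈ Set.range ι
    swap
    · have hE : ∀ e : Es.presheaf.stalk y, e = 0 := fun e => by
        have h := killed_E ι F (a := (1 : P.presheaf.stalk y)) (by rw [ann_eq_top ι hy]; trivial) e
        rwa [one_smul] at h
      haveI : Subsingleton (Es.presheaf.stalk y) := ⟨fun a b => (hE a).trans (hE b).symm⟩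
      haveI := H23.ClosedPushLen.subsingleton_stalk ι (RefHull.homSh L G) hy
      exact (ConcreteCategory.isIso_iff_bijective _).2
        ⟨fun a b _ => Subsingleton.elim (α := Es.presheaf.stalk y) a b, fun v => ⟨0,
          Subsingleton.elim (α := ((Coh.push ι).obj (RefHull.homSh L G)).presheaf.stalk y) _ v⟩⟩
    obtain ⟨x, rfl⟩ := hy
    refine (ConcreteCategory.isIso_iff_bijective _).2 ⟨(injective_iff_map_eq_zero _).2 fun e he => ?_, fun v => ?_⟩
    · obtain ⟨V, hV, e, rfl⟩ := TopCat.Presheaf.exists_germ_eq Es.presheaf e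
      have h1 : ((Coh.push ι).obj (RefHull.homSh L G)).presheaf.germ V (ι x) hV (Θ.app V e) = 0 :=
        (stk_germ Θ hV e).symm.trans he
      obtain ⟨O, hxO, ja, jb, hab⟩ := TopCat.Presheaf.germ_eq (C := AddCommGrpCat.{u})
        ((Coh.push ι).obj (RefHull.homSh L G)).presheaf (ι x) hV hV _ 0 (h1.trans (map_zero _).symm)
      have h2 := congrArg (fun z : Γ(RefHull.homSh L G, ι ⁻¹ᵁ O) => z.1 ⟨x, hxO⟩) (hab.trans (map_zero _))
      have h3 : θ x (Es.presheaf.germ V (ι x) hV e) = 0 := h2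
      obtain ⟨f, hf⟩ := (ch x).eMap_surjective (F := F) (hch x) (Es.presheaf.germ V (ι x) hV e)
      have h4 := hθ _ x (hch x) _ f hf
      rw [h3, LinearMap.zero_apply] at h4
      rw [← hf]
      exact ((ch x).eMap_eq_zero_iff (hch x) f).2 ((bar_eq_zero_iff ι F x f).1 h4.symm)
    · obtain ⟨V, hV, σ, rfl⟩ := TopCat.Presheaf.exists_germ_eq
        ((Coh.push ι).obj (RefHull.homSh L G)).presheaf v
      let l : RefHull.StalkHom L G x := (show Γ(RefHull.homSh L G, ι ⁻¹ᵁ V) from σ).1 ⟨x, hV⟩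
      obtain ⟨f, hf⟩ := bar_surjective ι F x (l ((ch x).wx φ (hch x)))
      let e := (ch x).eMap F (hch x) f
      have hl : θ x e = l := by
        refine huniq x e l fun f' hf' => ?_
        rw [← hf]
        have h0 : (ch x).eMap F (hch x) (f - f') = 0 := by rw [map_sub, hf']; exact sub_self e
        have h1 := (bar_eq_zero_iff ι F x _).2 (((ch x).eMap_eq_zero_iff (hch x) _).1 h0)
        rw [sub_eq_add_neg, bar_add, ← neg_one_smul (P.presheaf.stalk (ι x)) f', bar_smul, map_neg, map_one,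
          neg_one_smul, ← sub_eq_add_neg] at h1
        exact sub_eq_zero.1 h1
      refine ⟨e, ?_⟩
      obtain ⟨W, hW, e', he'⟩ := TopCat.Presheaf.exists_germ_eq Es.presheaf e
      let D := W ⊓ V
      have hxD : ι x ∈ D := ⟨hW, hV⟩
      let s₁ : Γ(RefHull.homSh L G, ι ⁻¹ᵁ D) := fam D (AModX.res Es inf_le_left e')
      let s₂ : Γ(RefHull.homSh L G, ι ⁻¹ᵁ D) :=
        (show Γ((Coh.push ι).obj (RefHull.homSh L G), D) from AModX.res _ (inf_le_right : D ≤ V) σ)
      have hs : (RefHull.homSh L G).presheaf.germ (ι ⁻¹ᵁ D) x hxD s₁ =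
          (RefHull.homSh L G).presheaf.germ (ι ⁻¹ᵁ D) x hxD s₂ := by
        refine RefX.evalStalk_injective hft x ?_
        rw [RefHull.evalStalk_germ, RefHull.evalStalk_germ]
        show θ x (Es.presheaf.germ D (ι x) hxD _) = l
        rw [RefX.germ_res, he', hl]
      obtain ⟨O, hxO, ja, jb, hab⟩ := TopCat.Presheaf.germ_eq (C := AddCommGrpCat.{u})
        (RefHull.homSh L G).presheaf x hxD hxD _ _ hs
      obtain ⟨O', hO', hOO'⟩ := ι.isEmbedding.isInducing.isOpen_iff.mp O.2
      let D' : P.Opens := D ⊓ ⟨O', hO'⟩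
      have hxD' : ι x ∈ D' := ⟨hxD, (Set.ext_iff.mp hOO' x).mpr hxO⟩
      have hDO : ι ⁻¹ᵁ D' ≤ O := fun z hz => (Set.ext_iff.mp hOO' z).mp hz.2
      have hkey : AModX.res ((Coh.push ι).obj (RefHull.homSh L G)) (inf_le_left : D' ≤ D)
          (Θ.app D (AModX.res Es inf_le_left e')) =
          AModX.res ((Coh.push ι).obj (RefHull.homSh L G)) (inf_le_left : D' ≤ D)
            (AModX.res _ (inf_le_right : D ≤ V) σ) := by
        refine RefX.sect_ext (W := ι ⁻¹ᵁ D') fun z => ?_
        exact congrArg (fun q : Γ(RefHull.homSh L G, O) => q.1 ⟨z.1, hDO z.2⟩) hab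
      rw [← he', ← RefX.germ_res Es (inf_le_left : D ≤ W) hxD, ← RefX.germ_res _ (inf_le_right : D ≤ V) hxD σ]
      refine (stk_germ Θ hxD _).trans ?_
      rw [← RefX.germ_res _ (inf_le_left : D' ≤ D) hxD', hkey, RefX.germ_res]
  exact ⟨asIso Θ⟩

/-- The fundamental isomorphism, onto the sheaf Hom. -/
theorem nonempty_E_iso_homSh [IsLocallyNoetherian P] (ι : X ⟶ P) [IsClosedImmersion ι] {r : ℕ}
    (hι : RegImm.IsRegularImmersionOfCodim RegImm.Kind.regular r ι) (F : P.Modules) {L : X.Modules}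
    (hL : ExtPow.IsExtPow r (Omega.conormal ι) L) :
    PicF.IsInvertible L ∧
    Nonempty ((E ((Coh.push ι).obj (Coh.structureModule X)) r).obj F ≅
      (Coh.push ι).obj (RefHull.homSh L ((Scheme.Modules.pullback ι).obj F))) :=
  nonempty_E_iso_homSh_of_charts ι (exists_chart ι hι) F hL

end Main

end Groth.Agent.ExtShX
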