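import Groth.Agent.ExtShX.Adjunction
import Groth.Agent.ExtShX.KoszulGlobal

/-!
# `Ext^c(ι_* O, ω_P) ≅ ι_* ω_X` for smooth schemes
-/

set_option linter.style.haveILetI false
set_option linter.unusedSectionVars false
set_option backward.isDefEq.respectTransparency false
set_option backward.isDefEq.respectTransparency.types false
set_option maxHeartbeats 1000000

universe u

open CategoryTheory CategoryTheory.Limits AlgebraicGeometry TopologicalSpace Opposite

noncomputable section

namespace Groth.Agent.ExtShX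

theorem nonempty_homSh_cancel {X : Scheme.{u}} {L A G : X.Modules} (hL : PicF.IsInvertible L)
    (e : G ≅ CohB1.tensorMod A L) : Nonempty (RefHull.homSh L G ≅ A) := by
  obtain ⟨h⟩ := nonempty_hom_iso_homSh hL G
  haveI : (SheafHomX.ten L).IsEquivalence := AmpleVan.isEquivalence_tw hL
  haveI : IsIso ((SheafHomX.adj L).unit.app A) := inferInstance
  exact ⟨h.symm ≪≫ (SheafHomX.hom L).mapIso e ≪≫ (asIso ((SheafHomX.adj L).unit.app A)).symm⟩

/-- The fundamental isomorphism for smooth schemes. -/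
theorem nonempty_E_iso_canon {S P X : Scheme.{u}} [IsLocallyNoetherian P] (g : P ⟶ S) (ι : X ⟶ P)
    [IsClosedImmersion ι] {n r : ℕ} [SmoothOfRelativeDimension n g] [SmoothOfRelativeDimension r (ι ≫ g)]
    [QuasiSeparated g] [QuasiSeparated (ι ≫ g)] {ΩP : P.Modules} (hΩP : ExtPow.IsExtPow n (Omega.sheaf g) ΩP)
    {ΩX : X.Modules} (hΩX : ExtPow.IsExtPow r (Omega.sheaf (ι ≫ g)) ΩX) :
    Nonempty ((E ((Coh.push ι).obj (Coh.structureModule X)) (n - r)).obj ΩP ≅ (Coh.push ι).obj ΩX) := by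
  have hι := regularOfCodim_smooth g ι (n := n) (m := r)
  have hr := isFinLocFreeOfRank_conormal ι (exists_chart ι hι)
  have hL := ExtPowSh.isExtPow (Omega.conormal ι) (n - r)
    (QCoh.isQCoh_of_isFinLocFree (KZ.CycleClass.isFinLocFree_of_rank hr))
  obtain ⟨hinv, ⟨e⟩⟩ := nonempty_E_iso_homSh ι hι ΩP hL
  obtain ⟨a⟩ : Nonempty (RefHull.homSh (ExtPowSh.L (Omega.conormal ι) (n - r))
      ((Scheme.Modules.pullback ι).obj ΩP) ≅ ΩX) := by
    by_cases hnr : r ≤ n
    · obtain ⟨c⟩ := nonempty_adjunction g ι hnr hΩP hΩX hL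
      exact nonempty_homSh_cancel hinv c
    · haveI : IsEmpty X := ⟨fun y => hnr (le_of_chart g ι y)⟩
      haveI : IsIso (0 : RefHull.homSh (ExtPowSh.L (Omega.conormal ι) (n - r))
          ((Scheme.Modules.pullback ι).obj ΩP) ⟶ ΩX) := KFlatLib.isIso_of_stalk _ fun y => isEmptyElim y
      exact ⟨asIso 0⟩
  exact ⟨e ≪≫ (Coh.push ι).mapIso a⟩

end Groth.Agent.ExtShX
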