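import Mathlib

/-!
# Wedges of differentials of homogeneous coordinates
-/

set_option linter.style.haveILetI false

universe u

open Matrix

noncomputable section

namespace Groth.Agent.ExtShX.DetAlg

variable {R Ω : Type u} [CommRing R] [AddCommGroup Ω] [Module R Ω] {n : ℕ}

/-- The signed wedge of the differentials of the coordinates other than `i`. -/
def wedge (d : R → Ω) (a : Fin (n + 1) → R) (i : Fin (n + 1)) : ↥(⋀[R]^n Ω) :=
  ((-1 : R) ^ (i : ℕ)) • exteriorPower.ιMulti R n (fun k => d (a (i.succAbove k)))

/-- Coordinates and differentials. -/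
def jac (b : Module.Basis (Fin n) R Ω) (d : R → Ω) (a : Fin (n + 1) → R) : Matrix (Fin (n + 1)) (Fin (n + 1)) R :=
  Matrix.of fun j => Fin.cons (a j) fun m => b.repr (d (a j)) m

variable (b : Module.Basis (Fin n) R Ω) (d : R →+ Ω) (hd : ∀ x y, d (x * y) = x • d y + y • d x)

include hd in
theorem d_one : d 1 = 0 := by simpa using hd 1 1

include hd in
theorem det_jac {a : Fin (n + 1) → R} {i : Fin (n + 1)} (hi : a i = 1) :
    (jac b d a).det = exteriorPower.alternatingMapLinearEquiv b.det (wedge d a i) := by
  rw [wedge, map_smul, exteriorPower.alternatingMapLinearEquiv_apply_ιMulti, Module.Basis.det_apply,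
    Matrix.det_succ_row _ i, Finset.sum_eq_single (0 : Fin (n + 1))]
  · simp only [jac, Matrix.of_apply, Fin.cons_zero, hi, mul_one, Fin.val_zero, add_zero, smul_eq_mul]
    congr 1
    rw [← Matrix.det_transpose (M := b.toMatrix fun k => d (a (i.succAbove k)))]
    congr 1
  · intro m _ hm
    obtain ⟨m, rfl⟩ := Fin.exists_succ_eq.2 hm
    simp [jac, hi, d_one d hd]
  · simp

theorem det_addCol {ν : Type} [Fintype ν] [DecidableEq ν] (B : Matrix ν ν R) (η : ν → R) (k : ν) (hk : η k = 0) :
    (Matrix.of fun i j => B i j + η j * B i k).det = B.det := by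
  rw [← Matrix.det_transpose, ← Matrix.det_transpose (M := B)]
  exact Matrix.det_eq_of_forall_row_eq_smul_add_const η k hk fun i j => rfl

include hd in
theorem det_jac_smul {a a' : Fin (n + 1) → R} {c c' : R} (hc : c * c' = 1) (ha : ∀ j, a' j = c * a j) :
    (jac b d a').det = c ^ (n + 1) * (jac b d a).det := by
  let η : Fin (n + 1) → R := Fin.cons 0 fun m => c' * b.repr (d c) m
  have h : jac b d a' = c • Matrix.of fun j k => jac b d a j k + η k * jac b d a j 0 := by
    ext j k
    rw [Matrix.smul_apply, smul_eq_mul]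
    induction k using Fin.cases with
    | zero => simp [jac, η, ha]
    | succ m =>
      simp only [jac, η, Matrix.of_apply, Fin.cons_succ, Fin.cons_zero, ha, hd, map_add, map_smul,
        Finsupp.add_apply, Finsupp.smul_apply, smul_eq_mul]
      linear_combination (-(a j * b.repr (d c) m)) * hc
  rw [h, Matrix.det_smul, Fintype.card_fin, det_addCol _ η 0 (by simp [η])]

include b hd in
/-- The signed wedges transform by the `(n + 1)`-st power. -/
theorem wedge_eq {a a' : Fin (n + 1) → R} {c c' : R} (hc : c * c' = 1) (ha : ∀ j, a' j = c * a j) {i l : Fin (n + 1)}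
    (hi : a i = 1) (hl : a' l = 1) : wedge d a' l = c ^ (n + 1) • wedge d a i := by
  let Δ : ↥(⋀[R]^n Ω) →ₗ[R] R := exteriorPower.alternatingMapLinearEquiv b.det
  have hrec : ∀ z, z = Δ z • exteriorPower.ιMulti R n b := fun z =>
    (LinearMap.congr_fun (f := LinearMap.smulRight Δ (exteriorPower.ιMulti R n b)) (g := LinearMap.id)
      (exteriorPower.linearMap_ext (b.ext_alternating fun v hv => by
        let σ : Equiv.Perm (Fin n) := Equiv.ofBijective v (Finite.injective_iff_bijective.1 hv)
        show LinearMap.smulRight Δ (exteriorPower.ιMulti R n b) (exteriorPower.ιMulti R n (b ∘ σ)) =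
          exteriorPower.ιMulti R n (b ∘ σ)
        rw [LinearMap.smulRight_apply, exteriorPower.alternatingMapLinearEquiv_apply_ιMulti,
          AlternatingMap.map_perm, AlternatingMap.map_perm, b.det_self]
        simp)) z).symm
  rw [hrec (wedge d a' l), hrec (wedge d a i), smul_smul]
  congr 1
  show Δ _ = _ * Δ _
  rw [← det_jac b d hd hl, ← det_jac b d hd hi, det_jac_smul b d hd hc ha]

end Groth.Agent.ExtShX.DetAlg
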