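import Groth.Agent.ExtShX.DetAlg
import Groth.Agent.ExtShX.KoszulConormal
import Groth.Agent.CurveVA.Converse
import Groth.Agent.GrModX.QCohTilde
import Groth.Agent.PnCoh.TwistTriv
import Groth.Agent.PicGlue.Glue
import Groth.Agent.OmegaUniv.Universal
import Groth.Agent.Lib.TopDiff
import Groth.Agent.H23.Frame

/-!
# The determinant of the differentials of projective space
-/

set_option linter.style.haveILetI false
set_option linter.unusedSectionVars false
set_option backward.isDefEq.respectTransparency false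
set_option backward.isDefEq.respectTransparency.types false
set_option maxHeartbeats 1000000

universe u

open CategoryTheory CategoryTheory.Limits AlgebraicGeometry TopologicalSpace Opposite

noncomputable section

namespace Groth.Agent.ExtShX.DetPn

open Groth.Agent Groth.Agent.H23

variable (n : ℕ) (k : Type u) [Field k]

local notation "𝒜" => CohB1.polyGrading n k
local notation "T" => (MvPolynomial.X : Fin (n + 1) → MvPolynomial (Fin (n + 1)) k)

/-- The standard opens. -/
abbrev D (i : Fin (n + 1)) : (CohB1.ProjSpace n k).Opens := Proj.basicOpen 𝒜 (T i)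

/-- The affine coordinates. -/
def a (i j : Fin (n + 1)) : Γ(CohB1.ProjSpace n k, D n k i) :=
  (Proj.awayToSection 𝒜 (T i)).hom (ZetaLib.coord n k i j)

theorem isAffineOpen_D (i : Fin (n + 1)) : IsAffineOpen (D n k i) :=
  Proj.isAffineOpen_basicOpen 𝒜 (T i) (ZetaLib.X_mem_one n k i) Nat.one_pos

theorem exists_mem_D (x : CohB1.ProjSpace n k) : ∃ i, x ∈ D n k i := by
  obtain ⟨i, hi⟩ := ZetaLib.exists_mem_chart x
  exact ⟨i, (ZetaLib.mem_range_chart i x).1 hi⟩

theorem a_self (i : Fin (n + 1)) : a n k i i = 1 := by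
  rw [a, PnChart.coord_self]
  exact map_one _

theorem a_mul (i j l : Fin (n + 1)) (W : (CohB1.ProjSpace n k).Opens) (hi : W ≤ D n k i) (hl : W ≤ D n k l) :
    AModX.resR hl (a n k l j) = AModX.resR hl (a n k l i) * AModX.resR hi (a n k i j) := by
  refine Subtype.ext (funext fun y => HomogeneousLocalization.val_injective _ ?_)
  show (GrModX.oval 𝒜 (a n k l j) ⟨y.1, hl y.2⟩).val =
    ((GrModX.oval 𝒜 (a n k l i) ⟨y.1, hl y.2⟩) * (GrModX.oval 𝒜 (a n k i j) ⟨y.1, hi y.2⟩)).val
  rw [HomogeneousLocalization.val_mul, a, a, a, ZetaLib.coord, ZetaLib.coord, ZetaLib.coord,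
    GrModX.oval_awayToSection, GrModX.oval_awayToSection, GrModX.oval_awayToSection, Localization.mk_mul,
    Localization.mk_eq_mk_iff, Localization.r_iff_exists]
  exact ⟨1, by simp; ring⟩

/-- The differential on sections. -/
abbrev dd [QuasiSeparated (CohB1.ProjSpace.toSpec n k)] (W : (CohB1.ProjSpace n k).Opens) :
    Γ(CohB1.ProjSpace n k, W) →+ Γ(Omega.sheaf (CohB1.ProjSpace.toSpec n k), W) :=
  (OmegaSh.dOmega (CohB1.ProjSpace.toSpec n k)).app W

variable [QuasiSeparated (CohB1.ProjSpace.toSpec n k)]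

theorem dd_mul (W : (CohB1.ProjSpace n k).Opens) (x y : Γ(CohB1.ProjSpace n k, W)) :
    dd n k W (x * y) = x • dd n k W y + y • dd n k W x :=
  Synt29.OmegaStalk.app_mul _ _ W x y

theorem dd_res {W V : (CohB1.ProjSpace n k).Opens} (h : W ≤ V) (x : Γ(CohB1.ProjSpace n k, V)) :
    dd n k W (AModX.resR h x) = AModX.res _ h (dd n k V x) :=
  Synt29.OmegaStalk.app_res _ _ (homOfLE h) x

theorem dd_one (W : (CohB1.ProjSpace n k).Opens) : dd n k W 1 = 0 := by simpa using dd_mul n k W 1 1

theorem dd_mem_span (i : Fin (n + 1)) (g : Γ(CohB1.ProjSpace n k, D n k i)) :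
    dd n k (D n k i) g ∈ Submodule.span Γ(CohB1.ProjSpace n k, D n k i)
      (Set.range fun m : Fin n => dd n k (D n k i) (a n k i (i.succAbove m))) := by
  let N := Submodule.span Γ(CohB1.ProjSpace n k, D n k i)
      (Set.range fun m : Fin n => dd n k (D n k i) (a n k i (i.succAbove m)))
  let S : Subring Γ(CohB1.ProjSpace n k, D n k i) :=
    { carrier := {g | dd n k (D n k i) g ∈ N}
      mul_mem' := fun {x y} hx hy => by
        show dd n k (D n k i) (x * y) ∈ N
        rw [dd_mul]
        exact add_mem (Submodule.smul_mem _ _ hy) (Submodule.smul_mem _ _ hx)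
      one_mem' := by
        show dd n k (D n k i) 1 ∈ N
        rw [dd_one]; exact zero_mem _
      add_mem' := fun {x y} hx hy => by
        show dd n k (D n k i) (x + y) ∈ N
        rw [map_add]; exact add_mem hx hy
      zero_mem' := by
        show dd n k (D n k i) 0 ∈ N
        rw [map_zero]; exact zero_mem _
      neg_mem' := fun {x} hx => by
        show dd n k (D n k i) (-x) ∈ N
        rw [map_neg]; exact neg_mem hx }
  have hS : S = ⊤ := CurveVA.subring_chart_eq_top n k i S (fun c => by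
    show dd n k (D n k i) ((CohB1.ProjSpace.toSpec n k).appLE ⊤ (D n k i) le_top _) ∈ N
    rw [Scheme.Hom.appLE, ConcreteCategory.comp_apply, Synt29.OmegaStalk.app_res,
      Synt29.OmegaStalk.app_base, map_zero]
    exact zero_mem _) fun l => by
    show dd n k (D n k i) (a n k i l) ∈ N
    by_cases hl : l = i
    · rw [hl, a_self, dd_one]; exact zero_mem _
    · obtain ⟨m, rfl⟩ := Fin.exists_succAbove_eq hl
      exact Submodule.subset_span ⟨m, rfl⟩
  exact (hS ▸ Subring.mem_top g : g ∈ S)

theorem span_eq_top (i : Fin (n + 1)) :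
    Submodule.span Γ(CohB1.ProjSpace n k, D n k i)
      (Set.range fun m : Fin n => dd n k (D n k i) (a n k i (i.succAbove m))) = ⊤ := by
  refine top_le_iff.1 fun x _ => ?_
  exact (Submodule.span_le.2 (Set.range_subset_iff.2 fun g => dd_mem_span n k i g))
    ((OmegaUniv.good_of_affine (CohB1.ProjSpace.toSpec n k) (isAffineOpen_D n k i)
      (isAffineOpen_top (Spec (CommRingCat.of k))) le_top).1 x)

theorem free_kaehler (R A : Type u) [CommRing R] [CommRing A] [Algebra R A] (σ : Type u) [Fintype σ]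
    (e : MvPolynomial σ R ≃ₐ[R] A) :
    Nonempty (Module.Basis σ A Ω[A⁄R]) := by
  classical
  let v : σ → Ω[A⁄R] := fun s => KaehlerDifferential.D R A (e (MvPolynomial.X s))
  let δ : σ → Derivation R A A := fun s => Derivation.mk'
    (e.toLinearMap ∘ₗ (MvPolynomial.pderiv s).toLinearMap ∘ₗ e.symm.toLinearMap) fun x y => by
      simp [map_mul, smul_eq_mul]
  have hδ : ∀ s t, (δ s).liftKaehlerDifferential (v t) = if t = s then 1 else 0 := fun s t => by
    rw [Derivation.liftKaehlerDifferential_comp_D]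
    show e (MvPolynomial.pderiv s (e.symm (e (MvPolynomial.X t)))) = _
    rw [AlgEquiv.symm_apply_apply, MvPolynomial.pderiv_X]
    split_ifs with h
    · subst h; simp
    · simp [h]
  refine ⟨Module.Basis.mk (v := v) (Fintype.linearIndependent_iff.2 fun c hc s => ?_) ?_⟩
  · have h := congrArg (δ s).liftKaehlerDifferential hc
    rw [map_sum, map_zero] at h
    simpa [hδ] using h
  · rw [← KaehlerDifferential.span_range_derivation]
    refine Submodule.span_le.2 (Set.range_subset_iff.2 fun x => ?_)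
    obtain ⟨p, rfl⟩ := e.surjective x
    induction p using MvPolynomial.induction_on with
    | C c =>
      rw [show e (MvPolynomial.C c) = algebraMap R A c from e.commutes c, Derivation.map_algebraMap]
      exact zero_mem _
    | add p q hp hq => rw [map_add, map_add]; exact add_mem hp hq
    | mul_X p s hp =>
      rw [map_mul, Derivation.leibniz]
      exact add_mem (Submodule.smul_mem _ _ (Submodule.subset_span ⟨s, rfl⟩)) (Submodule.smul_mem _ _ hp)

theorem exists_algEquiv (i : Fin (n + 1)) :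
    letI := ((CohB1.ProjSpace.toSpec n k).appLE ⊤ (D n k i) le_top).hom.toAlgebra
    Nonempty (MvPolynomial (PnChart.Idx n i) Γ(Spec (CommRingCat.of k), ⊤) ≃ₐ[Γ(Spec (CommRingCat.of k), ⊤)]
      Γ(CohB1.ProjSpace n k, D n k i)) := by
  letI := ((CohB1.ProjSpace.toSpec n k).appLE ⊤ (D n k i) le_top).hom.toAlgebra
  let φ : Γ(Spec (CommRingCat.of k), ⊤) ≃+* k := (Scheme.ΓSpecIso (CommRingCat.of k)).commRingCatIsoToRingEquiv
  haveI : IsIso (Proj.awayToSection 𝒜 (T i)) :=
    inferInstanceAs (IsIso (Proj.basicOpenIsoAway 𝒜 (T i) (ZetaLib.X_mem_one n k i) Nat.one_pos).hom)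
  let ev : MvPolynomial (PnChart.Idx n i) Γ(Spec (CommRingCat.of k), ⊤) →ₐ[Γ(Spec (CommRingCat.of k), ⊤)]
      Γ(CohB1.ProjSpace n k, D n k i) := MvPolynomial.aeval fun j => a n k i j.down.1
  have h : ev.toRingHom = ((Proj.awayToSection 𝒜 (T i)).hom.comp (PnChart.fromChart n k i)).comp
      (MvPolynomial.map φ.toRingHom) := by
    refine MvPolynomial.ringHom_ext (fun c => ?_) fun j => ?_
    · show ev (MvPolynomial.C c) =
        (Proj.awayToSection 𝒜 (T i)).hom (PnChart.fromChart n k i (MvPolynomial.map φ.toRingHom (MvPolynomial.C c)))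
      rw [MvPolynomial.map_C, PnChart.fromChart, MvPolynomial.eval₂Hom_C, ← CurveVA.toSpec_appLE_chart,
        MvPolynomial.aeval_C]
      exact congrArg _ (φ.symm_apply_apply c).symm
    · show ev (MvPolynomial.X j) =
        (Proj.awayToSection 𝒜 (T i)).hom (PnChart.fromChart n k i (MvPolynomial.map φ.toRingHom (MvPolynomial.X j)))
      rw [MvPolynomial.map_X, PnChart.fromChart, MvPolynomial.eval₂Hom_X', MvPolynomial.aeval_X]
      rfl
  have hb : Function.Bijective ev := by
    show Function.Bijective ev.toRingHom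
    rw [h]
    exact ((ConcreteCategory.bijective_of_isIso (Proj.awayToSection 𝒜 (T i))).comp
      ⟨PnChart.fromChart_injective n k i, PnChart.fromChart_surjective n k i⟩).comp
      ⟨MvPolynomial.map_injective _ φ.injective, MvPolynomial.map_surjective _ φ.surjective⟩
  exact ⟨AlgEquiv.ofBijective ev hb⟩

/-- The differentials of the coordinates form a basis on every open of the chart. -/
theorem bijective_comb (i : Fin (n + 1)) (W : (CohB1.ProjSpace n k).Opens) (h : W ≤ D n k i) :
    Function.Bijective fun c : Fin n → Γ(CohB1.ProjSpace n k, W) =>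
      ∑ m, c m • AModX.res _ h (dd n k (D n k i) (a n k i (i.succAbove m))) := by
  classical
  let π := CohB1.ProjSpace.toSpec n k
  letI := (π.appLE ⊤ (D n k i) le_top).hom.toAlgebra
  obtain ⟨e⟩ := exists_algEquiv n k i
  obtain ⟨B⟩ := free_kaehler _ _ (PnChart.Idx n i) e
  obtain ⟨l⟩ := Synt29.OmegaStalk.exists_linearEquiv_sections (OmegaUniv.isUniversal_dOmega π)
    (isAffineOpen_D n k i) (isAffineOpen_top (Spec (CommRingCat.of k))) le_top
  have hcard : Fintype.card (PnChart.Idx n i) = n := by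
    simp [Fintype.card_subtype_compl]
  obtain ⟨eF⟩ := QCoh.exists_free_restrict (OmegaUniv.isQCoh_omega π) (isAffineOpen_D n k i)
    (l.trans (B.reindex ((Fintype.equivFinOfCardEq hcard).trans Equiv.ulift.{u}.symm)).repr)
  obtain ⟨s, hs⟩ := H23.Frame.exists_frame eF
  have hsW := hs W h
  let Φ : (Fin n → Γ(CohB1.ProjSpace n k, W)) →ₗ[Γ(CohB1.ProjSpace n k, W)] Γ(Omega.sheaf π, W) :=
    Fintype.linearCombination _ fun m => AModX.res _ h (dd n k (D n k i) (a n k i (i.succAbove m)))
  let Ψ : (Fin n → Γ(CohB1.ProjSpace n k, W)) ≃ₗ[Γ(CohB1.ProjSpace n k, W)] Γ(Omega.sheaf π, W) :=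
    LinearEquiv.ofBijective (Fintype.linearCombination _ fun m => AModX.res _ h (s m)) hsW
  have hsurj : Function.Surjective Φ := by
    intro z
    obtain ⟨c, rfl⟩ := Ψ.surjective z
    have hmem : ∀ m, AModX.res (Omega.sheaf π) h (s m) ∈ LinearMap.range Φ := fun m => by
      suffices key : ∀ q ∈ Submodule.span Γ(CohB1.ProjSpace n k, D n k i)
          (Set.range fun m : Fin n => dd n k (D n k i) (a n k i (i.succAbove m))),
          AModX.res (Omega.sheaf π) h q ∈ LinearMap.range Φ from
        key _ ((span_eq_top n k i).ge Submodule.mem_top)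
      intro q h1
      induction h1 using Submodule.span_induction with
      | mem y hy =>
        obtain ⟨p, rfl⟩ := hy
        exact ⟨Pi.single p 1, by simp [Φ]⟩
      | zero => rw [map_zero]; exact zero_mem _
      | add y y' _ _ hy hy' => rw [map_add]; exact add_mem hy hy'
      | smul q y _ hy => rw [AModX.res_smul]; exact Submodule.smul_mem _ _ hy
    show Ψ c ∈ LinearMap.range Φ
    show (Fintype.linearCombination _ fun m => AModX.res _ h (s m)) c ∈ _
    rw [Fintype.linearCombination_apply]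
    exact Submodule.sum_mem _ fun m _ => Submodule.smul_mem _ _ (hmem m)
  have hinj : Function.Injective Φ := by
    have h2 := OrzechProperty.injective_of_surjective_endomorphism (Ψ.symm.toLinearMap ∘ₗ Φ)
      (Ψ.symm.surjective.comp hsurj)
    exact fun x y hxy => h2 (congrArg Ψ.symm hxy)
  exact (show Function.Bijective Φ from ⟨hinj, hsurj⟩)

theorem exists_basis_le (i : Fin (n + 1)) (V : (CohB1.ProjSpace n k).Opens) (h : V ≤ D n k i) :
    ∃ b : Module.Basis (Fin n) Γ(CohB1.ProjSpace n k, V) Γ(Omega.sheaf (CohB1.ProjSpace.toSpec n k), V),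
      ⇑b = fun m => dd n k V (AModX.resR h (a n k i (i.succAbove m))) := by
  rw [show (fun m => dd n k V (AModX.resR h (a n k i (i.succAbove m)))) =
    fun m => AModX.res _ h (dd n k (D n k i) (a n k i (i.succAbove m))) from funext fun m => dd_res n k h _]
  exact TopDiff.basis_of_unique _ (bijective_comb n k i V h)

section Frames

variable {L : (CohB1.ProjSpace n k).Modules}
  (φ : ∀ U : (CohB1.ProjSpace n k).affineOpens, (L.val.obj (op U.1)) ≃ₗ[Γ(CohB1.ProjSpace n k, U.1)]
    ↥(⋀[Γ(CohB1.ProjSpace n k, U.1)]^n ((Omega.sheaf (CohB1.ProjSpace.toSpec n k)).val.obj (op U.1))))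
  (hφ : ∀ (U V : (CohB1.ProjSpace n k).affineOpens) (h : V.1 ≤ U.1)
    (e : Fin n → (Omega.sheaf (CohB1.ProjSpace.toSpec n k)).val.obj (op U.1)),
    L.val.map (homOfLE h).op ((φ U).symm (exteriorPower.ιMulti _ n e)) =
      (φ V).symm (exteriorPower.ιMulti _ n
        (fun j => (Omega.sheaf (CohB1.ProjSpace.toSpec n k)).val.map (homOfLE h).op (e j))))

/-- The frame on a chart. -/
def frame (i : Fin (n + 1)) : Γ(L, D n k i) :=
  (φ ⟨D n k i, isAffineOpen_D n k i⟩).symm (DetAlg.wedge (dd n k (D n k i)) (a n k i) i)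

include hφ in
theorem res_frame (i : Fin (n + 1)) (V : (CohB1.ProjSpace n k).Opens) (hV : IsAffineOpen V) (h : V ≤ D n k i) :
    AModX.res L h (frame n k φ i) =
      (φ ⟨V, hV⟩).symm (DetAlg.wedge (dd n k V) (fun j => AModX.resR h (a n k i j)) i) := by
  have h1 := hφ ⟨D n k i, isAffineOpen_D n k i⟩ ⟨V, hV⟩ h
    (fun m => dd n k (D n k i) (a n k i (i.succAbove m)))
  have e1 : frame n k φ i = ((-1 : Γ(CohB1.ProjSpace n k, D n k i)) ^ (i : ℕ)) •
      (φ ⟨D n k i, isAffineOpen_D n k i⟩).symm (exteriorPower.ιMulti _ n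
        fun m => dd n k (D n k i) (a n k i (i.succAbove m))) :=
    (φ ⟨D n k i, isAffineOpen_D n k i⟩).symm.map_smul _ _
  rw [e1, AModX.res_smul, map_pow, map_neg, map_one]
  refine Eq.trans ?_ ((φ ⟨V, hV⟩).symm.map_smul _ _).symm
  refine congrArg _ (h1.trans (congrArg _ (congrArg _ (funext fun m => ?_))))
  exact (dd_res n k h _).symm

include hφ in
theorem isFrame_frame (i : Fin (n + 1)) : InvX.IsFrame (frame n k φ i) :=
  ExtShX.isFrame_of_affine fun V h hV => by
    obtain ⟨b, hb⟩ := exists_basis_le n k i V h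
    have hu : IsUnit ((-1 : Γ(CohB1.ProjSpace n k, V)) ^ (i : ℕ)) := (isUnit_one.neg).pow _
    obtain ⟨w, hw⟩ := hu
    have he : (fun r : Γ(CohB1.ProjSpace n k, V) => r • AModX.res L h (frame n k φ i)) =
        (φ ⟨V, hV⟩).symm ∘ (fun r : Γ(CohB1.ProjSpace n k, V) =>
          r • exteriorPower.ιMulti Γ(CohB1.ProjSpace n k, V) n b) ∘ fun r => r * w := by
      funext r
      rw [res_frame n k φ hφ i V hV h]
      refine ((φ ⟨V, hV⟩).symm.map_smul r _).symm.trans (congrArg _ ?_)
      show r • DetAlg.wedge _ _ _ = (r * w) • exteriorPower.ιMulti Γ(CohB1.ProjSpace n k, V) n b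
      rw [DetAlg.wedge, smul_smul, hw, hb]; rfl
    rw [he]
    exact (φ ⟨V, hV⟩).symm.bijective.comp ((TopDiff.bijective_ιMulti_basis b).comp (Units.mulRight w).bijective)

include hφ in
theorem frame_rel (i l : Fin (n + 1)) (W : (CohB1.ProjSpace n k).Opens) (hi : W ≤ D n k i) (hl : W ≤ D n k l) :
    AModX.res L hl (frame n k φ l) = AModX.resR hl (a n k l i) ^ (n + 1) • AModX.res L hi (frame n k φ i) := by
  refine AModX.eq_of_locally _ _ fun p hp => ?_
  obtain ⟨_, ⟨V, hV, rfl⟩, hpV, hVW⟩ :=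
    (CohB1.ProjSpace n k).isBasis_affineOpens.exists_subset_of_mem_open (show p ∈ W from hp) W.2
  refine ⟨V, hVW, hpV, ?_⟩
  have hVW' : V ≤ W := hVW
  have hiV : V ≤ D n k i := hVW'.trans hi
  have hlV : V ≤ D n k l := hVW'.trans hl
  obtain ⟨b, -⟩ := exists_basis_le n k i V hiV
  rw [AModX.res_smul, AModX.res_res, AModX.res_res, map_pow, AModX.resR_resR, res_frame n k φ hφ l V hV hlV,
    res_frame n k φ hφ i V hV hiV]
  refine (congrArg _ (DetAlg.wedge_eq b (dd n k V) (dd_mul n k V) (a := fun j => AModX.resR hiV (a n k i j))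
    (a' := fun j => AModX.resR hlV (a n k l j)) (c := AModX.resR hlV (a n k l i))
    (c' := AModX.resR hiV (a n k i l)) (i := i) (l := l) ?_ (fun j => a_mul n k i j l V hiV hlV) ?_ ?_)).trans ?_
  · rw [← a_mul n k i l l V hiV hlV, a_self, map_one]
  · rw [a_self, map_one]
  · rw [a_self, map_one]
  · exact (φ ⟨V, hV⟩).symm.map_smul _ _

end Frames

theorem nonVan_D (i : Fin (n + 1)) (x : (D n k i : Opens (ProjectiveSpectrum.top 𝒜))) :
    T i ∉ x.1.asHomogeneousIdeal := x.2

/-- The frame of the twist on a chart. -/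
def twFrame (d : ℤ) (i : Fin (n + 1)) : Γ(Twist.twistProjSpace n k d, D n k i) :=
  PnCoh.twPow (ZetaLib.X_mem_one n k i) d (nonVan_D n k i)

theorem isFrame_twFrame (d : ℤ) (i : Fin (n + 1)) : InvX.IsFrame (twFrame n k d i) := fun V h =>
  PnCoh.trivMap_bijective (ZetaLib.X_mem_one n k i) d (U := V) fun x => nonVan_D n k i ⟨x.1, h x.2⟩

theorem twFrame_rel (i l : Fin (n + 1)) (W : (CohB1.ProjSpace n k).Opens) (hi : W ≤ D n k i) (hl : W ≤ D n k l) :
    AModX.res _ hl (twFrame n k (-((n : ℤ) + 1)) l) =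
      AModX.resR hl (a n k l i) ^ (n + 1) • AModX.res _ hi (twFrame n k (-((n : ℤ) + 1)) i) := by
  let c := AModX.resR hl (a n k l i)
  refine Subtype.ext (funext fun y => Subtype.ext ?_)
  let z : D n k l := ⟨y.1, hl y.2⟩
  let z' : D n k i := ⟨y.1, hi y.2⟩
  refine Eq.trans ?_ (Twist.coe_smul_val (-((n : ℤ) + 1)) y.1 ((c ^ (n + 1)).1 y)
    ((PnCoh.twPow (ZetaLib.X_mem_one n k i) (-((n : ℤ) + 1)) (nonVan_D n k i)).1 z')).symm
  show ((PnCoh.twPow (ZetaLib.X_mem_one n k l) (-((n : ℤ) + 1)) (nonVan_D n k l)).1 z).1 = _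
  have hc : ((c ^ (n + 1)).1 y).val = ((GrModX.oval 𝒜 (a n k l i) z).val) ^ (n + 1) :=
    (congrArg HomogeneousLocalization.val (show (c ^ (n + 1)).1 y = (c.1 y) ^ (n + 1) from rfl)).trans
      (HomogeneousLocalization.val_pow _ _)
  rw [hc, a, ZetaLib.coord, GrModX.oval_awayToSection, PnCoh.twPow_apply, PnCoh.twPow_apply, Localization.mk_pow,
    Localization.mk_mul, Localization.mk_eq_mk_iff, Localization.r_iff_exists]
  refine ⟨1, ?_⟩
  have h0 : (-((n : ℤ) + 1)).toNat = 0 := by omega
  have h1 : (-(-((n : ℤ) + 1))).toNat = n + 1 := by omega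
  rw [h0, h1]
  simp

/-- The determinant of the differentials of projective space. -/
theorem nonempty_iso_twist {L : (CohB1.ProjSpace n k).Modules}
    (hL : ExtPow.IsExtPow n (Omega.sheaf (CohB1.ProjSpace.toSpec n k)) L) :
    Nonempty (L ≅ Twist.twistProjSpace n k (-((n : ℤ) + 1))) := by
  obtain ⟨φ, hφ⟩ := hL
  refine PicGlue.nonempty_iso_of_frames (ι := ULift.{u} (Fin (n + 1))) (fun i => D n k i.down)
    (fun x => (exists_mem_D n k x).elim fun i hi => ⟨⟨i⟩, hi⟩) (fun i => isFrame_frame n k φ hφ i.down)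
    (fun i => isFrame_twFrame n k _ i.down) fun ⟨i⟩ ⟨l⟩ W hi hl g hg => ?_
  obtain rfl : g = AModX.resR hl (a n k l i) ^ (n + 1) :=
    (isFrame_frame n k φ hφ i).coord_unique hi (hg.symm.trans (frame_rel n k φ hφ i l W hi hl))
  exact twFrame_rel n k i l W hi hl

end Groth.Agent.ExtShX.DetPn
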