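import Groth.Agent.ExtShX.LocalGlobal
import Groth.Agent.ExtShX.LinearHom

/-!
# Ext as sections of the top local Ext sheaf when the lower ones are acyclic
-/

set_option linter.style.haveILetI false
set_option linter.unusedSectionVars false
set_option backward.isDefEq.respectTransparency false
set_option backward.isDefEq.respectTransparency.types false
set_option maxHeartbeats 1000000

universe u

open CategoryTheory CategoryTheory.Limits AlgebraicGeometry TopologicalSpace Opposite

noncomputable section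

attribute [local instance] CategoryTheory.Abelian.hasFiniteBiproducts

namespace Groth.Agent.ExtShX

variable {X : Scheme.{u}}

section Alg

variable {A : Type*} [Ring A] {V P Q : Type*} [AddCommGroup V] [Module A V] [AddCommGroup P] [Module A P]
  [AddCommGroup Q] [Module A Q]

theorem exists_equiv_of_ker_eq (p : V →ₗ[A] P) (q : V →ₗ[A] Q) (hp : Function.Surjective p)
    (hq : Function.Surjective q) (h : ∀ v, p v = 0 ↔ q v = 0) : Nonempty (P ≃ₗ[A] Q) :=
  ⟨(p.quotKerEquivOfSurjective hp).symm.trans ((Submodule.quotEquivOfEq _ _ (Submodule.ext h)).trans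
    (q.quotKerEquivOfSurjective hq))⟩

end Alg

variable {A : Type u} [CommRing A] [X.Over (Spec (CommRingCat.of A))] [HasExt.{u} X.Modules]
variable (F : X.Modules) (Z I : ℕ → X.Modules) [∀ n, Injective (I n)] (f : ∀ n, Z n ⟶ I n) (g : ∀ n, I n ⟶ Z (n + 1))
  (w : ∀ n, f n ≫ g n = 0) (hS : ∀ n, (ShortComplex.mk (f n) (g n) (w n)).ShortExact)

include hS in
/-- Dimension shifting along a coresolution. -/
theorem exists_shift_map : ∀ (n j l : ℕ), j + n = l → ∃ L : (F ⟶ Z (l + 1)) →ₗ[A] Abelian.Ext F (Z j) (n + 1),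
    Function.Surjective L ∧ ∀ v, L v = 0 ↔ ∃ u : F ⟶ I l, u ≫ g l = v := by
  intro n
  induction n with
  | zero =>
    intro j l h
    obtain rfl : j = l := by omega
    let L : (F ⟶ Z (j + 1)) →ₗ[A] Abelian.Ext F (Z j) 1 :=
      (Abelian.Ext.postcompOfLinear (hS j).extClass A F (zero_add 1)) ∘ₗ
        (Abelian.Ext.linearEquiv₀ (R := A)).symm.toLinearMap
    have hL : ∀ v, L v = (Abelian.Ext.mk₀ v).comp (hS j).extClass (zero_add 1) := fun v => rfl
    refine ⟨L, fun x => ?_, fun v => ⟨fun hv => ?_, ?_⟩⟩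
    · obtain ⟨y, hy⟩ := Abelian.Ext.covariant_sequence_exact₁ F (hS j) x
        (Abelian.Ext.eq_zero_of_injective _) (n₀ := 0) rfl
      obtain ⟨v, rfl⟩ := (Abelian.Ext.mk₀_bijective _ _).2 y
      exact ⟨v, (hL v).trans hy⟩
    · obtain ⟨y, hy⟩ := Abelian.Ext.covariant_sequence_exact₃ F (hS j) (Abelian.Ext.mk₀ v) (n₁ := 1) rfl
        ((hL v).symm.trans hv)
      obtain ⟨u, rfl⟩ := (Abelian.Ext.mk₀_bijective _ _).2 y
      rw [Abelian.Ext.mk₀_comp_mk₀] at hy
      exact ⟨u, (Abelian.Ext.mk₀_bijective _ _).1 hy⟩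
    · rintro ⟨u, rfl⟩
      rw [hL, ← Abelian.Ext.mk₀_comp_mk₀, Abelian.Ext.comp_assoc_of_second_deg_zero, (hS j).comp_extClass,
        Abelian.Ext.comp_zero]
  | succ n ih =>
    intro j l h
    obtain ⟨L, hLs, hLk⟩ := ih (j + 1) l (by omega)
    let δ : Abelian.Ext F (Z (j + 1)) (n + 1) →ₗ[A] Abelian.Ext F (Z j) (n + 2) :=
      Abelian.Ext.postcompOfLinear (hS j).extClass A F rfl
    have hδi : ∀ y, δ y = 0 → y = 0 := fun y hy => by
      obtain ⟨x₂, rfl⟩ := Abelian.Ext.covariant_sequence_exact₃ F (hS j) y (n₁ := n + 2) rfl hy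
      rw [Abelian.Ext.eq_zero_of_injective x₂, Abelian.Ext.zero_comp]
    refine ⟨δ ∘ₗ L, fun x => ?_, fun v => ?_⟩
    · obtain ⟨y, hy⟩ := Abelian.Ext.covariant_sequence_exact₁ F (hS j) x
        (Abelian.Ext.eq_zero_of_injective _) (n₀ := n + 1) rfl
      obtain ⟨v, rfl⟩ := hLs y
      exact ⟨v, hy⟩
    · exact ⟨fun hv => (hLk v).1 (hδi _ hv), fun hv => (congrArg δ ((hLk v).2 hv)).trans (map_zero δ)⟩

/-- If the lower local Ext sheaves have no cohomology, `Ext^m` is the space of sections of `Ext^m`. -/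
theorem exists_ext_linearEquiv_hom (G : X.Modules) (m : ℕ)
    (h : ∀ j, j < m → ∀ q, Subsingleton (Abelian.Ext (Coh.structureModule X) ((E F j).obj G) (q + 1))) :
    Nonempty (Abelian.Ext F G m ≃ₗ[A] (Coh.structureModule X ⟶ (E F m).obj G)) := by
  let O := Coh.structureModule X
  rcases m with _ | m
  · exact ⟨(Abelian.Ext.linearEquiv₀ (R := A)).trans ((evLin F G).symm.trans
      (Linear.homCongr A (Iso.refl O) ((zeroIso F).app G).symm))⟩
  let R := injectiveResolution G
  let H := SheafHomX.hom F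
  let d := fun n => R.cocomplex.d n (n + 1)
  let Z : ℕ → X.Modules := fun n => kernel (d n)
  let I : ℕ → X.Modules := fun n => R.cocomplex.X n
  let g : ∀ n, I n ⟶ Z (n + 1) := fun n => kernel.lift (d (n + 1)) (d n) (R.cocomplex.d_comp_d _ _ _)
  haveI : ∀ n, Injective (I n) := fun n => R.injective n
  have hg : ∀ n, Epi (g n) := fun n => (R.exact_succ n).epi_kernelLift
  have w : ∀ n, kernel.ι (d n) ≫ g n = 0 := fun n => by
    rw [← cancel_mono (kernel.ι (d (n + 1))), Category.assoc, kernel.lift_ι, kernel.condition, zero_comp]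
  have hS : ∀ n, (ShortComplex.mk (kernel.ι (d n)) (g n) (w n)).ShortExact := fun n =>
    { exact := by
        refine ShortComplex.exact_of_f_is_kernel _ (KernelFork.IsLimit.ofι' _ _ fun {W} k hk => ?_)
        have hkd : k ≫ d n = 0 :=
          ((congrArg (k ≫ ·) (kernel.lift_ι (d (n + 1)) (d n) (R.cocomplex.d_comp_d _ _ _))).symm.trans
            (Category.assoc _ _ _).symm).trans ((congrArg (· ≫ kernel.ι (d (n + 1))) hk).trans zero_comp)
        exact ⟨kernel.lift (d n) k hkd, kernel.lift_ι _ _ _⟩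
      mono_f := inferInstanceAs (Mono (kernel.ι (d n)))
      epi_g := hg n }
  -- the local Ext sheaves as cokernels
  have hc : ∀ n, Nonempty (cokernel (H.map (g n)) ≅ (E F (n + 1)).obj G) := fun n => by
    let C := (H.mapHomologicalComplex (ComplexShape.up ℕ)).obj R.cocomplex
    let T := C.sc' n (n + 1) (n + 2)
    have hk : IsLimit (KernelFork.ofι (H.map (kernel.ι (d (n + 1))))
        (show H.map (kernel.ι (d (n + 1))) ≫ H.map (d (n + 1)) = 0 by
          rw [← Functor.map_comp, kernel.condition, Functor.map_zero])) :=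
      isLimitForkMapOfIsLimit' H (kernel.condition (d (n + 1))) (kernelIsKernel (d (n + 1)))
    haveI : Mono (H.map (kernel.ι (d (n + 1)))) := mono_of_isLimit_fork hk
    have he : hk.lift (KernelFork.ofι T.f T.zero) = H.map (g n) :=
      (cancel_mono (H.map (kernel.ι (d (n + 1))))).1 ((Fork.IsLimit.lift_ι hk).trans (by
        rw [← Functor.map_comp, kernel.lift_ι]; rfl))
    let hd : T.LeftHomologyData :=
      { K := H.obj (Z (n + 1))
        H := cokernel (H.map (g n))
        i := H.map (kernel.ι (d (n + 1)))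
        π := cokernel.π (H.map (g n))
        wi := by
          show H.map (kernel.ι (d (n + 1))) ≫ H.map (d (n + 1)) = 0
          rw [← Functor.map_comp, kernel.condition, Functor.map_zero]
        hi := hk
        wπ := by rw [he]; exact cokernel.condition _
        hπ := CokernelCofork.IsColimit.ofπ _ _
          (fun g' hg' => cokernel.desc (H.map (g n)) g' (by rw [← he]; exact hg'))
          (fun g' hg' => cokernel.π_desc _ _ _) fun g' hg' m' hm => by
            rw [← cancel_epi (cokernel.π (H.map (g n)))]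
            simpa using hm }
    exact ⟨hd.homologyIso.symm ≪≫ (C.homologyIsoSc' n (n + 1) (n + 2) (by simp) (by simp)).symm ≪≫
      (R.isoRightDerivedObj H (n + 1)).symm⟩
  -- the two short exact sequences through the image
  let b : ∀ n, cokernel (H.map (kernel.ι (d n))) ⟶ H.obj (Z (n + 1)) := fun n =>
    cokernel.desc _ (H.map (g n)) (by rw [← Functor.map_comp, w, Functor.map_zero])
  have hl : ∀ n, ((ShortComplex.mk (kernel.ι (d n)) (g n) (w n)).map H).Exact ∧ Mono (H.map (kernel.ι (d n))) :=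
    fun n => ((Functor.preservesFiniteLimits_tfae H).out 3 0 rfl rfl).1 inferInstance _ (hS n)
  have hT₁ : ∀ n, (ShortComplex.mk (H.map (kernel.ι (d n))) (cokernel.π _) (cokernel.condition _)).ShortExact := fun n =>
    haveI := (hl n).2
    { exact := ShortComplex.exact_of_g_is_cokernel _ (cokernelIsCokernel _) }
  have hbm : ∀ n, Mono (b n) := fun n => (hl n).1.mono_cokernelDesc
  have hT₂ : ∀ n, (ShortComplex.mk (b n) (cokernel.π (b n)) (cokernel.condition _)).ShortExact := fun n =>
    haveI := hbm n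
    { exact := ShortComplex.exact_of_g_is_cokernel _ (cokernelIsCokernel _) }
  have hπb : ∀ n, cokernel.π _ ≫ b n = H.map (g n) := fun n => cokernel.π_desc _ _ _
  have hcb : ∀ n, Nonempty (cokernel (b n) ≅ (E F (n + 1)).obj G) := fun n => by
    obtain ⟨c⟩ := hc n
    exact ⟨(cokernelEpiComp (cokernel.π (H.map (kernel.ι (d n)))) (b n)).symm ≪≫
      eqToIso (by congr 1; exact hπb n) ≪≫ c⟩
  have hB : ∀ n, (∀ q, Subsingleton (Abelian.Ext O (H.obj (Z n)) (q + 1))) →
      ∀ q, Subsingleton (Abelian.Ext O (cokernel (H.map (kernel.ι (d n)))) (q + 1)) := fun n hK q =>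
    subsingleton_of_forall_eq 0 fun x => by
      obtain ⟨y, rfl⟩ := Abelian.Ext.covariant_sequence_exact₃ O (hT₁ n) x (n₁ := q + 2) rfl ((hK (q + 1)).elim _ _)
      rw [show y = 0 from (subsingleton_ext_unit_hom F (I n) q).elim _ _, Abelian.Ext.zero_comp]
  have hK : ∀ n, n ≤ m → ∀ q, Subsingleton (Abelian.Ext O (H.obj (Z n)) (q + 1)) := by
    intro n
    induction n with
    | zero =>
      intro _ q
      let ψ : G ≅ Z 0 := IsLimit.conePointUniqueUpToIso R.isLimitKernelFork (limit.isLimit _)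
      exact @Equiv.subsingleton _ _ (((Abelian.extFunctorObj O (q + 1)).mapIso
        (((zeroIso F).app G) ≪≫ H.mapIso ψ)).addCommGroupIsoToAddEquiv).symm.toEquiv (h 0 (by omega) q)
    | succ n ih =>
      intro hn q
      obtain ⟨c⟩ := hcb n
      refine subsingleton_of_forall_eq 0 fun x => ?_
      have hq : Subsingleton (Abelian.Ext O (cokernel (b n)) (q + 1)) :=
        @Equiv.subsingleton _ _ (((Abelian.extFunctorObj O (q + 1)).mapIso c).addCommGroupIsoToAddEquiv).toEquiv
          (h (n + 1) (by omega) q)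
      obtain ⟨y, rfl⟩ := Abelian.Ext.covariant_sequence_exact₂ O (hT₂ n) x (hq.elim _ _)
      rw [show y = 0 from (hB n (ih (by omega)) q).elim _ _, Abelian.Ext.zero_comp]
  -- compare the two quotients of `Hom(F, Z)`
  obtain ⟨L, hLs, hLk⟩ := exists_shift_map (A := A) F Z I (fun n => kernel.ι (d n)) g w hS m 0 m (zero_add m)
  obtain ⟨c⟩ := hcb m
  let q : (F ⟶ Z (m + 1)) →ₗ[A] (O ⟶ (E F (m + 1)).obj G) :=
    (Linear.rightComp A O (cokernel.π (b m) ≫ c.hom)) ∘ₗ (evLin F (Z (m + 1))).symm.toLinearMap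
  have hq : ∀ v, q v = (evLin (A := A) F (Z (m + 1))).symm v ≫ cokernel.π (b m) ≫ c.hom := fun v => rfl
  have hlift : ∀ {S : ShortComplex X.Modules} (hS : S.ShortExact),
      Subsingleton (Abelian.Ext O S.X₁ 1) → ∀ x : O ⟶ S.X₃, ∃ y, y ≫ S.g = x := fun {S} hS h1 x => by
    obtain ⟨y, hy⟩ := Abelian.Ext.covariant_sequence_exact₃ O hS (Abelian.Ext.mk₀ x) (n₁ := 1) rfl (h1.elim _ _)
    obtain ⟨y, rfl⟩ := (Abelian.Ext.mk₀_bijective _ _).2 y
    rw [Abelian.Ext.mk₀_comp_mk₀] at hy
    exact ⟨y, (Abelian.Ext.mk₀_bijective _ _).1 hy⟩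
  let ψ : G ≅ Z 0 := IsLimit.conePointUniqueUpToIso R.isLimitKernelFork (limit.isLimit _)
  have hqs : Function.Surjective q := fun x => by
    obtain ⟨y, hy⟩ := hlift (hT₂ m) (hB m (hK m le_rfl) 0) (x ≫ c.inv)
    refine ⟨evLin (A := A) F _ y, ?_⟩
    rw [hq, LinearEquiv.symm_apply_apply]
    have hy' : y ≫ cokernel.π (b m) = x ≫ c.inv := hy
    rw [reassoc_of% hy', c.inv_hom_id, Category.comp_id]
  have hqk : ∀ v, L v = 0 ↔ q v = 0 := fun v => (hLk v).trans <| by
    rw [hq]
    constructor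
    · rintro ⟨u, rfl⟩
      have e : (evLin (A := A) F (Z (m + 1))).symm (u ≫ g m) = (evLin (A := A) F (I m)).symm u ≫ H.map (g m) :=
        (LinearEquiv.symm_apply_eq _).2 ((congrArg (· ≫ g m) ((evLin (A := A) F (I m)).apply_symm_apply u)).symm.trans
          (SheafHomX.ev_naturality _ _).symm)
      rw [e, ← hπb]
      simp only [Category.assoc]
      rw [cokernel.condition_assoc]
      simp
    · intro hv
      have h0 : (evLin (A := A) F (Z (m + 1))).symm v ≫ cokernel.π (b m) = 0 := by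
        rw [← cancel_mono c.hom, Category.assoc, hv, zero_comp]
      haveI := hbm m
      let z := (hT₂ m).exact.lift _ h0
      obtain ⟨u, hu⟩ := hlift (hT₁ m) (hK m le_rfl 0) z
      refine ⟨evLin (A := A) F (I m) u, ?_⟩
      have hu' : u ≫ H.map (g m) = (evLin (A := A) F (Z (m + 1))).symm v := by
        rw [← hπb, ← Category.assoc, show u ≫ cokernel.π (H.map (kernel.ι (d m))) = z from hu]
        exact (hT₂ m).exact.lift_f _ h0
      have := congrArg (evLin (A := A) F (Z (m + 1))) hu'
      rw [LinearEquiv.apply_symm_apply] at this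
      exact (SheafHomX.ev_naturality u (g m)).symm.trans this
  obtain ⟨e₁⟩ := exists_equiv_of_ker_eq L q hLs hqs hqk
  let e₀ : Abelian.Ext F G (m + 1) ≃ₗ[A] Abelian.Ext F (Z 0) (m + 1) :=
    { ((Abelian.extFunctorObj F (m + 1)).mapIso ψ).addCommGroupIsoToAddEquiv with
      map_smul' := fun r y => Abelian.Ext.smul_comp y (Abelian.Ext.mk₀ ψ.hom) (add_zero _) r }
  exact ⟨e₀.trans e₁⟩

end Groth.Agent.ExtShX
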