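import Groth.Agent.ExtShX.Stalk
import Mathlib.CategoryTheory.Preadditive.Projective.Preserves
import Mathlib.Algebra.Category.ModuleCat.ChangeOfRings
import Mathlib.Algebra.Category.ModuleCat.Projective
import Mathlib.Algebra.Category.ModuleCat.EnoughInjectives
import Mathlib.Algebra.Homology.DerivedCategory.Ext.EnoughProjectives
import Mathlib.Algebra.Homology.DerivedCategory.Ext.ExactSequences
import Mathlib.Algebra.Homology.DerivedCategory.Ext.Linear
import Mathlib.Algebra.Homology.DerivedCategory.Ext.Map

/-!
# `Ext` along an equivalence of categories and along an isomorphism of rings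
-/

set_option linter.style.haveILetI false
set_option linter.unusedSectionVars false
set_option backward.isDefEq.respectTransparency false
set_option backward.isDefEq.respectTransparency.types false
set_option maxHeartbeats 1000000

universe u

open CategoryTheory CategoryTheory.Limits

noncomputable section

namespace Groth.Agent.ExtShX

variable {C : Type (u + 1)} [Category.{u} C] [Abelian C] [HasExt.{u} C] [EnoughProjectives C]
  {D : Type (u + 1)} [Category.{u} D] [Abelian D] [HasExt.{u} D]
  (F : C ⥤ D) [F.Additive] [PreservesFiniteLimits F] [PreservesFiniteColimits F] [F.Full] [F.Faithful]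
  [F.PreservesProjectiveObjects]

/-- A fully faithful exact functor preserving projectives preserves `Ext`. -/
theorem bijective_mapExactFunctor : ∀ (n : ℕ) (X Y : C),
    Function.Bijective (Abelian.Ext.mapExactFunctor F : Abelian.Ext X Y n → Abelian.Ext (F.obj X) (F.obj Y) n) := by
  intro n
  induction n with
  | zero =>
    intro X Y
    rw [Abelian.Ext.mapExactFunctor₀]
    exact Abelian.Ext.homEquiv₀.symm.bijective.comp
      ((Functor.FullyFaithful.ofFullyFaithful F).map_bijective X Y |>.comp Abelian.Ext.homEquiv₀.bijective)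
  | succ n ih =>
    intro X Y
    let P := Classical.choice (EnoughProjectives.presentation X)
    let S : ShortComplex C := ShortComplex.mk (kernel.ι P.f) P.f (kernel.condition P.f)
    have hS : S.ShortExact := { exact := ShortComplex.exact_of_f_is_kernel _ (kernelIsKernel P.f) }
    haveI : Projective S.X₂ := P.projective
    haveI : Projective (S.map F).X₂ := F.projective_obj S.X₂
    have hS' := hS.map_of_exact F
    have key : ∀ z : Abelian.Ext S.X₁ Y n, (hS.extClass.comp z (add_comm 1 n)).mapExactFunctor F =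
        hS'.extClass.comp (z.mapExactFunctor F) (add_comm 1 n) := fun z => by
      rw [Abelian.Ext.mapExactFunctor_comp, Abelian.Ext.mapExactFunctor_extClass]
    have hδ : ∀ e : Abelian.Ext X Y (n + 1), ∃ z, hS.extClass.comp z (add_comm 1 n) = e := fun e =>
      Abelian.Ext.contravariant_sequence_exact₃ hS Y e (Abelian.Ext.eq_zero_of_projective _) (add_comm 1 n)
    constructor
    · refine (injective_iff_map_eq_zero (F.mapExtAddHom X Y (n + 1))).2 fun e he => ?_
      obtain ⟨z, rfl⟩ := hδ e
      rw [Functor.mapExtAddHom_apply, key] at he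
      obtain ⟨w', hw'⟩ := Abelian.Ext.contravariant_sequence_exact₁ hS' (F.obj Y) (z.mapExactFunctor F)
        (add_comm 1 n) he
      obtain ⟨w, rfl⟩ := (ih S.X₂ Y).2 w'
      have hz : (Abelian.Ext.mk₀ S.f).comp w (zero_add n) = z := (ih S.X₁ Y).1 (by
        rw [Abelian.Ext.mapExactFunctor_comp, Abelian.Ext.mapExactFunctor_mk₀]
        exact hw')
      rw [← hz]
      exact hS.extClass_comp_assoc _
    · intro e'
      obtain ⟨z', hz'⟩ := Abelian.Ext.contravariant_sequence_exact₃ hS' (F.obj Y) e'
        (Abelian.Ext.eq_zero_of_projective _) (add_comm 1 n)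
      obtain ⟨z, rfl⟩ := (ih S.X₁ Y).2 z'
      exact ⟨hS.extClass.comp z (add_comm 1 n), (key z).trans hz'⟩

variable {A B : Type u} [CommRing A] [CommRing B]

/-- `Ext` transports along an isomorphism of rings, semilinearly. -/
theorem exists_ext_semilinear (e : A ≃+* B) {M N : ModuleCat.{u} A} {M' N' : ModuleCat.{u} B} (fM : M ≃+ M')
    (fN : N ≃+ N') (hM : ∀ a m, fM (a • m) = e a • fM m) (hN : ∀ a m, fN (a • m) = e a • fN m) (i : ℕ) :
    ∃ Φ : Abelian.Ext M N i ≃+ Abelian.Ext M' N' i, ∀ a x, Φ (a • x) = e a • Φ x := by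
  let Q := ModuleCat.restrictScalarsEquivalenceOfRingEquiv e.symm
  let G := Q.functor
  haveI : G.IsEquivalence := Q.isEquivalence_functor
  haveI : G.Additive := Functor.additive_of_preserves_binary_products _
  haveI : G.PreservesEpimorphisms := inferInstance
  haveI : G.PreservesProjectiveObjects := ⟨fun {P} hP => (Q.map_projective_iff P).2 hP⟩
  let iM : G.obj M ≅ M' := LinearEquiv.toModuleIso
    ({ fM with map_smul' := fun b m => (hM (e.symm b) m).trans (by rw [e.apply_symm_apply]; rfl) } :
      (G.obj M) ≃ₗ[B] M')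
  let iN : G.obj N ≅ N' := LinearEquiv.toModuleIso
    ({ fN with map_smul' := fun b m => (hN (e.symm b) m).trans (by rw [e.apply_symm_apply]; rfl) } :
      (G.obj N) ≃ₗ[B] N')
  let E₀ : Abelian.Ext M N i ≃+ Abelian.Ext (G.obj M) (G.obj N) i :=
    AddEquiv.ofBijective (G.mapExtAddHom M N i) (bijective_mapExactFunctor G i M N)
  have hE₀ : ∀ a x, E₀ (a • x) = e a • E₀ x := fun a x => by
    show (a • x).mapExactFunctor G = e a • x.mapExactFunctor G
    have h : G.map (a • 𝟙 M) = e a • 𝟙 (G.obj M) := ModuleCat.hom_ext (LinearMap.ext fun m => by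
      show a • (show M from m) = e.symm (e a) • (show M from m)
      rw [e.symm_apply_apply])
    have h1 : a • x = (Abelian.Ext.mk₀ (a • 𝟙 M)).comp x (zero_add i) := by
      rw [Abelian.Ext.mk₀_smul, Abelian.Ext.smul_comp, Abelian.Ext.mk₀_id_comp]
    rw [h1, Abelian.Ext.mapExactFunctor_comp, Abelian.Ext.mapExactFunctor_mk₀, h, Abelian.Ext.mk₀_smul,
      Abelian.Ext.smul_comp, Abelian.Ext.mk₀_id_comp]
  let E₁ : Abelian.Ext (G.obj M) (G.obj N) i ≃+ Abelian.Ext M' N' i :=
    { toFun := fun x => ((Abelian.Ext.mk₀ iM.inv).comp x (zero_add i)).comp (Abelian.Ext.mk₀ iN.hom) (add_zero i)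
      invFun := fun x => ((Abelian.Ext.mk₀ iM.hom).comp x (zero_add i)).comp (Abelian.Ext.mk₀ iN.inv) (add_zero i)
      left_inv := fun x => by simp
      right_inv := fun x => by simp
      map_add' := fun x y => by simp }
  refine ⟨E₀.trans E₁, fun a x => ?_⟩
  show E₁ (E₀ (a • x)) = e a • E₁ (E₀ x)
  rw [hE₀]
  show ((Abelian.Ext.mk₀ iM.inv).comp (e a • E₀ x) (zero_add i)).comp (Abelian.Ext.mk₀ iN.hom) (add_zero i) = _
  rw [Abelian.Ext.comp_smul, Abelian.Ext.smul_comp]
  rfl

end Groth.Agent.ExtShX
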