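import Groth.Agent.ExtShX.Basic
import Groth.Agent.KFlatLib.Scheme.MayerVietoris
import Groth.Agent.KFlatLib.Scheme.TensorStalk
import Groth.Agent.LimMod.Exact
import Groth.Prelude.Def_DCoh4

/-!
# Internal Hom into an injective module is flasque
-/

set_option linter.style.haveILetI false
set_option backward.isDefEq.respectTransparency false
set_option backward.isDefEq.respectTransparency.types false
set_option maxHeartbeats 1000000

universe u

open CategoryTheory CategoryTheory.Limits AlgebraicGeometry TopologicalSpace Opposite MonoidalCategory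

noncomputable section

namespace Groth.Agent.ExtShX

variable {X : Scheme.{u}}

/-- `lsh O_U ⟶ O`. -/
def openIncl (U : X.Opens) : (KFlatLib.lsh U.ι).obj (Coh.structureModule U) ⟶ Coh.structureModule X :=
  ((KFlatLib.lshAdj U.ι).homEquiv _ _).symm (KFlatLib.restrictStructureIso U.ι).inv

theorem isIso_stalk_openIncl (U : X.Opens) (x : X) (hx : x ∈ U) :
    IsIso ((DerSch.stalkFunctor X x).map (openIncl U)) := by
  haveI := KFlatLib.isIso_stalk_lsh_counit U (Coh.structureModule X) x hx
  rw [openIncl, Adjunction.homEquiv_counit, Functor.map_comp]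
  infer_instance

/-- Tensoring keeps the inclusion of `lsh O_U` injective. -/
theorem mono_tensor_openIncl (F : X.Modules) (U : X.Opens) :
    Mono (((DCoh.tensorBi (X := X)).obj F).map (openIncl U)) := by
  refine LimMod.mono_of_stalks _ fun x => ?_
  by_cases hx : x ∈ U
  · haveI := isIso_stalk_openIncl U x hx
    haveI : IsIso ((DerSch.stalkFunctor X x).map (((DCoh.tensorBi (X := X)).obj F).map (openIncl U))) := by
      have h := KFlatLib.stalkTensorIso_naturality (x := x) (𝟙 F) (openIncl U)
      simp only [CategoryTheory.Functor.map_id, NatTrans.id_app] at h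
      erw [Category.id_comp] at h
      rw [← Iso.inv_comp_eq] at h
      rw [← h]
      infer_instance
    infer_instance
  · have h : IsZero ((DerSch.stalkFunctor X x).obj
        (((DCoh.tensorBi (X := X)).obj F).obj ((KFlatLib.lsh U.ι).obj (Coh.structureModule U)))) :=
      IsZero.of_iso ((tensorLeft _).map_isZero (KFlatLib.isZero_stalk_lsh U.ι x
        (fun h => hx (by rw [Scheme.Opens.range_ι] at h; exact h)) _)) (KFlatLib.stalkTensorIso x _ _).symm
    exact ⟨fun _ _ _ => h.eq_of_tgt _ _⟩

/-- Sections of `Hom(F, I)` on an open extend to global sections for `I` injective. -/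
theorem surjective_res_sheafHom (F I : X.Modules) [DCoh.HasSheafHom F] [Injective I] (U : X.Opens) :
    Function.Surjective (AModX.res ((DCoh.sheafHom F).obj I) (le_top : U ≤ ⊤)) := by
  intro s
  let H := (DCoh.sheafHom F).obj I
  let A := KFlatLib.lshAdj U.ι
  let B := DCoh.sheafHomAdj F
  let e := KFlatLib.restrictStructureIso U.ι
  let t : Γ((Scheme.Modules.restrictFunctor U.ι).obj H, ⊤) := AModX.res H (U.ι_image_le ⊤) s
  let b : Γ((U : Scheme.{u}), ⊤) := e.inv.app ⊤ (1 : Γ((U : Scheme.{u}), ⊤))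
  let a : Γ((U : Scheme.{u}), ⊤) := e.hom.app ⊤ (1 : Γ((U : Scheme.{u}), ⊤))
  let σ := (A.homEquiv _ _).symm (InvX.ofSect (X := (U : Scheme.{u})) (b • t))
  haveI := mono_tensor_openIncl F U
  let τ : Coh.structureModule X ⟶ H :=
    B.homEquiv _ _ (Injective.factorThru ((B.homEquiv _ _).symm σ) (((DCoh.tensorBi (X := X)).obj F).map (openIncl U)))
  have hτ : openIncl U ≫ τ = σ := by
    apply (B.homEquiv _ _).symm.injective
    rw [Adjunction.homEquiv_naturality_left_symm, Equiv.symm_apply_apply]
    exact Injective.comp_factorThru _ _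
  have h1 : e.inv ≫ (Scheme.Modules.restrictFunctor U.ι).map τ = InvX.ofSect (X := (U : Scheme.{u})) (b • t) := by
    have h := congrArg (A.homEquiv _ _) hτ
    rw [Adjunction.homEquiv_naturality_right, openIncl, Equiv.apply_symm_apply, Equiv.apply_symm_apply] at h
    exact h
  rw [Iso.inv_comp_eq] at h1
  refine ⟨InvX.one τ, ?_⟩
  have hba : a * b = 1 := by
    have h := congrArg (fun q => q.app ⊤ (1 : Γ((U : Scheme.{u}), ⊤))) e.inv_hom_id
    have h' := Scheme.Modules.Hom.app_smul e.hom (U := ⊤) b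
      (show Γ((Scheme.Modules.restrictFunctor U.ι).obj (Coh.structureModule X), ⊤) from (1 : Γ((U : Scheme.{u}), ⊤)))
    rw [mul_comm]
    refine (h'.symm.trans ((congrArg (e.hom.app ⊤) ?_).trans h))
    show (U.ι.appIso ⊤).inv b * (1 : Γ(X, U.ι ''ᵁ ⊤)) = _
    rw [mul_one, Scheme.Opens.ι_appIso]
    rfl
  have h2 : τ.app (U.ι ''ᵁ ⊤) (1 : Γ(X, U.ι ''ᵁ ⊤)) = t := by
    have h := congrArg (fun q => q.app ⊤ (1 : Γ((U : Scheme.{u}), ⊤))) h1
    refine h.trans ?_
    refine (InvX.app_eq_smul (InvX.ofSect (X := (U : Scheme.{u})) (b • t)) (W := ⊤) a).trans ?_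
    rw [InvX.one_ofSect, AModX.res_self, smul_smul, hba, one_smul]
  have h3 : AModX.res H (le_top : U.ι ''ᵁ ⊤ ≤ ⊤) (InvX.one τ) = t := by
    rw [InvX.one, ← AModX.app_res]
    refine Eq.trans (congrArg _ ?_) h2
    exact map_one (X.presheaf.map (homOfLE (le_top : U.ι ''ᵁ ⊤ ≤ ⊤)).op).hom
  have h4 := congrArg (AModX.res H (show U ≤ U.ι ''ᵁ ⊤ by simp)) h3
  rw [AModX.res_res] at h4
  exact h4.trans ((AModX.res_res _ _ s).trans (AModX.res_self s))

/-- `Hom(F, I)` is flasque. -/
theorem surjective_map_sheafHom (F I : X.Modules) [DCoh.HasSheafHom F] [Injective I] {U V : X.Opens} (hUV : U ≤ V) :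
    Function.Surjective (AModX.res ((DCoh.sheafHom F).obj I) hUV) := fun s => by
  obtain ⟨t, rfl⟩ := surjective_res_sheafHom F I U s
  exact ⟨AModX.res _ le_top t, AModX.res_res _ _ t⟩

end Groth.Agent.ExtShX
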