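import Groth.Agent.ExtShX.DualTensor
import Groth.Agent.ExtShX.KoszulGlobal
import Groth.Agent.ExtShX.Affine

/-!
# Internal Hom and sheaf Hom out of finite locally free modules
-/

set_option linter.style.haveILetI false
set_option linter.unusedSectionVars false
set_option backward.isDefEq.respectTransparency false
set_option backward.isDefEq.respectTransparency.types false
set_option maxHeartbeats 1000000

universe u

open CategoryTheory CategoryTheory.Limits AlgebraicGeometry TopologicalSpace Opposite
open scoped TensorProduct

noncomputable section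

attribute [local instance] CategoryTheory.Abelian.hasFiniteBiproducts

namespace Groth.Agent.ExtShX

variable {X : Scheme.{u}}

theorem bijective_phi_iff (G : X.Modules) {U : X.Opens} {L L' : X.Modules} (g : L' ⟶ L)
    (hg : ∀ x ∈ U, IsIso ((DerSch.stalkFunctor X x).map g)) {x : X} (hx : x ∈ U) :
    Function.Bijective (phi x L' G) ↔ Function.Bijective (phi x L G) := by
  let σ := DerSch.stalkFunctor X x
  haveI := isIso_restrict_homMap g hg G
  haveI : IsIso (σ.map ((SheafHomX.homMap g).app G)) := isIso_stalk_of_restrict _ hx
  haveI := hg x hx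
  let a := (asIso (σ.map ((SheafHomX.homMap g).app G))).toLinearEquiv
  let b := (asIso (σ.map g)).toLinearEquiv.congrLeft (σ.obj G) (X.presheaf.stalk x)
  have h : (fun m => phi x L' G (a m)) = fun m => b.symm (phi x L G m) := funext fun m => by
    refine (phi_natural x g G m).trans ?_
    refine LinearMap.ext fun v => ?_
    simp [b, LinearEquiv.congrLeft, σ]
  constructor
  · intro hb
    have h1 : Function.Bijective (fun m => b.symm (phi x L G m)) := h ▸ hb.comp a.bijective
    exact (b.symm.bijective.of_comp_iff' _).1 h1
  · intro hb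
    have h1 : Function.Bijective (fun m => phi x L' G (a m)) := h.symm ▸ b.symm.bijective.comp hb
    exact (Function.Bijective.of_comp_iff _ a.bijective).1 h1

theorem bijective_phi_of_locFree (x : X) {L : X.Modules} (hL : FlatMod.IsFinLocFree L) (G : X.Modules) :
    Function.Bijective (phi x L G) := by
  classical
  obtain ⟨U, n, hx, ⟨e⟩⟩ := hL x
  let R := Scheme.Modules.restrictFunctor U.ι
  let lsh := KFlatLib.lsh U.ι
  haveI : lsh.Additive := by
    haveI : PreservesColimits lsh := (KFlatLib.lshAdj U.ι).leftAdjoint_preservesColimits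
    exact Functor.additive_of_preserves_binary_products _
  refine (bijective_phi_iff G ((KFlatLib.lshAdj U.ι).counit.app L)
    (fun y hy => KFlatLib.isIso_stalk_lsh_counit U L y hy) hx).1 ?_
  let O' := Coh.structureModule (U : Scheme.{u})
  let p : ∀ a : Fin n, R.obj L ⟶ O' := fun a =>
    e.hom ≫ Sigma.desc (fun b => if b = a then 𝟙 O' else 0)
  let q : ∀ a : Fin n, O' ⟶ R.obj L := fun a => Sigma.ι (fun _ : Fin n => O') a ≫ e.inv
  have hpq : ∑ a, p a ≫ q a = 𝟙 (R.obj L) := by
    simp only [p, q, Category.assoc]
    rw [← Preadditive.comp_sum, ← cancel_mono e.hom, Category.assoc, Category.id_comp]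
    conv_rhs => rw [← Category.comp_id e.hom]
    congr 1
    refine Sigma.hom_ext _ _ fun b => ?_
    rw [Preadditive.sum_comp, Preadditive.comp_sum]
    simp [colimit.ι_desc_assoc, ite_comp]
    exact Category.id_comp _
  refine bijective_phi_of_decomposition x (fun _ : ULift.{u} (Fin n) => lsh.obj O') (fun a => lsh.map (p a.down))
    (fun a => lsh.map (q a.down)) ?_ G fun _ => ?_
  · rw [show (∑ a : ULift.{u} (Fin n), lsh.map (p a.down) ≫ lsh.map (q a.down)) = lsh.map (∑ a, p a ≫ q a) by
      rw [Functor.map_sum]
      exact Fintype.sum_equiv Equiv.ulift _ _ fun a => (Functor.map_comp _ _ _).symm, hpq,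
      CategoryTheory.Functor.map_id]
  · exact (bijective_phi_iff G (openIncl U) (fun y hy => isIso_stalk_openIncl U y hy) hx).2 (bijective_phi_unit x G)

/-- The internal Hom and the sheaf Hom agree on finite locally free modules. -/
theorem nonempty_hom_iso_homSh_of_locFree {L : X.Modules} (hL : FlatMod.IsFinLocFree L) (G : X.Modules) :
    Nonempty ((SheafHomX.hom L).obj G ≅ RefHull.homSh L G) := by
  let H := (SheafHomX.hom L).obj G
  let fam : ∀ (U : X.Opens), Γ(H, U) → Γ(RefHull.homSh L G, U) := fun U t =>
    ⟨fun z => phi z.1 L G (H.presheaf.germ U z.1 z.2 t), fun V i m z => by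
      refine ⟨V, z.2, 𝟙 V, ((SheafHomX.adj L).counit.app G).app V (KFlatLib.tmSh H L (AModX.res H i.le t) m),
        fun y => ?_⟩
      refine (phi_apply y.1 L G _ _).trans ?_
      rw [← RefX.germ_res H i.le y.2 t]
      refine (congrArg ((DerSch.stalkFunctor X y.1).map ((SheafHomX.adj L).counit.app G)).hom
        (KFlatLib.stalkTensorIso_gm H L V y.2 (AModX.res H i.le t) m)).trans ?_
      exact DerSch.stalkFunctor_map_germ y.1 _ V y.2 _⟩
  let α : H ⟶ RefHull.homSh L G :=
    ⟨PresheafOfModules.homMk
      { app := fun U => AddCommGrpCat.ofHom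
          { toFun := fam U.unop
            map_zero' := RefX.sect_ext fun z => by
              show phi z.1 L G _ = 0
              rw [map_zero]; exact map_zero _
            map_add' := fun a b => RefX.sect_ext fun z => by
              show phi z.1 L G _ = phi z.1 L G _ + phi z.1 L G _
              rw [map_add]; exact map_add _ _ _ }
        naturality := fun {U V} i => by
          ext t
          refine RefX.sect_ext fun z => ?_
          show phi z.1 L G _ = phi z.1 L G _
          exact congrArg _ (TopCat.Presheaf.germ_res_apply' H.presheaf i z.1 z.2 t) }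
      (fun U a t => RefX.sect_ext fun z => by
        show phi z.1 L G _ = X.presheaf.germ U.unop z.1 z.2 a • phi z.1 L G _
        exact (congrArg _ (QCoh.germ_smul' H z.2 a t)).trans (map_smul _ _ _))⟩
  have hev : ∀ x (m : H.presheaf.stalk x), RefHull.evalStalk L G x (stk α x m) = phi x L G m := fun x m => by
    obtain ⟨U, hU, t, rfl⟩ := TopCat.Presheaf.exists_germ_eq H.presheaf m
    erw [stk_germ α hU t, RefHull.evalStalk_germ]
    rfl
  have hft : CohB1.IsFT L := QCoh.isFT_of_isFP (QCoh.isFP_of_isFinLocFree hL)
  have hphi : ∀ x, Function.Bijective (phi x L G) := fun x => bijective_phi_of_locFree x hL G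
  haveI : IsIso α := KFlatLib.isIso_of_stalk _ fun x => by
    refine (ConcreteCategory.isIso_iff_bijective _).2 ⟨fun a b hab => (hphi x).1 ?_, fun v => ?_⟩
    · rw [← hev, ← hev]; exact congrArg _ hab
    · obtain ⟨m, hm⟩ := (hphi x).2 (RefHull.evalStalk L G x v)
      exact ⟨m, RefX.evalStalk_injective hft x ((hev x m).trans hm)⟩
  exact ⟨asIso α⟩

end Groth.Agent.ExtShX
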