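import Mathlib.RingTheory.LocalRing.MaximalIdeal.Basic
import Mathlib.LinearAlgebra.Alternating.Curry
import Mathlib.GroupTheory.Perm.Sign
import Mathlib.RingTheory.Nakayama
import Mathlib.Data.Fin.Tuple.Basic
import Mathlib.RingTheory.Finiteness.Basic

/-!
# Lifting along a sequence in a complex

For a complex `M` whose terms are divisible by a sequence `g`, a cocycle of degree `0` lifts to a cocycle of degree `r`
killed by `g`. We study how the class of the lift depends on the sequence.
-/

set_option linter.unusedSectionVars false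

universe u v

namespace Groth.Agent.KoszulLift

variable {A : Type u} [CommRing A] (M : ℕ → Type v) [∀ n, AddCommGroup (M n)] [∀ n, Module A (M n)]
  (d : ∀ n, M n →ₗ[A] M (n + 1))

/-- All terms of the sequence kill `m`. -/
def Kills {N : Type v} [AddCommGroup N] [Module A N] {r : ℕ} (g : Fin r → A) (m : N) : Prop := ∀ i, g i • m = 0

section Kills

variable {N : Type v} [AddCommGroup N] [Module A N] {r : ℕ} {g : Fin r → A}

theorem Kills.zero : Kills g (0 : N) := fun i => smul_zero _

theorem Kills.add {m m' : N} (h : Kills g m) (h' : Kills g m') : Kills g (m + m') := fun i => by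
  rw [smul_add, h i, h' i, add_zero]

theorem Kills.smul {m : N} (h : Kills g m) (a : A) : Kills g (a • m) := fun i => by
  rw [smul_comm, h i, smul_zero]

theorem Kills.neg {m : N} (h : Kills g m) : Kills g (-m) := fun i => by rw [smul_neg, h i, neg_zero]

theorem Kills.sub {m m' : N} (h : Kills g m) (h' : Kills g m') : Kills g (m - m') := fun i => by
  rw [smul_sub, h i, h' i, sub_zero]

theorem Kills.map {N' : Type v} [AddCommGroup N'] [Module A N'] {m : N} (h : Kills g m) (φ : N →ₗ[A] N') :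
    Kills g (φ m) := fun i => by rw [← map_smul, h i, map_zero]

theorem kills_succ_iff {g : Fin (r + 1) → A} {m : N} : Kills g m ↔ g 0 • m = 0 ∧ Kills (Fin.tail g) m :=
  ⟨fun h => ⟨h 0, fun i => h i.succ⟩, fun h i => Fin.cases h.1 h.2 i⟩

theorem kills_iff_span {m : N} : Kills g m ↔ ∀ a ∈ Ideal.span (Set.range g), a • m = 0 := by
  refine ⟨fun h a ha => ?_, fun h i => h _ (Ideal.subset_span ⟨i, rfl⟩)⟩
  induction ha using Submodule.span_induction with
  | mem x hx => obtain ⟨i, rfl⟩ := hx; exact h i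
  | zero => exact zero_smul _ _
  | add x y _ _ hx hy => rw [add_smul, hx, hy, add_zero]
  | smul a x _ hx => rw [smul_eq_mul, mul_smul, hx, smul_zero]

theorem kills_congr {r' : ℕ} {g' : Fin r' → A} (h : Ideal.span (Set.range g) = Ideal.span (Set.range g')) {m : N} :
    Kills g m ↔ Kills g' m := by rw [kills_iff_span, kills_iff_span, h]

end Kills

/-- `s` is a lift of `f` along `g`. -/
def IsLift : ∀ {r : ℕ}, (Fin r → A) → M 0 → M r → Prop
  | 0, _, f, s => s = f
  | r + 1, g, f, s => ∃ s₀, IsLift (Fin.tail g) f s₀ ∧ ∃ t, Kills (Fin.tail g) t ∧ g 0 • t = s₀ ∧ d r t = s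

/-- Boundaries among the elements killed by `g`. -/
def Bd : ∀ {r : ℕ}, (Fin r → A) → M r → Prop
  | 0, _, s => s = 0
  | r + 1, g, s => ∃ u, Kills g u ∧ d r u = s

/-- Divisibility by the sequence. -/
def Div {r : ℕ} (g : Fin r → A) : Prop :=
  ∀ (j : Fin r) (q : ℕ) (s : M q), (∀ i, j < i → g i • s = 0) → ∃ t, (∀ i, j < i → g i • t = 0) ∧ g j • t = s

variable {M d}

theorem Div.tail {r : ℕ} {g : Fin (r + 1) → A} (h : Div M g) : Div M (Fin.tail g) := fun j q s hs => by
  obtain ⟨t, ht, hjt⟩ := h j.succ q s fun i hi => by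
    obtain ⟨i', rfl⟩ := Fin.exists_succ_eq.2 (Fin.ne_zero_of_lt hi)
    exact hs i' (Fin.succ_lt_succ_iff.1 hi)
  exact ⟨t, fun i hi => ht i.succ (Fin.succ_lt_succ_iff.2 hi), hjt⟩

theorem Div.head {r : ℕ} {g : Fin (r + 1) → A} (h : Div M g) {q : ℕ} {s : M q} (hs : Kills (Fin.tail g) s) :
    ∃ t, Kills (Fin.tail g) t ∧ g 0 • t = s := by
  obtain ⟨t, ht, hjt⟩ := h 0 q s fun i hi => by
    obtain ⟨i', rfl⟩ := Fin.exists_succ_eq.2 (Fin.ne_zero_of_lt hi)
    exact hs i'
  exact ⟨t, fun i => ht i.succ (Fin.succ_pos i), hjt⟩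

section Bd

variable {r : ℕ} {g : Fin r → A}

theorem bd_zero : Bd M d g 0 := by
  cases r with
  | zero => rfl
  | succ r => exact ⟨0, Kills.zero, map_zero _⟩

theorem bd_add {s s' : M r} (h : Bd M d g s) (h' : Bd M d g s') : Bd M d g (s + s') := by
  cases r with
  | zero => simp only [Bd] at h h' ⊢; rw [h, h', add_zero]
  | succ r =>
    obtain ⟨u, hu, rfl⟩ := h
    obtain ⟨u', hu', rfl⟩ := h'
    exact ⟨u + u', hu.add hu', map_add _ _ _⟩

theorem bd_smul {s : M r} (h : Bd M d g s) (a : A) : Bd M d g (a • s) := by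
  cases r with
  | zero => simp only [Bd] at h ⊢; rw [h, smul_zero]
  | succ r =>
    obtain ⟨u, hu, rfl⟩ := h
    exact ⟨a • u, hu.smul a, map_smul _ _ _⟩

theorem bd_sub {s s' : M r} (h : Bd M d g s) (h' : Bd M d g s') : Bd M d g (s - s') := by
  rw [sub_eq_add_neg, ← neg_one_smul A s']
  exact bd_add h (bd_smul h' _)

theorem bd_congr {g' : Fin r → A} (h : Ideal.span (Set.range g) = Ideal.span (Set.range g')) {s : M r} :
    Bd M d g s ↔ Bd M d g' s := by
  cases r with
  | zero => exact Iff.rfl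
  | succ r => simp only [Bd, kills_congr h]

end Bd

variable (hd : ∀ n (m : M n), d (n + 1) (d n m) = 0)

include hd in
theorem bd_closed {r : ℕ} {g : Fin r → A} {s : M r} (h : Bd M d g s) : d r s = 0 := by
  cases r with
  | zero => simp only [Bd] at h; rw [h, map_zero]
  | succ r => obtain ⟨u, -, rfl⟩ := h; exact hd r u

section Lift

theorem lift_add {r : ℕ} : ∀ {g : Fin r → A} {f f' : M 0} {s s' : M r},
    IsLift M d g f s → IsLift M d g f' s' → IsLift M d g (f + f') (s + s') := by
  induction r with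
  | zero => intro g f f' s s' h h'; simp only [IsLift] at h h' ⊢; rw [h, h']
  | succ r ih =>
    rintro g f f' _ _ ⟨s₀, hs₀, t, ht, rfl, rfl⟩ ⟨s₀', hs₀', t', ht', rfl, rfl⟩
    exact ⟨_, ih hs₀ hs₀', t + t', ht.add ht', smul_add _ _ _, map_add _ _ _⟩

theorem lift_smul {r : ℕ} : ∀ {g : Fin r → A} {f : M 0} {s : M r} (a : A),
    IsLift M d g f s → IsLift M d g (a • f) (a • s) := by
  induction r with
  | zero => intro g f s a h; simp only [IsLift] at h ⊢; rw [h]
  | succ r ih =>
    rintro g f _ a ⟨s₀, hs₀, t, ht, rfl, rfl⟩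
    exact ⟨_, ih a hs₀, a • t, ht.smul a, smul_comm _ _ _, map_smul _ _ _⟩

theorem lift_sub {r : ℕ} {g : Fin r → A} {f f' : M 0} {s s' : M r} (h : IsLift M d g f s) (h' : IsLift M d g f' s') :
    IsLift M d g (f - f') (s - s') := by
  rw [sub_eq_add_neg, sub_eq_add_neg, ← neg_one_smul A f', ← neg_one_smul A s']
  exact lift_add h (lift_smul _ h')

include hd in
theorem lift_spec {r : ℕ} : ∀ {g : Fin r → A} {f : M 0} {s : M r}, d 0 f = 0 → IsLift M d g f s →
    Kills g s ∧ d r s = 0 := by
  induction r with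
  | zero => intro g f s hf h; simp only [IsLift] at h; subst h; exact ⟨fun i => i.elim0, hf⟩
  | succ r ih =>
    rintro g f _ hf ⟨s₀, hs₀, t, ht, rfl, rfl⟩
    exact ⟨kills_succ_iff.2 ⟨by rw [← map_smul, (ih hf hs₀).2], ht.map _⟩, hd r t⟩

include hd in
theorem lift_exists {r : ℕ} : ∀ {g : Fin r → A}, Div M g → ∀ {f : M 0}, d 0 f = 0 → ∃ s, IsLift M d g f s := by
  induction r with
  | zero => intro g _ f _; exact ⟨f, rfl⟩
  | succ r ih =>
    intro g hg f hf
    obtain ⟨s₀, hs₀⟩ := ih hg.tail hf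
    obtain ⟨t, ht, hts⟩ := hg.head (lift_spec hd hf hs₀).1
    exact ⟨_, s₀, hs₀, t, ht, hts, rfl⟩

include hd in
/-- A boundary `x • t` has `d t` a boundary. -/
theorem bd_of_smul {r : ℕ} {g : Fin (r + 1) → A} (hg : Div M g) {t : M r} (ht : Kills (Fin.tail g) t)
    (h : Bd M d (Fin.tail g) (g 0 • t)) : Bd M d g (d r t) := by
  cases r with
  | zero => simp only [Bd] at h ⊢; exact ⟨t, kills_succ_iff.2 ⟨h, ht⟩, rfl⟩
  | succ r =>
    obtain ⟨u, hu, hut⟩ := h
    obtain ⟨u', hu', rfl⟩ := hg.head hu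
    refine ⟨t - d r u', kills_succ_iff.2 ⟨?_, ht.sub (hu'.map _)⟩, ?_⟩
    · rw [smul_sub, ← map_smul, hut, sub_self]
    · rw [map_sub, hd, sub_zero]

include hd in
theorem lift_zero_bd {r : ℕ} : ∀ {g : Fin r → A}, Div M g → ∀ {s : M r}, IsLift M d g 0 s → Bd M d g s := by
  induction r with
  | zero => intro g _ s h; exact h
  | succ r ih =>
    rintro g hg _ ⟨s₀, hs₀, t, ht, rfl, rfl⟩
    exact bd_of_smul hd hg ht (ih hg.tail hs₀)

include hd in
theorem lift_unique {r : ℕ} {g : Fin r → A} (hg : Div M g) {f : M 0} {s s' : M r} (h : IsLift M d g f s)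
    (h' : IsLift M d g f s') : Bd M d g (s - s') := by
  refine lift_zero_bd hd hg ?_
  have := lift_sub h h'
  rwa [sub_self] at this

include hd in
theorem lift_smul_bd {r : ℕ} {g : Fin r → A} (hg : Div M g) {f : M 0} (hf : d 0 f = 0) {a : A}
    (ha : a ∈ Ideal.span (Set.range g)) {s : M r} (h : IsLift M d g (a • f) s) : Bd M d g s := by
  obtain ⟨s', hs'⟩ := lift_exists hd hg hf
  have h1 := lift_unique hd hg h (lift_smul a hs')
  rwa [kills_iff_span.1 (lift_spec hd hf hs').1 a ha, sub_zero] at h1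

variable (hex : ∀ (q : ℕ) (s : M (q + 1)), d (q + 1) s = 0 → ∃ t, d q t = s)

include hd hex in
/-- Above degree `r` the elements killed by the sequence form an exact complex. -/
theorem exists_of_closed {r : ℕ} : ∀ {g : Fin r → A}, Div M g → ∀ {q : ℕ}, r ≤ q → ∀ {s : M (q + 1)},
    Kills g s → d (q + 1) s = 0 → ∃ u, Kills g u ∧ d q u = s := by
  induction r with
  | zero => intro g _ q _ s _ h; obtain ⟨t, ht⟩ := hex q s h; exact ⟨t, fun i => i.elim0, ht⟩
  | succ r ih =>
    intro g hg q hq s hks hs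
    obtain ⟨hs0, hst⟩ := kills_succ_iff.1 hks
    obtain ⟨t, ht, rfl⟩ := ih hg.tail (Nat.le_of_succ_le hq) hst hs
    obtain ⟨q, rfl⟩ : ∃ q', q = q' + 1 := ⟨q - 1, by omega⟩
    obtain ⟨u, hu, hut⟩ := ih hg.tail (Nat.le_of_succ_le_succ hq) (ht.smul (g 0)) (by rw [map_smul, hs0])
    obtain ⟨u', hu', rfl⟩ := hg.head hu
    refine ⟨t - d q u', kills_succ_iff.2 ⟨?_, ht.sub (hu'.map _)⟩, ?_⟩
    · rw [smul_sub, ← map_smul, hut, sub_self]
    · rw [map_sub, hd, sub_zero]

include hd hex in
/-- Every class is a lift. -/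
theorem lift_surjective {r : ℕ} : ∀ {g : Fin r → A}, Div M g → ∀ {s : M r}, Kills g s → d r s = 0 →
    ∃ f, d 0 f = 0 ∧ IsLift M d g f s := by
  induction r with
  | zero => intro g _ s _ h; exact ⟨s, h, rfl⟩
  | succ r ih =>
    intro g hg s hks hs
    obtain ⟨hs0, hst⟩ := kills_succ_iff.1 hks
    obtain ⟨t, ht, rfl⟩ := exists_of_closed hd hex hg.tail le_rfl hst hs
    obtain ⟨f, hf, h⟩ := ih hg.tail (ht.smul (g 0)) (by rw [map_smul, hs0])
    exact ⟨f, hf, _, h, t, ht, rfl, rfl⟩

include hd hex in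
/-- The lifts which are boundaries come from the ideal. -/
theorem lift_kernel {r : ℕ} : ∀ {g : Fin r → A}, Div M g → ∀ {f : M 0} {s : M r}, d 0 f = 0 →
    IsLift M d g f s → Bd M d g s → ∃ c : Fin r → M 0, (∀ i, d 0 (c i) = 0) ∧ f = ∑ i, g i • c i := by
  induction r with
  | zero => intro g _ f s _ h hb; simp only [IsLift, Bd] at h hb; exact ⟨fun i => i.elim0, fun i => i.elim0, by simp [← h, hb]⟩
  | succ r ih =>
    rintro g hg f _ hf ⟨s₀, hs₀, t, ht, rfl, rfl⟩ ⟨x, hx, hxt⟩
    obtain ⟨hx0, hxt'⟩ := kills_succ_iff.1 hx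
    obtain ⟨f₂, hf₂, h₂⟩ := lift_surjective hd hex hg.tail (s := t - x) (ht.sub hxt') (by rw [map_sub, hxt, sub_self])
    have h0 : IsLift M d (Fin.tail g) (f - g 0 • f₂) 0 := by
      have h3 := lift_sub hs₀ (lift_smul (g 0) h₂)
      rwa [smul_sub (g 0), hx0, sub_zero, sub_self] at h3
    obtain ⟨c, hc, hfc⟩ := ih hg.tail (by rw [map_sub, map_smul, hf, hf₂, smul_zero, sub_zero]) h0 bd_zero
    refine ⟨Fin.cons f₂ c, fun i => Fin.cases hf₂ hc i, ?_⟩
    rw [Fin.sum_univ_succ]
    simp only [Fin.cons_zero, Fin.cons_succ]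
    rw [show (∑ i : Fin r, g i.succ • c i) = f - g 0 • f₂ from hfc.symm, add_sub_cancel]

end Lift

section Rel

variable (M d) (I : Ideal A)

/-- The comparison of the lifts along two sequences of elements of `I`: the factor by which alternating forms change
undoes the change of the lifts. -/
def Rel {r : ℕ} (g g' : Fin r → A) : Prop :=
  ∃ c : A, (∀ (W : Type max u v) [AddCommGroup W] [Module A W] (L : AlternatingMap A I W (Fin r))
      (h : ∀ i, g i ∈ I) (h' : ∀ i, g' i ∈ I), L (fun i => ⟨g' i, h' i⟩) = c • L (fun i => ⟨g i, h i⟩)) ∧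
    ∀ (f : M 0) (s s' : M r), d 0 f = 0 → IsLift M d g f s → IsLift M d g' f s' → Bd M d g (s - c • s')

variable {M d I}

include hd in
theorem rel_refl {r : ℕ} {g : Fin r → A} (hg : Div M g) : Rel M d I g g :=
  ⟨1, fun W _ _ L h h' => (one_smul A _).symm,
    fun f s s' _ h h' => by rw [one_smul]; exact lift_unique hd hg h h'⟩

include hd in
theorem rel_trans {r : ℕ} {g g' g'' : Fin r → A} (hg' : Div M g') (hI : ∀ i, g' i ∈ I)
    (hsp : Ideal.span (Set.range g) = Ideal.span (Set.range g')) (h₁ : Rel M d I g g') (h₂ : Rel M d I g' g'') :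
    Rel M d I g g'' := by
  obtain ⟨c₁, hL₁, hs₁⟩ := h₁
  obtain ⟨c₂, hL₂, hs₂⟩ := h₂
  refine ⟨c₁ * c₂, fun W _ _ L h h'' => ?_, fun f s s'' hf h h'' => ?_⟩
  · rw [hL₂ W L hI h'', hL₁ W L h hI, smul_smul, mul_comm]
  · obtain ⟨s', hs'⟩ := lift_exists hd hg' hf
    have e : s - (c₁ * c₂) • s'' = (s - c₁ • s') + c₁ • (s' - c₂ • s'') := by
      rw [smul_sub, smul_smul]; abel
    rw [e]
    exact bd_add (hs₁ f s s' hf h hs') (bd_smul ((bd_congr hsp).2 (hs₂ f s' s'' hf hs' h'')) _)

include hd in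
/-- Comparisons extend to longer sequences. -/
theorem rel_cons {r : ℕ} {g g' : Fin (r + 1) → A} (hg : Div M g) (h0 : g' 0 = g 0)
    (hsp : Ideal.span (Set.range (Fin.tail g)) = Ideal.span (Set.range (Fin.tail g')))
    (h : Rel M d I (Fin.tail g) (Fin.tail g')) : Rel M d I g g' := by
  obtain ⟨c, hL, hs⟩ := h
  refine ⟨c, fun W _ _ L hI hI' => ?_, ?_⟩
  · have h1 := hL W (L.curryLeft ⟨g 0, hI 0⟩) (fun i => hI i.succ) (fun i => hI' i.succ)
    simp only [AlternatingMap.curryLeft_apply_apply] at h1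
    have e : ∀ (k : Fin (r + 1) → A) (hk : ∀ i, k i ∈ I) (hk0 : k 0 = g 0),
        L (Matrix.vecCons ⟨g 0, hI 0⟩ fun i => (⟨Fin.tail k i, hk i.succ⟩ : I)) = L (fun i => ⟨k i, hk i⟩) := by
      intro k hk hk0
      refine congrArg L (funext fun i => ?_)
      refine Fin.cases ?_ (fun i => ?_) i
      · exact Subtype.ext hk0.symm
      · rfl
    exact (e g' hI' h0).symm.trans (h1.trans (congrArg (c • ·) (e g hI rfl)))
  · rintro f _ _ hf ⟨s₀, hs₀, t, ht, rfl, rfl⟩ ⟨s₀', hs₀', t', ht', rfl, rfl⟩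
    rw [← map_smul, ← map_sub]
    refine bd_of_smul hd hg (ht.sub (((kills_congr hsp).2 ht').smul c)) ?_
    rw [smul_sub, smul_comm]
    rw [h0] at hs₀'
    exact hs f _ _ hf hs₀ hs₀'

include hd in
/-- Changing the head. -/
theorem rel_head {r : ℕ} {g g' : Fin (r + 1) → A} (hg : Div M g) (ht : Fin.tail g' = Fin.tail g) (u : A)
    (a : Fin r → A) (h0 : g' 0 = u * g 0 + ∑ i, a i * g i.succ) : Rel M d I g g' := by
  refine ⟨u, fun W _ _ L hI hI' => ?_, ?_⟩
  · let gI : Fin (r + 1) → I := fun i => ⟨g i, hI i⟩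
    have e : (fun i => (⟨g' i, hI' i⟩ : I)) = Function.update gI 0 (u • gI 0 + ∑ i, a i • gI i.succ) := by
      funext i
      refine Fin.cases ?_ (fun i => ?_) i
      · rw [Function.update_self]
        apply Subtype.ext
        simp [gI, h0]
      · rw [Function.update_of_ne (Fin.succ_ne_zero i)]
        exact Subtype.ext (congrFun ht i)
    rw [e, L.map_update_add, L.map_update_smul, Function.update_eq_self, L.map_update_sum]
    rw [Finset.sum_eq_zero fun i _ => ?_, add_zero]
    rw [L.map_update_smul, L.map_update_self _ (Fin.succ_ne_zero i).symm, smul_zero]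
  · rintro f _ _ hf ⟨s₀, hs₀, t, htk, rfl, rfl⟩ ⟨s₀', hs₀', t', ht', he', rfl⟩
    rw [ht] at hs₀' ht'
    rw [← map_smul, ← map_sub]
    refine bd_of_smul hd hg (htk.sub (ht'.smul u)) ?_
    rw [smul_sub, smul_comm, smul_smul]
    have he : (u * g 0) • t' = s₀' := by
      rw [← he', h0, add_smul, Finset.sum_smul, Finset.sum_eq_zero (fun i _ => ?_), add_zero]
      rw [mul_smul]
      exact (congrArg (a i • ·) (ht' i)).trans (smul_zero _)
    rw [he]
    exact lift_unique hd hg.tail hs₀ hs₀'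

include hd in
/-- Exchanging the first two elements. -/
theorem rel_swap {r : ℕ} {g g' : Fin (r + 2) → A} (hg : Div M g) (hg' : Div M g') (h0 : g' 0 = g 1) (h1 : g' 1 = g 0)
    (ht : Fin.tail (Fin.tail g') = Fin.tail (Fin.tail g))
    (hsp : Ideal.span (Set.range g) = Ideal.span (Set.range g')) : Rel M d I g g' := by
  refine ⟨-1, fun W _ _ L hI hI' => ?_, fun f s s' hf hs hs' => ?_⟩
  · have e : (fun i => (⟨g' i, hI' i⟩ : I)) = (fun i => (⟨g i, hI i⟩ : I)) ∘ Equiv.swap 0 1 := by
      funext i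
      refine Fin.cases ?_ (fun j => Fin.cases ?_ (fun m => ?_) j) i
      · apply Subtype.ext; simp [h0]
      · apply Subtype.ext; simpa using h1
      · apply Subtype.ext
        show g' m.succ.succ = g (Equiv.swap 0 1 m.succ.succ)
        rw [Equiv.swap_apply_of_ne_of_ne (Fin.succ_ne_zero _)
          (fun h : m.succ.succ = (1 : Fin (r + 2)) => Fin.succ_ne_zero m (Fin.succ_injective _ (h.trans Fin.succ_zero_eq_one.symm)))]
        exact congrFun ht m
    rw [e, L.map_swap _ (by simp : (0 : Fin (r + 2)) ≠ 1), neg_one_smul]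
  obtain ⟨q, hq⟩ := lift_exists hd hg.tail.tail hf
  have hqk := lift_spec hd hf hq
  -- the first steps, with a common root
  obtain ⟨t, ht1, htq⟩ := hg.tail.head hqk.1
  obtain ⟨w, hw, hwt⟩ := hg'.tail.head (s := t) (by rw [ht]; exact ht1)
  rw [ht] at hw
  have hwt' : g 0 • w = t := by rw [← h1]; exact hwt
  have hy : Fin.tail g 0 = g 1 := rfl
  rw [hy] at htq
  have hk : Kills (Fin.tail g') (g 1 • d r w) := kills_succ_iff.2 ⟨by
    show g' 1 • g 1 • d r w = 0
    rw [h1, smul_comm, ← map_smul, ← map_smul, hwt', htq]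
    exact hqk.2, by rw [ht]; exact (hw.map _).smul _⟩
  obtain ⟨z, hz, hzy⟩ := hg'.head hk.neg
  rw [h0] at hzy
  obtain ⟨hz0, hzt⟩ := kills_succ_iff.1 hz
  have hz0' : g 0 • z = 0 := by rw [← h1]; exact hz0
  rw [ht] at hzt
  have L1 : IsLift M d g f (d (r + 1) z) := by
    refine ⟨d r t, ⟨q, hq, t, ht1, htq, rfl⟩, d r w + z,
      kills_succ_iff.2 ⟨?_, (hw.map _).add hzt⟩, ?_, by rw [map_add, hd, zero_add]⟩
    · show g 1 • (d r w + z) = 0
      rw [smul_add, hzy, add_neg_cancel]
    · rw [smul_add, hz0', add_zero, ← map_smul, hwt']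
  have L2 : IsLift M d g' f (-d (r + 1) z) := by
    refine ⟨d r (g 1 • w), ⟨q, by rw [ht]; exact hq, g 1 • w, by rw [ht]; exact hw.smul _, ?_, rfl⟩,
      -z, hz.neg, ?_, by rw [map_neg]⟩
    · show g' 1 • g 1 • w = q
      rw [h1, smul_comm, hwt', htq]
    · rw [h0, smul_neg, hzy, neg_neg, map_smul]
  have e : s - (-1 : A) • s' = (s - d (r + 1) z) + (s' - -d (r + 1) z) := by
    rw [neg_one_smul]; abel
  rw [e]
  exact bd_add (lift_unique hd hg hs L1) ((bd_congr hsp).2 (lift_unique hd hg' hs' L2))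

include hd in
/-- Exchanging two neighbours. -/
theorem rel_adjSwap : ∀ {r : ℕ} (i : Fin r) (g : Fin (r + 1) → A), Div M g →
    Div M (g ∘ Equiv.swap i.castSucc i.succ) → Rel M d I g (g ∘ Equiv.swap i.castSucc i.succ) := by
  intro r
  induction r with
  | zero => intro i; exact i.elim0
  | succ r ih =>
    intro i g hg hg'
    have hsp : Ideal.span (Set.range g) = Ideal.span (Set.range (g ∘ Equiv.swap i.castSucc i.succ)) := by
      rw [EquivLike.range_comp]
    obtain rfl | ⟨j, rfl⟩ := Fin.eq_zero_or_eq_succ i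
    · refine rel_swap hd hg hg' (by simp) (by simp) ?_ hsp
      funext m
      show g (Equiv.swap (0 : Fin (r + 1)).castSucc (0 : Fin (r + 1)).succ m.succ.succ) = g m.succ.succ
      refine congrArg g (Equiv.swap_apply_of_ne_of_ne ?_ ?_)
      · exact Fin.succ_ne_zero _
      · exact fun h => Fin.succ_ne_zero m (Fin.succ_injective _ h)
    · have ht : Fin.tail (g ∘ Equiv.swap j.succ.castSucc j.succ.succ) =
          Fin.tail g ∘ Equiv.swap j.castSucc j.succ := by
        funext m
        show g (Equiv.swap j.succ.castSucc j.succ.succ m.succ) = g (Equiv.swap j.castSucc j.succ m).succ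
        refine congrArg g ?_
        rw [← Fin.succ_castSucc]
        rcases eq_or_ne m j.castSucc with rfl | h1
        · rw [Equiv.swap_apply_left, Equiv.swap_apply_left]
        rcases eq_or_ne m j.succ with rfl | h2
        · rw [Equiv.swap_apply_right, Equiv.swap_apply_right]
        rw [Equiv.swap_apply_of_ne_of_ne h1 h2,
          Equiv.swap_apply_of_ne_of_ne (fun h => h1 (Fin.succ_injective _ h)) (fun h => h2 (Fin.succ_injective _ h))]
      refine rel_cons hd hg ?_ ?_ ?_
      · show g (Equiv.swap j.succ.castSucc j.succ.succ 0) = g 0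
        refine congrArg g (Equiv.swap_apply_of_ne_of_ne ?_ ?_)
        · rw [← Fin.succ_castSucc]; exact (Fin.succ_ne_zero _).symm
        · exact (Fin.succ_ne_zero _).symm
      · rw [ht, EquivLike.range_comp]
      · rw [ht]
        exact ih j (Fin.tail g) hg.tail (ht ▸ hg'.tail)

section Good

variable {r : ℕ} (hDiv : ∀ g : Fin r → A, Ideal.span (Set.range g) = I → Div M g)

include hd hDiv in
theorem rel_perm (σ : Equiv.Perm (Fin r)) : ∀ g : Fin r → A, Ideal.span (Set.range g) = I →
    Rel M d I g (g ∘ σ) := by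
  cases r with
  | zero => intro g hg; rw [Subsingleton.elim (g ∘ σ) g]; exact rel_refl hd (hDiv g hg)
  | succ r =>
    have hσ : σ ∈ Submonoid.closure (Set.range fun i : Fin r ↦ Equiv.swap i.castSucc i.succ) := by
      rw [Equiv.Perm.mclosure_swap_castSucc_succ]; trivial
    induction hσ using Submonoid.closure_induction with
    | mem x hx =>
      obtain ⟨i, rfl⟩ := hx
      exact fun g hg => rel_adjSwap hd i g (hDiv g hg) (hDiv _ (by rw [EquivLike.range_comp, hg]))
    | one => exact fun g hg => rel_refl hd (hDiv g hg)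
    | mul σ τ _ _ h₁ h₂ =>
      intro g hg
      have hg' : Ideal.span (Set.range (g ∘ σ)) = I := by rw [EquivLike.range_comp, hg]
      exact rel_trans hd (hDiv _ hg') (fun i => hg' ▸ Ideal.subset_span ⟨i, rfl⟩) (hg.trans hg'.symm) (h₁ g hg) (h₂ _ hg')

theorem span_update {g : Fin r → A} (j : Fin r) (a : Fin r → A) (ha : IsUnit (a j)) :
    Ideal.span (Set.range (Function.update g j (∑ i, a i * g i))) = Ideal.span (Set.range g) := by
  refine le_antisymm (Ideal.span_le.2 ?_) (Ideal.span_le.2 ?_)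
  · rintro _ ⟨i, rfl⟩
    rcases eq_or_ne i j with rfl | h
    · rw [Function.update_self]
      exact Submodule.sum_mem _ fun m _ => Ideal.mul_mem_left _ _ (Ideal.subset_span ⟨m, rfl⟩)
    · rw [Function.update_of_ne h]; exact Ideal.subset_span ⟨i, rfl⟩
  · have key : ∀ i, i ≠ j → g i ∈ Ideal.span (Set.range (Function.update g j (∑ i, a i * g i))) := fun i hi =>
      Ideal.subset_span ⟨i, Function.update_of_ne hi _ _⟩
    rintro _ ⟨i, rfl⟩
    rcases eq_or_ne i j with rfl | h
    · refine (Ideal.unit_mul_mem_iff_mem _ ha).1 ?_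
      have h1 : (∑ m, a m * g m) - ∑ m ∈ Finset.univ.erase i, a m * g m = a i * g i := by
        rw [sub_eq_iff_eq_add, Finset.add_sum_erase _ (fun m => a m * g m) (Finset.mem_univ i)]
      rw [← h1]
      exact Ideal.sub_mem _ (Ideal.subset_span ⟨i, Function.update_self _ _ _⟩)
        (Submodule.sum_mem _ fun m hm => Ideal.mul_mem_left _ _ (key m (Finset.ne_of_mem_erase hm)))
    · exact key i h

include hd hDiv in
theorem rel_update {g : Fin r → A} (hg : Ideal.span (Set.range g) = I) (j : Fin r) (a : Fin r → A)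
    (ha : IsUnit (a j)) : Rel M d I g (Function.update g j (∑ i, a i * g i)) := by
  cases r with
  | zero => exact j.elim0
  | succ r =>
    let σ := Equiv.swap 0 j
    have hσj : σ j = 0 := Equiv.swap_apply_right _ _
    let g₁ := g ∘ σ
    let g₂ := Function.update g₁ 0 (∑ i, a i * g i)
    have hg₁ : Ideal.span (Set.range g₁) = I := by rw [EquivLike.range_comp, hg]
    have hsum : ∑ i, a i * g i = ∑ i, (a ∘ σ) i * g₁ i := (Equiv.sum_comp σ fun i => a i * g i).symm
    have hg₂ : Ideal.span (Set.range g₂) = I := by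
      show Ideal.span (Set.range (Function.update g₁ 0 _)) = I
      rw [hsum, span_update 0 (a ∘ σ) (by show IsUnit (a (σ 0)); rwa [Equiv.swap_apply_left]), hg₁]
    have h₂ : Rel M d I g₁ g₂ := by
      refine rel_head hd (hDiv _ hg₁) (Fin.tail_update_zero _ _) (a (σ 0)) (fun i => a (σ i.succ)) ?_
      show Function.update g₁ 0 _ 0 = _
      rw [Function.update_self, hsum, Fin.sum_univ_succ]
      rfl
    have h₃ := rel_perm hd hDiv σ g₂ hg₂
    have e : g₂ ∘ σ = Function.update g j (∑ i, a i * g i) := by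
      funext i
      show Function.update g₁ 0 _ (σ i) = _
      rcases eq_or_ne i j with rfl | h
      · rw [hσj, Function.update_self, Function.update_self]
      · rw [Function.update_of_ne h, Function.update_of_ne (fun hc => h (σ.injective (hc.trans hσj.symm)))]
        show g (σ (σ i)) = g i
        rw [Equiv.swap_apply_self]
    rw [e] at h₃
    exact rel_trans hd (hDiv _ hg₁) (fun i => hg₁ ▸ Ideal.subset_span ⟨i, rfl⟩) (hg.trans hg₁.symm)
      (rel_perm hd hDiv σ g hg)
      (rel_trans hd (hDiv _ hg₂) (fun i => hg₂ ▸ Ideal.subset_span ⟨i, rfl⟩) (hg₁.trans hg₂.symm) h₂ h₃)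

include hd hDiv in
/-- Any two sequences of generators compare, over a local ring in which no sequence of generators has a zero term. -/
theorem rel_of_span [IsLocalRing A] (hI : I ≠ ⊤)
    (hzero : ∀ g : Fin r → A, Ideal.span (Set.range g) = I → ∀ i, g i ≠ 0)
    {g g' : Fin r → A} (hg : Ideal.span (Set.range g) = I) (hg' : Ideal.span (Set.range g') = I) :
    Rel M d I g g' := by
  suffices H : ∀ (n : ℕ) (g : Fin r → A), Ideal.span (Set.range g) = I →
      (∀ i : Fin r, (i : ℕ) + n < r → g i = g' i) → Rel M d I g g' from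
    H r g hg fun i hi => absurd hi (by omega)
  intro n
  induction n with
  | zero =>
    intro g hg h
    rw [show g' = g from funext fun i => (h i (by omega)).symm]
    exact rel_refl hd (hDiv g hg)
  | succ n ih =>
    intro g hg h
    rcases Nat.lt_or_ge n r with hn | hn
    swap
    · exact ih g hg fun i hi => absurd hi (by omega)
    let j : Fin r := ⟨r - n - 1, by omega⟩
    have hj : ∀ i : Fin r, i < j → g i = g' i := fun i hi => h i (by
      have hi' : (i : ℕ) < r - n - 1 := hi
      omega)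
    obtain ⟨a, ha⟩ := Submodule.mem_span_range_iff_exists_fun A |>.1
      (show g' j ∈ Ideal.span (Set.range g) from hg ▸ (hg' ▸ Ideal.subset_span ⟨j, rfl⟩ : g' j ∈ I))
    simp only [smul_eq_mul] at ha
    obtain ⟨i, hij, hi⟩ : ∃ i, j ≤ i ∧ IsUnit (a i) := by
      classical
      by_contra hne
      have hm : ∀ i, j ≤ i → a i ∈ IsLocalRing.maximalIdeal A := fun i hi hu => hne ⟨i, hi, hu⟩
      let k := Function.update g' j 0
      have hkI : Ideal.span (Set.range k) ≤ I := Ideal.span_le.2 (by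
        rintro _ ⟨i, rfl⟩
        rcases eq_or_ne i j with rfl | hne
        · simp [k]
        · rw [show k i = g' i from Function.update_of_ne hne _ _]
          exact hg' ▸ Ideal.subset_span ⟨i, rfl⟩)
      have hk : Ideal.span (Set.range k) = I := by
        refine le_antisymm hkI (Submodule.le_of_le_smul_of_le_jacobson_bot (I := IsLocalRing.maximalIdeal A)
          ⟨Finset.univ.image g, by rw [Finset.coe_image, Finset.coe_univ, Set.image_univ]; exact hg⟩
          (IsLocalRing.maximalIdeal_le_jacobson ⊥) ?_)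
        calc I = Ideal.span (Set.range g') := hg'.symm
          _ ≤ _ := Ideal.span_le.2 (by
            rintro _ ⟨i, rfl⟩
            rcases eq_or_ne i j with rfl | hne'
            · rw [← ha]
              refine Submodule.sum_mem _ fun m _ => ?_
              rcases lt_or_ge m j with hm' | hm'
              · refine Submodule.mem_sup_left (Ideal.mul_mem_left _ _ (Ideal.subset_span ⟨m, ?_⟩))
                rw [show k m = g' m from Function.update_of_ne hm'.ne _ _, hj m hm']
              · exact Submodule.mem_sup_right (Submodule.smul_mem_smul (hm m hm') (hg ▸ Ideal.subset_span ⟨m, rfl⟩))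
            · exact Submodule.mem_sup_left (Ideal.subset_span ⟨i, Function.update_of_ne hne' _ _⟩))
      exact hzero k hk j (Function.update_self _ _ _)
    let σ := Equiv.swap j i
    let g₁ := g ∘ σ
    have hg₁ : Ideal.span (Set.range g₁) = I := by rw [EquivLike.range_comp, hg]
    have hu : IsUnit ((a ∘ σ) j) := by show IsUnit (a (σ j)); rwa [Equiv.swap_apply_left]
    have hs : ∑ m, (a ∘ σ) m * g₁ m = g' j := (Equiv.sum_comp σ fun m => a m * g m).trans ha
    let g₂ := Function.update g₁ j (∑ m, (a ∘ σ) m * g₁ m)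
    have hg₂ : Ideal.span (Set.range g₂) = I := (span_update j _ hu).trans hg₁
    refine rel_trans hd (hDiv _ hg₁) (fun i => hg₁ ▸ Ideal.subset_span ⟨i, rfl⟩) (hg.trans hg₁.symm)
      (rel_perm hd hDiv σ g hg) (rel_trans hd (hDiv _ hg₂) (fun i => hg₂ ▸ Ideal.subset_span ⟨i, rfl⟩)
        (hg₁.trans hg₂.symm) (rel_update hd hDiv hg₁ j _ hu) (ih g₂ hg₂ fun m hm => ?_))
    show Function.update g₁ j _ m = g' m
    rcases eq_or_ne m j with rfl | hmj
    · rw [Function.update_self, hs]
    · have hlt : m < j := by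
        refine lt_of_le_of_ne ?_ hmj
        show (m : ℕ) ≤ r - n - 1
        omega
      rw [Function.update_of_ne hmj]
      show g (σ m) = g' m
      rw [Equiv.swap_apply_of_ne_of_ne hmj (hlt.trans_le hij).ne, hj m hlt]

end Good

end Rel

end Groth.Agent.KoszulLift
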