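import Groth.Agent.ExtShX.KoszulDiv
import Groth.Agent.ExtShX.Killed

/-!
# Stalks of `Ext(Q, F)` through the part of an injective resolution killed by the ideal of `Q`
-/

set_option linter.style.haveILetI false
set_option linter.unusedSectionVars false
set_option backward.isDefEq.respectTransparency false
set_option backward.isDefEq.respectTransparency.types false
set_option maxHeartbeats 1000000

universe u

open CategoryTheory CategoryTheory.Limits AlgebraicGeometry TopologicalSpace Opposite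

noncomputable section

attribute [local instance] CategoryTheory.Abelian.hasFiniteBiproducts

namespace Groth.Agent.ExtShX

variable {P : Scheme.{u}} {Q : P.Modules} (π : Coh.structureModule P ⟶ Q)

/-- The map induced on stalks. -/
abbrev stk {A B : P.Modules} (f : A ⟶ B) (y : P) :
    (A.presheaf.stalk y) →ₗ[P.presheaf.stalk y] (B.presheaf.stalk y) :=
  ((DerSch.stalkFunctor P y).map f).hom

theorem stk_comp {A B C : P.Modules} (f : A ⟶ B) (g : B ⟶ C) (y : P) (a : A.presheaf.stalk y) :
    stk (f ≫ g) y a = stk g y (stk f y a) := by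
  show ((DerSch.stalkFunctor P y).map (f ≫ g)).hom a = _
  rw [Functor.map_comp]
  rfl

theorem stk_germ {A B : P.Modules} (f : A ⟶ B) {U : P.Opens} {y : P} (hy : y ∈ U) (a : Γ(A, U)) :
    stk f y (A.presheaf.germ U y hy a) = B.presheaf.germ U y hy (f.app U a) :=
  DerSch.stalkFunctor_map_germ y f U hy a

theorem stk_injective {A B : P.Modules} (f : A ⟶ B) [Mono f] (y : P) : Function.Injective (stk f y) :=
  (ModuleCat.mono_iff_injective _).1 inferInstance

theorem stk_surjective {A B : P.Modules} (f : A ⟶ B) [Epi f] (y : P) : Function.Surjective (stk f y) :=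
  (ModuleCat.epi_iff_surjective _).1 inferInstance

theorem stk_exact {S : ShortComplex P.Modules} (hS : S.Exact) (y : P) {a : S.X₂.presheaf.stalk y}
    (ha : stk S.g y a = 0) : ∃ b, stk S.f y b = a :=
  ((ShortComplex.ShortExact.moduleCat_exact_iff_function_exact _).1 (hS.map (DerSch.stalkFunctor P y)) a).1 ha

/-- The ideal killing the image of `1` in the stalk of `Q`. -/
def ann (y : P) : Ideal (P.presheaf.stalk y) :=
  LinearMap.ker (LinearMap.toSpanSingleton (P.presheaf.stalk y) (Q.presheaf.stalk y)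
    (stk π y (H23.UnitSec.one y)))

theorem mem_ann {y : P} {a : P.presheaf.stalk y} : a ∈ ann π y ↔ a • stk π y (H23.UnitSec.one y) = 0 :=
  LinearMap.mem_ker

/-- The ideal kills killed modules. -/
theorem smul_eq_zero_of_killed {G : P.Modules} (hG : Killed π G) {y : P} {a : P.presheaf.stalk y}
    (ha : a ∈ ann π y) (v : G.presheaf.stalk y) : a • v = 0 := by
  let σ := DerSch.stalkFunctor P y
  haveI : IsIso ((DCoh.tensorBi.obj G).map π) := hG
  have e := KFlatLib.stalkTensorIso_naturality (x := y) (𝟙 G) π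
  simp only [CategoryTheory.Functor.map_id, NatTrans.id_app, Category.id_comp] at e
  haveI : IsIso (σ.map ((DCoh.tensorBi.obj G).map π)) := inferInstance
  have h := congrArg (fun q => q.hom ((a • v) ⊗ₜ[P.presheaf.stalk y] H23.UnitSec.one y)) e
  simp only [ModuleCat.hom_comp, LinearMap.comp_apply] at h
  erw [ModuleCat.MonoidalCategory.tensorHom_tmul] at h
  have h0 : (a • (show σ.obj G from v)) ⊗ₜ[P.presheaf.stalk y] stk π y (H23.UnitSec.one y) = 0 := by
    rw [TensorProduct.smul_tmul, (mem_ann π).1 ha, TensorProduct.tmul_zero]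
  have h1 : ((KFlatLib.stalkTensorIso y G (Coh.structureModule P)).hom ≫ σ.map ((DCoh.tensorBi.obj G).map π)).hom
      ((a • (show σ.obj G from v)) ⊗ₜ[P.presheaf.stalk y] H23.UnitSec.one y) = 0 := by
    refine h.symm.trans ?_
    show (KFlatLib.stalkTensorIso y G Q).hom.hom ((a • (show σ.obj G from v)) ⊗ₜ[P.presheaf.stalk y] stk π y (H23.UnitSec.one y)) = 0
    rw [h0, map_zero]
  have h2 : (a • (show σ.obj G from v)) ⊗ₜ[P.presheaf.stalk y] H23.UnitSec.one y = 0 :=
    (ConcreteCategory.bijective_of_isIso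
      ((KFlatLib.stalkTensorIso y G (Coh.structureModule P)).hom ≫ σ.map ((DCoh.tensorBi.obj G).map π))).1
      (h1.trans (map_zero _).symm)
  obtain ⟨e₁⟩ := H23.InvStalk.exists_stalk_equiv (X := P) InvX.isInvertible_structureModule y
  have h3 := congrArg (TensorProduct.rid (P.presheaf.stalk y) (σ.obj G) ∘ LinearMap.lTensor _ e₁.toLinearMap) h2
  simp only [Function.comp_apply, map_zero, LinearMap.lTensor_tmul, TensorProduct.rid_tmul] at h3
  obtain ⟨c, hc⟩ := Submodule.mem_span_singleton.1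
    ((H23.UnitSec.span_one y).ge (Submodule.mem_top : e₁.symm 1 ∈ ⊤))
  have hc1 : c * e₁ (H23.UnitSec.one y) = 1 := by
    rw [← smul_eq_mul, ← map_smul, hc, e₁.apply_symm_apply]
  have h4 : c • (e₁ (H23.UnitSec.one y) • (a • (show σ.obj G from v))) = 0 := by
    rw [show e₁ (H23.UnitSec.one y) • (a • (show σ.obj G from v)) = 0 from h3, smul_zero]
  rw [← mul_smul, hc1, one_smul] at h4
  exact h4

variable [Epi π] (hQ : Killed π Q)

instance mono_evUnit (N : P.Modules) : Mono ((evUnit π).app N) := by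
  haveI := mono_homMap π N
  show Mono ((SheafHomX.homMap π).app N ≫ homStructIso.hom.app N)
  infer_instance

include hQ in
theorem smul_stk_evUnit (N : P.Modules) {y : P} (c : ((SheafHomX.hom Q).obj N).presheaf.stalk y)
    {a : P.presheaf.stalk y} (ha : a ∈ ann π y) : a • stk ((evUnit π).app N) y c = 0 := by
  rw [← map_smul, smul_eq_zero_of_killed π (killed_hom π hQ N) ha, map_zero]

/-- A chart generating the ideal. -/
def GenOn {U : P.Opens} {r : ℕ} (g : Fin r → Γ(P, U)) : Prop :=
  ∀ y (hy : y ∈ U), ann π y = Ideal.span (Set.range fun i => P.presheaf.germ U y hy (g i))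

/-- Elements killed by the ideal come from `ℋom(Q, N)`. -/
theorem exists_stk_evUnit {r : ℕ} {U : P.Opens} {g : Fin r → Γ(P, U)} (hgen : GenOn π g) (N : P.Modules) {y : P}
    (hy : y ∈ U) (m : N.presheaf.stalk y) (hm : ∀ i, P.presheaf.germ U y hy (g i) • m = 0) :
    ∃ c, stk ((evUnit π).app N) y c = m := by
  classical
  obtain ⟨W₀, hW₀, m₀, rfl⟩ := TopCat.Presheaf.exists_germ_eq N.presheaf m
  have hv : ∀ i, ∃ (W : P.Opens) (_ : y ∈ W) (hle : W ≤ U ⊓ W₀),
      AModX.resR (hle.trans inf_le_left) (g i) • AModX.res N (hle.trans inf_le_right) m₀ = 0 := fun i => by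
    have h := hm i
    rw [← RefX.germ_res N (inf_le_right : U ⊓ W₀ ≤ W₀) (x := y) ⟨hy, hW₀⟩,
      ← RefX.germ_resR (inf_le_left : U ⊓ W₀ ≤ U) (x := y) ⟨hy, hW₀⟩, ← QCoh.germ_smul'] at h
    obtain ⟨W, hW, a, b, hab⟩ := TopCat.Presheaf.germ_eq N.presheaf y (U := U ⊓ W₀) (V := U ⊓ W₀) ⟨hy, hW₀⟩
      ⟨hy, hW₀⟩ _ 0 (h.trans (map_zero _).symm)
    refine ⟨W, hW, a.le, ?_⟩
    have h' : AModX.res N a.le (AModX.resR inf_le_left (g i) • AModX.res N inf_le_right m₀) = 0 :=
      hab.trans (map_zero _)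
    rwa [AModX.res_smul, AModX.resR_resR, AModX.res_res] at h'
  choose Wi hyWi hle hz using hv
  let V : P.Opens := (U ⊓ W₀) ⊓ Finset.univ.inf Wi
  have hyV : y ∈ V := ⟨⟨hy, hW₀⟩, by
    show y ∈ ((Finset.univ.inf Wi : P.Opens) : Set P)
    simp [TopologicalSpace.Opens.coe_finset_inf, hyWi]⟩
  have hVU : V ≤ U := inf_le_left.trans inf_le_left
  have hVW : V ≤ W₀ := inf_le_left.trans inf_le_right
  let m' : Γ(N, V) := AModX.res N hVW m₀
  have hkill : ∀ z (hz' : z ∈ V) (a : P.presheaf.stalk z), a ∈ ann π z → a • N.presheaf.germ V z hz' m' = 0 := by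
    intro z hz' a ha
    rw [hgen z (hVU hz')] at ha
    refine KoszulLift.kills_iff_span.1 (fun i => ?_) a ha
    have h := congrArg (N.presheaf.germ V z hz')
      (congrArg (AModX.res N (inf_le_right.trans (Finset.inf_le (f := Wi) (Finset.mem_univ i)) : V ≤ Wi i)) (hz i))
    rw [map_zero, map_zero, AModX.res_smul, AModX.resR_resR, AModX.res_res, QCoh.germ_smul', RefX.germ_resR] at h
    exact h
  let j := V.ι
  let R := Scheme.Modules.restrictFunctor j
  have hj : V.ι ''ᵁ (⊤ : (V : Scheme.{u}).Opens) = V := V.ι.image_top_eq_opensRange.trans V.opensRange_ι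
  let a₀ : Coh.structureModule (V : Scheme.{u}) ⟶ R.obj N :=
    InvX.ofSect (show Γ(N.restrict j, ⊤) from AModX.res N hj.le m')
  let φ := ((KFlatLib.lshAdj j).homEquiv _ _).symm a₀
  haveI : Epi (factorThruImage φ) := inferInstance
  have hG : Killed π (Limits.image φ) := by
    refine killed_of_stalk π _ fun z a ha v => ?_
    obtain ⟨v, rfl⟩ := stk_surjective (factorThruImage φ) z v
    refine stk_injective (Limits.image.ι φ) z ?_
    rw [map_smul, map_zero, ← stk_comp, Limits.image.fac]
    by_cases hzV : z ∈ Set.range j.base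
    · obtain ⟨w, rfl⟩ := hzV
      let e := fun M : P.Modules => ((Scheme.Modules.restrictStalkNatIso j w).app M).addCommGroupIsoToAddEquiv
      obtain ⟨v', rfl⟩ := (e _).surjective v
      obtain ⟨c, rfl⟩ := (ConcreteCategory.bijective_of_isIso
        ((DerSch.stalkFunctor (V : Scheme.{u}) w).map ((KFlatLib.lshAdj j).unit.app
          (Coh.structureModule (V : Scheme.{u}))))).2 v'
      obtain ⟨W, hW, s, rfl⟩ := TopCat.Presheaf.exists_germ_eq (Coh.structureModule (V : Scheme.{u})).presheaf c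
      erw [DerSch.stalkFunctor_map_germ w _ W hW s]
      erw [show (e _) (((R.obj ((KFlatLib.lsh j).obj _)).presheaf.germ W w hW)
          (((KFlatLib.lshAdj j).unit.app _).app W s)) = ((KFlatLib.lsh j).obj _).presheaf.germ (j ''ᵁ W) (j w)
            ⟨w, hW, rfl⟩ (((KFlatLib.lshAdj j).unit.app _).app W s) from
        congrArg (fun q => q (((KFlatLib.lshAdj j).unit.app _).app W s))
          (Scheme.Modules.germ_restrictStalkNatIso_hom_app j w _ hW)]
      erw [stk_germ]
      have hfac : (KFlatLib.lshAdj j).unit.app _ ≫ R.map φ = a₀ :=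
        ((KFlatLib.lshAdj j).homEquiv_unit _ _ _).symm.trans (((KFlatLib.lshAdj j).homEquiv _ _).apply_symm_apply _)
      have hval : φ.app (j ''ᵁ W) (((KFlatLib.lshAdj j).unit.app _).app W s) =
          (show Γ(N, j ''ᵁ W) from a₀.app W s) := by
        rw [← hfac]
        rfl
      erw [hval]
      have hWV : j ''ᵁ W ≤ V := (j.image_mono le_top).trans hj.le
      have ha₀ : (show Γ(N, j ''ᵁ W) from a₀.app W s) =
          (show Γ(P, j ''ᵁ W) from (s : Γ((V : Scheme.{u}), W))) • AModX.res N hWV m' := by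
        have h1 : a₀.app W (H23.UnitSec.oneG W) = (show Γ(N.restrict j, W) from AModX.res N hWV m') := by
          rw [← H23.UnitSec.res_oneG (homOfLE (le_top : W ≤ ⊤))]
          refine (congr($(a₀.mapPresheaf.naturality (homOfLE (le_top : W ≤ ⊤)).op) (H23.UnitSec.oneG ⊤))).trans ?_
          show (R.obj N).presheaf.map _ (a₀.app ⊤ (H23.UnitSec.oneG ⊤)) = _
          rw [show a₀.app ⊤ (H23.UnitSec.oneG ⊤) = (show Γ(N.restrict j, ⊤) from AModX.res N hj.le m') from
            ofSect_one' _]
          exact AModX.res_res (M := N) hj.le (j.image_mono le_top) m'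
        have h2 : a₀.app W s = (show Γ((V : Scheme.{u}), W) from s) • a₀.app W (H23.UnitSec.oneG W) := by
          rw [← Scheme.Modules.Hom.app_smul, H23.UnitSec.smul_oneG]
          rfl
        rw [h2, h1]
        exact TopDiff.restrict_smul N V W _ _
      rw [ha₀, QCoh.germ_smul', RefX.germ_res, smul_comm]
      rw [hkill (j w) w.2 a ha, smul_zero]
    · have hv0 : v = 0 := @Subsingleton.elim _ (ModuleCat.isZero_of_iff_subsingleton.1
        (KFlatLib.isZero_stalk_lsh j z hzV (Coh.structureModule (V : Scheme.{u})))) v 0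
      rw [hv0]
      exact (congrArg (a • ·) (map_zero _)).trans (smul_zero _)
  obtain ⟨v, hv⟩ := (bijective_comp_evUnit π hG N).2 (Limits.image.ι φ)
  let w : (V : Scheme.{u}) := ⟨y, hyV⟩
  let u₀ : Γ((KFlatLib.lsh j).obj (Coh.structureModule (V : Scheme.{u})), j ''ᵁ ⊤) :=
    ((KFlatLib.lshAdj j).unit.app (Coh.structureModule (V : Scheme.{u}))).app ⊤ (H23.UnitSec.oneG ⊤)
  refine ⟨stk (factorThruImage φ ≫ v) y
    (((KFlatLib.lsh j).obj _).presheaf.germ (j ''ᵁ ⊤) y ⟨w, trivial, rfl⟩ u₀), ?_⟩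
  rw [← stk_comp, Category.assoc, show v ≫ (evUnit π).app N = Limits.image.ι φ from hv, Limits.image.fac, stk_germ]
  have hval : φ.app (j ''ᵁ ⊤) u₀ = (show Γ(N, j ''ᵁ ⊤) from a₀.app ⊤ (H23.UnitSec.oneG ⊤)) := by
    rw [← show (KFlatLib.lshAdj j).unit.app _ ≫ R.map φ = a₀ from
      ((KFlatLib.lshAdj j).homEquiv_unit _ _ _).symm.trans (((KFlatLib.lshAdj j).homEquiv _ _).apply_symm_apply _)]
    rfl
  show N.presheaf.germ (j ''ᵁ ⊤) y _ (φ.app (j ''ᵁ ⊤) u₀) = _
  rw [hval, show a₀.app ⊤ (H23.UnitSec.oneG ⊤) = (show Γ(N.restrict j, ⊤) from AModX.res N hj.le m') from ofSect_one' _]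
  exact (RefX.germ_res N hj.le _ m').trans (RefX.germ_res N hVW hyV m₀)

section Classes

variable (F : P.Modules)

/-- The injective resolution. -/
abbrev res : CochainComplex P.Modules ℕ := (injectiveResolution F).cocomplex

/-- Its stalks. -/
abbrev resM (y : P) (n : ℕ) : Type u := ((res F).X n).presheaf.stalk y

/-- The differential on stalks. -/
abbrev resd (y : P) (n : ℕ) : resM F y n →ₗ[P.presheaf.stalk y] resM F y (n + 1) := stk ((res F).d n (n + 1)) y

theorem resd_comp (y : P) (n : ℕ) (m : resM F y n) : resd F y (n + 1) (resd F y n m) = 0 := by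
  show stk _ y (stk _ y m) = 0
  rw [← stk_comp, HomologicalComplex.d_comp_d]
  show ((DerSch.stalkFunctor P y).map 0).hom m = 0
  rw [Functor.map_zero]
  rfl

theorem resd_exact (y : P) (n : ℕ) (m : resM F y (n + 1)) (h : resd F y (n + 1) m = 0) :
    ∃ t, resd F y n t = m :=
  stk_exact ((injectiveResolution F).exact_succ n) y h

/-- The augmentation on stalks. -/
abbrev aug (y : P) : F.presheaf.stalk y →ₗ[P.presheaf.stalk y] resM F y 0 := stk ((injectiveResolution F).ι.f 0) y

theorem aug_injective (y : P) : Function.Injective (aug F y) := stk_injective ((injectiveResolution F).ι.f 0) y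

theorem resd_aug (y : P) (f : F.presheaf.stalk y) : resd F y 0 (aug F y f) = 0 := by
  show stk _ y (stk _ y f) = 0
  rw [← stk_comp, (injectiveResolution F).ι_f_zero_comp_complex_d]
  show ((DerSch.stalkFunctor P y).map 0).hom f = 0
  rw [Functor.map_zero]
  rfl

theorem exists_aug (y : P) (m : resM F y 0) (h : resd F y 0 m = 0) : ∃ f, aug F y f = m :=
  stk_exact (ShortComplex.exact_of_f_is_kernel (ShortComplex.mk _ _ (injectiveResolution F).ι_f_zero_comp_complex_d)
    (injectiveResolution F).isLimitKernelFork) y h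

/-- The complex computing `Ext(Q, F)`. -/
abbrev extCx (Q : P.Modules) : CochainComplex P.Modules ℕ :=
  ((SheafHomX.hom Q).mapHomologicalComplex _).obj (res F)

variable (r : ℕ)

/-- Cycles onto Ext. -/
def cycToExt : (extCx F Q).cycles r ⟶ (E Q r).obj F :=
  (extCx F Q).homologyπ r ≫ ((injectiveResolution F).isoRightDerivedObj (SheafHomX.hom Q) r).inv

/-- Cycles into the resolution. -/
def cycToRes : (extCx F Q).cycles r ⟶ (res F).X r :=
  (extCx F Q).iCycles r ≫ (evUnit π).app ((res F).X r)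

instance : Epi (cycToExt (Q := Q) F r) := by unfold cycToExt; infer_instance
instance : Mono (cycToRes π F r) := by unfold cycToRes; infer_instance

/-- `e` is the class of the cocycle `s`. -/
def IsCls (y : P) (s : resM F y r) (e : ((E Q r).obj F).presheaf.stalk y) : Prop :=
  ∃ z, stk (cycToRes π F r) y z = s ∧ stk (cycToExt F r) y z = e

variable {π F r} {y : P}

theorem IsCls.unique {s : resM F y r} {e e' : ((E Q r).obj F).presheaf.stalk y} (h : IsCls π F r y s e)
    (h' : IsCls π F r y s e') : e = e' := by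
  obtain ⟨z, hz, rfl⟩ := h
  obtain ⟨z', hz', rfl⟩ := h'
  rw [stk_injective (cycToRes π F r) y (hz.trans hz'.symm)]

theorem IsCls.add {s s' : resM F y r} {e e' : ((E Q r).obj F).presheaf.stalk y} (h : IsCls π F r y s e)
    (h' : IsCls π F r y s' e') : IsCls π F r y (s + s') (e + e') := by
  obtain ⟨z, rfl, rfl⟩ := h
  obtain ⟨z', rfl, rfl⟩ := h'
  exact ⟨z + z', map_add _ _ _, map_add _ _ _⟩

theorem IsCls.smul {s : resM F y r} {e : ((E Q r).obj F).presheaf.stalk y} (h : IsCls π F r y s e)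
    (a : P.presheaf.stalk y) : IsCls π F r y (a • s) (a • e) := by
  obtain ⟨z, rfl, rfl⟩ := h
  exact ⟨a • z, map_smul _ _ _, map_smul _ _ _⟩

variable (π F r)

theorem evUnit_d (i j : ℕ) : (extCx F Q).d i j ≫ (evUnit π).app ((res F).X j) =
    (evUnit π).app ((res F).X i) ≫ (res F).d i j :=
  (evUnit π).naturality ((res F).d i j)

include hQ in
theorem cycToRes_spec (y : P) (z : ((extCx F Q).cycles r).presheaf.stalk y) :
    resd F y r (stk (cycToRes π F r) y z) = 0 ∧
      ∀ a ∈ ann π y, a • stk (cycToRes π F r) y z = 0 := by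
  refine ⟨?_, fun a ha => ?_⟩
  · show stk _ y (stk _ y z) = 0
    rw [← stk_comp, cycToRes, Category.assoc, ← evUnit_d, ← Category.assoc, HomologicalComplex.iCycles_d, zero_comp]
    show ((DerSch.stalkFunctor P y).map 0).hom z = 0
    rw [Functor.map_zero]
    rfl
  · rw [cycToRes, stk_comp]
    exact smul_stk_evUnit π hQ _ _ ha

theorem exists_isCls {n : ℕ} {U : P.Opens} {g : Fin n → Γ(P, U)} (hgen : GenOn π g) (hy : y ∈ U) (s : resM F y r)
    (hk : KoszulLift.Kills (fun i => P.presheaf.germ U y hy (g i)) s) (hs : resd F y r s = 0) :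
    ∃ e, IsCls π F r y s e := by
  obtain ⟨c, rfl⟩ := exists_stk_evUnit π hgen _ hy s hk
  have hc : stk ((extCx F Q).d r (r + 1)) y c = 0 := stk_injective ((evUnit π).app _) y (by
    rw [map_zero]
    refine ((stk_comp _ _ y c).symm.trans ?_)
    rw [evUnit_d, stk_comp]; exact hs)
  obtain ⟨z, rfl⟩ := stk_exact (ShortComplex.exact_of_f_is_kernel
    (ShortComplex.mk _ _ ((extCx F Q).iCycles_d r (r + 1)))
      ((extCx F Q).cyclesIsKernel r (r + 1) (by simp))) y hc
  exact ⟨_, z, stk_comp _ _ y z, rfl⟩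

include hQ in
theorem exists_cocycle (e : ((E Q r).obj F).presheaf.stalk y) :
    ∃ s, IsCls π F r y s e ∧ resd F y r s = 0 ∧ ∀ a ∈ ann π y, a • s = 0 := by
  obtain ⟨z, rfl⟩ := stk_surjective (cycToExt (Q := Q) F r) y e
  exact ⟨_, ⟨z, rfl, rfl⟩, cycToRes_spec π hQ F r y z⟩

theorem homologyπ_zero_iff (q : ℕ) (z : ((extCx F Q).cycles (q + 1)).presheaf.stalk y) :
    stk (cycToExt F (q + 1)) y z = 0 ↔ ∃ w, stk ((extCx F Q).toCycles q (q + 1)) y w = z := by
  constructor
  · intro h
    rw [cycToExt, stk_comp] at h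
    have h' := (ConcreteCategory.bijective_of_isIso ((DerSch.stalkFunctor P y).map
      ((injectiveResolution F).isoRightDerivedObj (SheafHomX.hom Q) (q + 1)).inv)).1 (h.trans (map_zero _).symm)
    exact stk_exact (ShortComplex.exact_of_g_is_cokernel
      (ShortComplex.mk _ _ ((extCx F Q).toCycles_comp_homologyπ q (q + 1)))
      ((extCx F Q).homologyIsCokernel q (q + 1) (by simp))) y h'
  · rintro ⟨w, rfl⟩
    rw [cycToExt, ← stk_comp, ← Category.assoc, HomologicalComplex.toCycles_comp_homologyπ, zero_comp]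
    show ((DerSch.stalkFunctor P y).map 0).hom w = 0
    rw [Functor.map_zero]
    rfl

include hQ in
theorem isCls_eq_zero_iff {U : P.Opens} {g : Fin r → Γ(P, U)} (hgen : GenOn π g) (hy : y ∈ U) {s : resM F y r}
    {e : ((E Q r).obj F).presheaf.stalk y} (h : IsCls π F r y s e) :
    e = 0 ↔ KoszulLift.Bd (resM F y) (resd F y) (fun i => P.presheaf.germ U y hy (g i)) s := by
  obtain ⟨z, rfl, rfl⟩ := h
  cases r with
  | zero =>
    haveI : IsIso (cycToExt (Q := Q) F 0) := by unfold cycToExt; infer_instance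
    show stk (cycToExt F 0) y z = 0 ↔ stk (cycToRes π F 0) y z = 0
    rw [map_eq_zero_iff _ (stk_injective (cycToExt (Q := Q) F 0) y),
      map_eq_zero_iff _ (stk_injective (cycToRes π F 0) y)]
  | succ q =>
    rw [homologyπ_zero_iff]
    have hto : ∀ w, stk (cycToRes π F (q + 1)) y (stk ((extCx F Q).toCycles q (q + 1)) y w) =
        resd F y q (stk ((evUnit π).app ((res F).X q)) y w) := fun w => by
      refine (stk_comp _ _ y w).symm.trans (Eq.trans ?_ (stk_comp ((evUnit π).app ((res F).X q)) ((res F).d q (q + 1)) y w))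
      rw [cycToRes, ← Category.assoc, HomologicalComplex.toCycles_i, evUnit_d]
      rfl
    constructor
    · rintro ⟨w, rfl⟩
      refine ⟨stk ((evUnit π).app ((res F).X q)) y w, fun i => ?_, (hto w).symm⟩
      exact smul_stk_evUnit π hQ _ _ (by rw [hgen y hy]; exact Ideal.subset_span ⟨i, rfl⟩)
    · rintro ⟨u, hu, hus⟩
      obtain ⟨w, rfl⟩ := exists_stk_evUnit π hgen _ hy u hu
      exact ⟨w, stk_injective (cycToRes π F (q + 1)) y ((hto w).trans hus)⟩

/-- Classes spread out. -/
theorem exists_cls_section {V : P.Opens} (hy : y ∈ V) (s : Γ((res F).X r, V))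
    {e : ((E Q r).obj F).presheaf.stalk y} (h : IsCls π F r y (((res F).X r).presheaf.germ V y hy s) e) :
    ∃ (W : P.Opens) (hW : W ≤ V) (t : Γ((E Q r).obj F, W)), y ∈ W ∧
      ∀ z (hz : z ∈ W), IsCls π F r z (((res F).X r).presheaf.germ V z (hW hz) s)
        (((E Q r).obj F).presheaf.germ W z hz t) := by
  obtain ⟨ζ, hζ, -⟩ := h
  obtain ⟨W₀, hW₀, ζ₀, rfl⟩ := TopCat.Presheaf.exists_germ_eq ((extCx F Q).cycles r).presheaf ζ
  rw [stk_germ] at hζ
  obtain ⟨W, hyW, a, b, hab⟩ := TopCat.Presheaf.germ_eq ((res F).X r).presheaf y hW₀ hy _ _ hζ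
  refine ⟨W, b.le, (cycToExt (Q := Q) F r).app W (AModX.res _ a.le ζ₀), hyW, fun z hz =>
    ⟨((extCx F Q).cycles r).presheaf.germ W z hz (AModX.res _ a.le ζ₀), ?_, stk_germ _ hz _⟩⟩
  rw [RefX.germ_res _ a.le hz, stk_germ, ← RefX.germ_res _ a.le hz, ← RefX.germ_res _ b.le hz]
  exact congrArg _ hab

end Classes

end Groth.Agent.ExtShX
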