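import Groth.Agent.ExtPowSh.FiltAlg
import Mathlib.LinearAlgebra.ExteriorPower.Basis

/-!
# The wedge pairing of complementary exterior powers of a free module
-/

set_option autoImplicit false
set_option linter.style.haveILetI false

universe u

open scoped TensorProduct

namespace Groth.Agent.ExtShX.Pair

variable {R : Type u} [CommRing R] {M : Type u} [AddCommGroup M] [Module R M]

/-- A bilinear map matching two bases by a bijection, with unit values, is a perfect pairing. -/
theorem bijective_of_matched {A B C : Type u} [AddCommGroup A] [Module R A] [AddCommGroup B] [Module R B]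
    [AddCommGroup C] [Module R C] {I J : Type*} [Fintype I] [Fintype J] (a : Module.Basis I R A)
    (b : Module.Basis J R B) {ω : C} (hω : Function.Bijective fun r : R => r • ω) (σ : I ≃ J) (u : I → Rˣ)
    (Φ : A →ₗ[R] B →ₗ[R] C) (h0 : ∀ i j, σ i ≠ j → Φ (a i) (b j) = 0)
    (h1 : ∀ i, Φ (a i) (b (σ i)) = (u i : R) • ω) : Function.Bijective Φ := by
  classical
  have key : ∀ (c : I → R) i, Φ (∑ l, c l • a l) (b (σ i)) = (c i * u i) • ω := fun c i => by
    rw [map_sum, LinearMap.sum_apply, Finset.sum_eq_single i]
    · rw [map_smul, LinearMap.smul_apply, h1, mul_smul]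
    · intro l _ hl
      rw [map_smul, LinearMap.smul_apply, h0 l _ (fun e => hl (σ.injective e)), smul_zero]
    · intro hi; exact absurd (Finset.mem_univ i) hi
  constructor
  · refine (injective_iff_map_eq_zero _).2 fun m hm => ?_
    rw [← a.sum_repr m] at hm ⊢
    refine Finset.sum_eq_zero fun i _ => ?_
    have h2 := key (fun l => a.repr m l) i
    rw [hm, LinearMap.zero_apply] at h2
    have h3 : a.repr m i * (u i : R) = 0 := hω.1 (by show _ • ω = (0 : R) • ω; rw [← h2, zero_smul])
    rw [(u i).mul_left_eq_zero.1 h3, zero_smul]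
  · intro φ
    choose r hr using fun j => hω.2 (φ (b j))
    refine ⟨∑ l, (r (σ l) * ((u l)⁻¹ : Rˣ)) • a l, b.ext fun j => ?_⟩
    obtain ⟨i, rfl⟩ := σ.surjective j
    rw [key, Units.inv_mul_cancel_right]
    exact hr (σ i)

/-- The complement of a subset. -/
theorem exists_compl {p q n : ℕ} (h : q + p = n) :
    ∃ σ : Set.powersetCard (Fin n) q ≃ Set.powersetCard (Fin n) p,
      ∀ s i, i ∈ σ s ↔ i ∉ s := by
  classical
  exact ⟨{ toFun := fun s => ⟨s.1ᶜ, by
              show (s.1ᶜ).card = p
              have := s.2
              simp only [Set.powersetCard.mem_iff] at this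
              rw [Finset.card_compl, Fintype.card_fin, this]; omega⟩
           invFun := fun s => ⟨s.1ᶜ, by
              show (s.1ᶜ).card = q
              have := s.2
              simp only [Set.powersetCard.mem_iff] at this
              rw [Finset.card_compl, Fintype.card_fin, this]; omega⟩
           left_inv := fun s => Subtype.ext (compl_compl s.1)
           right_inv := fun s => Subtype.ext (compl_compl s.1) },
    fun s i => Finset.mem_compl⟩

/-- The values of the wedge pairing on the standard bases. -/
theorem exists_matched {p q n : ℕ} (h : q + p = n) (b : Module.Basis (Fin n) R M) :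
    ∃ (σ : Set.powersetCard (Fin n) q ≃ Set.powersetCard (Fin n) p) (u : Set.powersetCard (Fin n) q → Rˣ),
      (∀ s t, σ s ≠ t → ExtPowSh.mu (LinearMap.id : M →ₗ[R] M) h
        (exteriorPower.ιMulti_family R q b s ⊗ₜ exteriorPower.ιMulti_family R p b t) = 0) ∧
      ∀ s, ExtPowSh.mu (LinearMap.id : M →ₗ[R] M) h
        (exteriorPower.ιMulti_family R q b s ⊗ₜ exteriorPower.ιMulti_family R p b (σ s)) =
          (u s : R) • exteriorPower.ιMulti R n b := by
  classical
  obtain ⟨σ, hσ⟩ := exists_compl h
  let v : Set.powersetCard (Fin n) q → Set.powersetCard (Fin n) p → Fin n → Fin n := fun s t =>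
    Fin.append (Set.powersetCard.ofFinEmbEquiv.symm s) (Set.powersetCard.ofFinEmbEquiv.symm t) ∘ Fin.cast h.symm
  have hval : ∀ s t, ExtPowSh.mu (LinearMap.id : M →ₗ[R] M) h
      (exteriorPower.ιMulti_family R q b s ⊗ₜ exteriorPower.ιMulti_family R p b t) =
      exteriorPower.ιMulti R n (b ∘ v s t) := fun s t => by
    rw [exteriorPower.ιMulti_family, exteriorPower.ιMulti_family, ExtPowSh.mu_ιMulti]
    refine congrArg _ (funext fun j => ?_)
    show Fin.append _ _ (Fin.cast h.symm j) = b (Fin.append _ _ (Fin.cast h.symm j))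
    generalize Fin.cast h.symm j = k
    induction k using Fin.addCases with
    | left k => simp
    | right k => simp
  have hmem : ∀ {m : ℕ} (s : Set.powersetCard (Fin n) m) i,
      i ∈ Set.range (Set.powersetCard.ofFinEmbEquiv.symm s) ↔ i ∈ s := fun s i =>
    Set.powersetCard.mem_range_ofFinEmbEquiv_symm_iff_mem s i
  have hinj : ∀ s, Function.Injective (v s (σ s)) := fun s => by
    refine Function.Injective.comp (Fin.append_injective_iff.2 ⟨?_, ?_, fun i j e => ?_⟩) (Fin.cast_injective _)
    · exact (Set.powersetCard.ofFinEmbEquiv.symm s).injective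
    · exact (Set.powersetCard.ofFinEmbEquiv.symm (σ s)).injective
    · exact (hσ s _).1 ((hmem (σ s) _).1 ⟨j, rfl⟩) ((hmem s _).1 ⟨i, e⟩)
  let π : Set.powersetCard (Fin n) q → Equiv.Perm (Fin n) := fun s =>
    Equiv.ofBijective _ (Finite.injective_iff_bijective.1 (hinj s))
  refine ⟨σ, fun s => Units.map (Int.castRingHom R : ℤ →* R) (Equiv.Perm.sign (π s)), fun s t hst => ?_,
    fun s => ?_⟩
  · rw [hval]
    refine AlternatingMap.map_eq_zero_of_not_injective _ _ fun hi => hst ?_
    have hv : Function.Injective (v s t) := fun a c e => hi (congrArg b e)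
    have hsub : (t.1 : Finset (Fin n)) ⊆ (σ s).1 := fun i hi' => by
      refine (hσ s i).2 fun his => ?_
      obtain ⟨j, hj⟩ := (hmem t i).2 hi'
      obtain ⟨l, hl⟩ := (hmem s i).2 his
      have e : v s t (Fin.cast h (Fin.natAdd q j)) = v s t (Fin.cast h (Fin.castAdd p l)) := by
        simp [v, hj, hl]
      have e' := congrArg Fin.val (hv e)
      simp at e'
      omega
    refine (Subtype.ext (Finset.eq_of_subset_of_card_le hsub ?_)).symm
    have h1 := t.2
    have h2 := (σ s).2
    simp only [Set.powersetCard.mem_iff] at h1 h2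
    omega
  · rw [hval, show (v s (σ s)) = ⇑(π s) from rfl]
    refine ((exteriorPower.ιMulti R n).map_perm (⇑b) (π s)).trans ?_
    rw [Units.smul_def, ← Int.cast_smul_eq_zsmul R]
    rfl

end Groth.Agent.ExtShX.Pair
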