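import Groth.Agent.ExtShX.Local
import Groth.Agent.ExtShX.ExtRingEquiv
import Groth.Agent.ExtShX.CanonStalk
import Groth.Prelude.Def_ModSite2
import Mathlib.Topology.Sheaves.Points

/-!
# Stalks at the points of the site of opens
-/

set_option linter.style.haveILetI false
set_option linter.unusedSectionVars false
set_option backward.isDefEq.respectTransparency false
set_option backward.isDefEq.respectTransparency.types false
set_option maxHeartbeats 1000000

universe u w

open CategoryTheory CategoryTheory.Limits AlgebraicGeometry TopologicalSpace Opposite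

noncomputable section

namespace Groth.Agent.ExtShX

variable {A : Type w} [Category.{u} A] [HasColimitsOfSize.{u, u} A] {T : TopCat.{u}} (P : TopCat.Presheaf A T) (x : T)

/-- The fibre at the point of the site given by `x` is the stalk at `x`. -/
def fiberIsoStalk : (Opens.pointGrothendieckTopology x).presheafFiber.obj P ≅ P.stalk x where
  hom := colimit.desc ((CategoryOfElements.π (Opens.pointGrothendieckTopology x).fiber).op ⋙ P)
    { pt := P.stalk x
      ι :=
        { app := fun j => P.germ j.unop.1 x j.unop.2.down.down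
          naturality := fun j j' f => by
            refine Eq.trans ?_ (Category.comp_id _).symm
            exact P.germ_res f.unop.1 x _ } }
  inv := colimit.desc ((OpenNhds.inclusion x).op ⋙ P)
    { pt := (Opens.pointGrothendieckTopology x).presheafFiber.obj P
      ι :=
        { app := fun U => (Opens.pointGrothendieckTopology x).toPresheafFiber U.unop.1 ⟨⟨U.unop.2⟩⟩ P
          naturality := fun U U' f => by
            refine Eq.trans ?_ (Category.comp_id _).symm
            exact ((Opens.pointGrothendieckTopology x).toPresheafFiber_w _ _ P).trans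
              (congrArg (fun t => (Opens.pointGrothendieckTopology x).toPresheafFiber _ t P)
                (Subsingleton.elim _ _)) } }
  hom_inv_id := by
    refine (Opens.pointGrothendieckTopology x).presheafFiber_hom_ext fun U hU => ?_
    rw [Category.comp_id]
    erw [colimit.ι_desc_assoc, colimit.ι_desc]
    rfl
  inv_hom_id := by
    refine TopCat.Presheaf.stalk_hom_ext P fun U hU => ?_
    rw [Category.comp_id]
    erw [colimit.ι_desc_assoc, colimit.ι_desc]

theorem germ_fiberIsoStalk_inv (U : Opens T) (hU : x ∈ U) :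
    P.germ U x hU ≫ (fiberIsoStalk P x).inv =
      (Opens.pointGrothendieckTopology x).toPresheafFiber U ⟨⟨hU⟩⟩ P :=
  colimit.ι_desc _ _

variable {X : Scheme.{u}}

/-- The local ring at the point. -/
def pointRing (x : X) : X.presheaf.stalk x ≃+* ModSite.stalkRing (Opens.pointGrothendieckTopology x) X.sheaf :=
  (fiberIsoStalk X.presheaf x).symm.commRingCatIsoToRingEquiv

/-- The stalks of a module at the point. -/
def pointStalk (M : X.Modules) (x : X) :
    M.presheaf.stalk x ≃+ ModSite.stalkAb (Opens.pointGrothendieckTopology x) (O := X.sheaf) M :=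
  (fiberIsoStalk M.presheaf x).symm.addCommGroupIsoToAddEquiv

theorem pointStalk_smul (M : X.Modules) (x : X) (a : X.presheaf.stalk x) (m : M.presheaf.stalk x) :
    pointStalk M x (a • m) = pointRing x a • pointStalk M x m := by
  obtain ⟨U, hU, c, rfl⟩ := X.presheaf.exists_germ_eq (x := x) a
  obtain ⟨V, hV, v, rfl⟩ := M.presheaf.exists_germ_eq (x := x) m
  have hW : x ∈ U ⊓ V := ⟨hU, hV⟩
  rw [← X.presheaf.germ_res_apply (homOfLE inf_le_left : U ⊓ V ⟶ U) x hW c,
    ← M.presheaf.germ_res_apply (homOfLE inf_le_right : U ⊓ V ⟶ V) x hW v]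
  generalize X.presheaf.map (homOfLE inf_le_left : U ⊓ V ⟶ U).op c = c'
  generalize M.presheaf.map (homOfLE inf_le_right : U ⊓ V ⟶ V).op v = v'
  rw [← QCoh.germ_smul' M hW]
  have h1 : ∀ s, pointStalk M x (M.presheaf.germ (U ⊓ V) x hW s) =
      ModSite.germ (Opens.pointGrothendieckTopology x) (O := X.sheaf) M (U ⊓ V) ⟨⟨hW⟩⟩ s := fun s =>
    ConcreteCategory.congr_hom (germ_fiberIsoStalk_inv M.presheaf x (U ⊓ V) hW) s
  have h2 : pointRing x (X.presheaf.germ (U ⊓ V) x hW c') =
      ModSite.germRing (Opens.pointGrothendieckTopology x) (O := X.sheaf) (U ⊓ V) ⟨⟨hW⟩⟩ c' :=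
    ConcreteCategory.congr_hom (germ_fiberIsoStalk_inv X.presheaf x (U ⊓ V) hW) c'
  rw [h1, h1, h2]
  exact ModSite.germ_smul _ (O := X.sheaf) M _ _ _ _

/-- Stalks of local Ext sheaves, as modules over the local ring. -/
theorem exists_stalk_ext_linear [IsLocallyNoetherian X] {F : X.Modules} (hF : Coh.IsCoh F) (G : X.Modules) (x : X)
    (i : ℕ) : Nonempty (((E F i).obj G).presheaf.stalk x ≃ₗ[X.presheaf.stalk x]
      Abelian.Ext ((DerSch.stalkFunctor X x).obj F) ((DerSch.stalkFunctor X x).obj G) i) := by
  obtain ⟨A, e, M, N, fF, fG, φ, hfF, hfG, hφ⟩ := exists_stalk_ext_semilinear hF G i x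
  obtain ⟨Φ, hΦ⟩ := exists_ext_semilinear e (M := (DerSch.stalkFunctor X x).obj F)
    (N := (DerSch.stalkFunctor X x).obj G) fF fG hfF hfG i
  exact ⟨{ φ.trans Φ.symm with
    map_smul' := fun a m => Φ.injective (by
      show Φ (Φ.symm (φ (a • m))) = Φ (a • Φ.symm (φ m))
      rw [hΦ, Φ.apply_symm_apply, Φ.apply_symm_apply, hφ]) }⟩

end Groth.Agent.ExtShX
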