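import Groth.Agent.ExtShX.PairAlg
import Groth.Agent.ExtShX.PointStalk
import Groth.Agent.ExtPowSh.Filt
import Groth.Agent.ExtShX.Adjunction
import Mathlib.RingTheory.OrzechProperty

/-!
# `ℋom(∧^p E, ∧^n E) ≅ ∧^q E` for a bundle of rank `n = q + p`
-/

set_option autoImplicit false
set_option linter.style.haveILetI false
set_option linter.unusedSectionVars false
set_option backward.isDefEq.respectTransparency false
set_option backward.isDefEq.respectTransparency.types false
set_option maxHeartbeats 1000000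

universe u

open CategoryTheory CategoryTheory.Limits AlgebraicGeometry TopologicalSpace Opposite MonoidalCategory
open scoped TensorProduct

noncomputable section

namespace Groth.Agent.ExtShX.Pair

open Groth.Agent

variable {X : Scheme.{u}}

/-- Adjoints, evaluated on stalks. -/
theorem phi_homEquiv (x : X) {H M G : X.Modules} (μ : (SheafHomX.ten M).obj H ⟶ G)
    (m : (DerSch.stalkFunctor X x).obj H) (v : (DerSch.stalkFunctor X x).obj M) :
    phi x M G (((DerSch.stalkFunctor X x).map ((SheafHomX.adj M).homEquiv H G μ)).hom m) v =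
      ((DerSch.stalkFunctor X x).map μ).hom
        ((KFlatLib.stalkTensorIso x H M).hom.hom (m ⊗ₜ[X.presheaf.stalk x] v)) := by
  have hd := ((SheafHomX.adj M).homEquiv H G).symm_apply_apply μ
  rw [Adjunction.homEquiv_counit] at hd
  have e1 := KFlatLib.stalkTensorIso_naturality (x := x) ((SheafHomX.adj M).homEquiv H G μ) (𝟙 M)
  simp only [CategoryTheory.Functor.map_id, Category.comp_id, NatTrans.id_app, Category.id_comp] at e1
  have e1' := congrArg (fun q => q.hom (m ⊗ₜ[X.presheaf.stalk x] v)) e1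
  simp only [ModuleCat.hom_comp, LinearMap.comp_apply] at e1'
  erw [ModuleCat.MonoidalCategory.tensorHom_tmul] at e1'
  rw [phi_apply]
  erw [e1']
  show (((DerSch.stalkFunctor X x).map _) ≫ (DerSch.stalkFunctor X x).map _).hom _ = _
  rw [← Functor.map_comp]
  exact congrArg (fun q => ((DerSch.stalkFunctor X x).map q).hom _) hd

/-- Germs of wedges of a basis over an affine open. -/
theorem exists_stalk_basis {E : X.Modules} (hE : Coh.IsQCoh E) (i : ℕ) {V : X.Opens} (hV : IsAffineOpen V) {x : X}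
    (hx : x ∈ V) {n : ℕ} (b : Module.Basis (Fin n) Γ(X, V) (E.val.obj (op V))) :
    ∃ c : Module.Basis (Set.powersetCard (Fin n) i) (X.presheaf.stalk x)
        ((DerSch.stalkFunctor X x).obj (ExtPowSh.L E i)),
      ∀ s, c s = (ExtPowSh.L E i).presheaf.germ V x hx
        (ExtPowSh.toL E i V (exteriorPower.ιMulti_family Γ(X, V) i b s)) := by
  letI := QCoh.stalkAlg (X := X) hx
  letI := QCoh.stalkModule (ExtPowSh.L E i) hx
  haveI : IsScalarTower Γ(X, V) (X.presheaf.stalk x) ((ExtPowSh.L E i).presheaf.stalk x) :=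
    IsScalarTower.of_algebraMap_smul fun _ _ => rfl
  haveI := QCoh.isLocalization_stalk' hV hx
  haveI := QCoh.isLocalizedModule_germLin (ExtPowSh.isQCoh E i hE) hV hx
  let c₀ : Module.Basis (Set.powersetCard (Fin n) i) Γ(X, V) Γ(ExtPowSh.L E i, V) :=
    (b.exteriorPower i).map (LinearEquiv.ofBijective (ExtPowSh.toL E i V) (ExtPowSh.toL_bijective E i hE hV))
  suffices h : ∃ c : Module.Basis (Set.powersetCard (Fin n) i) (X.presheaf.stalk x)
      ((ExtPowSh.L E i).presheaf.stalk x), ∀ s, c s = (ExtPowSh.L E i).presheaf.germ V x hx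
        (ExtPowSh.toL E i V (exteriorPower.ιMulti_family Γ(X, V) i b s)) by exact h
  refine ⟨c₀.ofIsLocalizedModule (X.presheaf.stalk x) (hV.primeIdealOf ⟨x, hx⟩).asIdeal.primeCompl
    (QCoh.germLin (ExtPowSh.L E i) hx), fun s => ?_⟩
  refine (Module.Basis.ofIsLocalizedModule_apply _ _ _ c₀ s).trans ?_
  show (ExtPowSh.L E i).presheaf.germ V x hx (ExtPowSh.toL E i V ((b.exteriorPower i) s)) = _
  rw [exteriorPower.basis_apply]

variable [IsLocallyNoetherian X] {E : X.Modules} {p q n : ℕ}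

theorem bijective_stalk (hE : Coh.IsQCoh E) (h : q + p = n)
    (μ : ExtPowSh.tens (ExtPowSh.L E q) (ExtPowSh.L E p) ⟶ ExtPowSh.L E n)
    (hμ : ∀ (U : X.affineOpens) z, ExtPowSh.appL μ U.1 (ExtPowSh.tau E E q p U.1 z) =
      ExtPowSh.toL E n U.1 (ExtPowSh.mu LinearMap.id h z))
    (hp : Coh.IsCoh (ExtPowSh.L E p)) {V : X.Opens} (hV : IsAffineOpen V) {x : X} (hx : x ∈ V)
    (b : Module.Basis (Fin n) Γ(X, V) (E.val.obj (op V))) :
    Function.Bijective ((DerSch.stalkFunctor X x).map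
      ((SheafHomX.adj (ExtPowSh.L E p)).homEquiv (ExtPowSh.L E q) (ExtPowSh.L E n) μ)).hom := by
  classical
  let R := X.presheaf.stalk x
  let σf := DerSch.stalkFunctor X x
  obtain ⟨a, ha⟩ := exists_stalk_basis hE q hV hx b
  obtain ⟨c, hc⟩ := exists_stalk_basis hE p hV hx b
  obtain ⟨d, hd⟩ := exists_stalk_basis hE n hV hx b
  let t₀ : Set.powersetCard (Fin n) n := ⟨Finset.univ, by simp⟩
  let ω : σf.obj (ExtPowSh.L E n) := d t₀
  have huniq : ∀ t : Set.powersetCard (Fin n) n, t = t₀ := fun t => Subtype.ext (Finset.eq_univ_of_card _ (by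
    have := t.2
    simp only [Set.powersetCard.mem_iff] at this
    simpa using this))
  have hω : Function.Bijective fun r : R => r • ω := by
    refine ⟨fun r r' e => ?_, fun z => ⟨d.repr z t₀, ?_⟩⟩
    · have e' := congrArg (fun v => d.repr v t₀) e
      simpa [ω] using e'
    · show d.repr z t₀ • ω = z
      refine d.ext_elem fun t => ?_
      rw [huniq t]
      simp [ω]
  have hωval : ω = (ExtPowSh.L E n).presheaf.germ V x hx (ExtPowSh.toL E n V (exteriorPower.ιMulti _ n b)) := by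
    refine (hd t₀).trans (congrArg _ (congrArg _ ?_))
    rw [exteriorPower.ιMulti_family]
    refine congrArg _ (funext fun j => congrArg b ?_)
    exact congrFun (((Set.powersetCard.ofFinEmbEquiv.symm t₀).strictMono.range_inj strictMono_id).1
      (by
        rw [Set.range_id]
        exact Set.eq_univ_of_forall fun i => (Set.powersetCard.mem_range_ofFinEmbEquiv_symm_iff_mem t₀ i).2
          (Finset.mem_univ i))) j
  obtain ⟨σ, w, hw0, hw1⟩ := exists_matched (p := p) (q := q) h b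
  let β := (SheafHomX.adj (ExtPowSh.L E p)).homEquiv (ExtPowSh.L E q) (ExtPowSh.L E n) μ
  let ph := phi x (ExtPowSh.L E p) (ExtPowSh.L E n)
  let Φ : σf.obj (ExtPowSh.L E q) →ₗ[R] (σf.obj (ExtPowSh.L E p) →ₗ[R] σf.obj (ExtPowSh.L E n)) :=
    ph ∘ₗ (σf.map β).hom
  have hval : ∀ s t, Φ (a s) (c t) = (ExtPowSh.L E n).presheaf.germ V x hx (ExtPowSh.toL E n V
      (ExtPowSh.mu LinearMap.id h
        (exteriorPower.ιMulti_family _ q b s ⊗ₜ exteriorPower.ιMulti_family _ p b t))) := fun s t => by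
    refine (phi_homEquiv x μ (a s) (c t)).trans ?_
    rw [ha, hc]
    refine (congrArg (σf.map μ).hom (KFlatLib.stalkTensorIso_gm (ExtPowSh.L E q) (ExtPowSh.L E p) V hx _ _)).trans ?_
    refine (DerSch.stalkFunctor_map_germ x μ V hx _).trans ?_
    exact congrArg _ (hμ ⟨V, hV⟩ (exteriorPower.ιMulti_family _ q b s ⊗ₜ exteriorPower.ιMulti_family _ p b t))
  have hΦ : Function.Bijective Φ := by
    refine bijective_of_matched a c hω σ (fun s => Units.map (X.presheaf.germ V x hx).hom (w s)) Φ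
      (fun s t hst => ?_) fun s => ?_
    · rw [hval, hw0 s t hst, map_zero]
      exact map_zero _
    · rw [hval, hw1, map_smul, hωval]
      exact QCoh.germ_smul' _ hx _ _
  obtain ⟨e₀⟩ := exists_stalk_ext_linear hp (ExtPowSh.L E n) x 0
  let e : σf.obj ((SheafHomX.hom (ExtPowSh.L E p)).obj (ExtPowSh.L E n)) ≃ₗ[R]
      (σf.obj (ExtPowSh.L E p) →ₗ[R] σf.obj (ExtPowSh.L E n)) :=
    (σf.mapIso ((zeroIso (ExtPowSh.L E p)).app (ExtPowSh.L E n))).toLinearEquiv.symm.trans
      (e₀.trans (Abelian.Ext.linearEquiv₀.trans ModuleCat.homLinearEquiv))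
  haveI : Module.Free R (σf.obj (ExtPowSh.L E p)) := Module.Free.of_basis c
  haveI : Module.Finite R (σf.obj (ExtPowSh.L E p)) := Module.Finite.of_basis c
  haveI : Module.Free R (σf.obj (ExtPowSh.L E n)) := Module.Free.of_basis d
  haveI : Module.Finite R (σf.obj (ExtPowSh.L E n)) := Module.Finite.of_basis d
  have hph : Function.Surjective ph := fun y => by
    obtain ⟨m, hm⟩ := hΦ.2 y
    exact ⟨_, hm⟩
  have hinj : Function.Injective ph := by
    have := OrzechProperty.injective_of_surjective_endomorphism (ph ∘ₗ e.symm.toLinearMap)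
      (hph.comp e.symm.surjective)
    intro y y' hy
    refine e.injective (this ?_)
    show ph (e.symm (e y)) = ph (e.symm (e y'))
    rw [e.symm_apply_apply, e.symm_apply_apply, hy]
  exact ⟨fun y y' hy => hΦ.1 (congrArg ph hy), fun y => by
    obtain ⟨m, hm⟩ := hΦ.2 (ph y)
    exact ⟨m, hinj hm⟩⟩

/-- `ℋom(∧^p E, ∧^n E) ≅ ∧^q E`. -/
theorem nonempty_hom_extPow_iso (h : q + p = n) (hE : FlatMod.IsFinLocFreeOfRank n E)
    {Lp Lq Ln : X.Modules} (hLp : ExtPow.IsExtPow p E Lp) (hLq : ExtPow.IsExtPow q E Lq)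
    (hLn : ExtPow.IsExtPow n E Ln) : Nonempty ((SheafHomX.hom Lp).obj Ln ≅ Lq) := by
  have hq : Coh.IsQCoh E := QCoh.isQCoh_of_isFinLocFree (KZ.CycleClass.isFinLocFree_of_rank hE)
  obtain ⟨μ, hμ⟩ := ExtPowSh.exists_hom_tens E E q p hq hq (T := ExtPowSh.L E n)
    (fun U => ExtPowSh.toL E n U.1 ∘ₗ ExtPowSh.mu LinearMap.id h) fun U V hle x y => by
      simp only [LinearMap.comp_apply]
      rw [ExtPowSh.mu_ιMulti, ExtPowSh.mu_ιMulti, ExtPowSh.map_toL, ExtPowSh.map_ιMulti]
      refine congrArg _ (congrArg _ (funext fun j => ?_))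
      show E.val.map (homOfLE hle).op (Fin.append (LinearMap.id ∘ x) y (Fin.cast h.symm j)) =
        Fin.append (LinearMap.id ∘ fun l => E.val.map (homOfLE hle).op (x l))
          (fun l => E.val.map (homOfLE hle).op (y l)) (Fin.cast h.symm j)
      generalize Fin.cast h.symm j = k
      induction k using Fin.addCases with
      | left k => simp
      | right k => simp
  obtain ⟨ap⟩ := ExtPowSh.nonempty_iso hLp (ExtPowSh.isExtPow E p hq)
  obtain ⟨aq⟩ := ExtPowSh.nonempty_iso hLq (ExtPowSh.isExtPow E q hq)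
  obtain ⟨an⟩ := ExtPowSh.nonempty_iso hLn (ExtPowSh.isExtPow E n hq)
  have hbasis : ∀ x : X, ∃ (V : X.Opens) (_ : IsAffineOpen V), x ∈ V ∧
      Nonempty (Module.Basis (Fin n) Γ(X, V) (E.val.obj (op V))) := fun x => by
    obtain ⟨U, hxU, ⟨e⟩⟩ := hE x
    obtain ⟨V, hV, hxV, hle⟩ := exists_isAffineOpen_mem_and_subset (U := U) hxU
    obtain ⟨l⟩ := QCoh.free_sections hV hle e
    let l' : E.val.obj (op V) ≃ₗ[Γ(X, V)] (ULift.{u} (Fin n) →₀ Γ(X, V)) :=
      { toFun := l, map_add' := map_add l, map_smul' := fun r s => l.map_smul r s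
        invFun := l.symm, left_inv := l.symm_apply_apply, right_inv := l.apply_symm_apply }
    exact ⟨V, hV, hxV, ⟨(Module.Basis.ofRepr l').reindex Equiv.ulift⟩⟩
  have hp : Coh.IsCoh (ExtPowSh.L E p) :=
    QCoh.isCoh_iff_isFP.2 (QCoh.isFP_of_isFinLocFree (ExtPowSh.isFinLocFree (E := E) (i := p) (KZ.CycleClass.isFinLocFree_of_rank hE)))
  let β := (SheafHomX.adj (ExtPowSh.L E p)).homEquiv (ExtPowSh.L E q) (ExtPowSh.L E n) μ
  haveI : IsIso β := KFlatLib.isIso_of_stalk _ fun x => by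
    obtain ⟨V, hV, hxV, ⟨b⟩⟩ := hbasis x
    exact (ConcreteCategory.isIso_iff_bijective _).2 (bijective_stalk hq h μ hμ hp hV hxV b)
  let c : (SheafHomX.hom Lp).obj Ln ≅ (SheafHomX.hom (ExtPowSh.L E p)).obj Ln :=
    { hom := (SheafHomX.homMap ap.inv).app _
      inv := (SheafHomX.homMap ap.hom).app _
      hom_inv_id := by rw [← SheafHomX.homMap_comp, Iso.hom_inv_id, SheafHomX.homMap_id]
      inv_hom_id := by rw [← SheafHomX.homMap_comp, Iso.inv_hom_id, SheafHomX.homMap_id] }
  exact ⟨c ≪≫ (SheafHomX.hom (ExtPowSh.L E p)).mapIso an ≪≫ (asIso β).symm ≪≫ aq.symm⟩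

end Groth.Agent.ExtShX.Pair
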