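import Groth.Agent.ExtShX.DualX

/-!
# `ℋom(L ⊗ O(d), ω) ≅ ℋom(L, ω) ⊗ O(-d)`
-/

set_option autoImplicit false
set_option linter.style.haveILetI false
set_option backward.isDefEq.respectTransparency false
set_option backward.isDefEq.respectTransparency.types false
set_option maxHeartbeats 1000000

universe u

open CategoryTheory CategoryTheory.Limits AlgebraicGeometry TopologicalSpace Opposite

noncomputable section

namespace Groth.Agent.ExtShX.Pair

open Groth.Agent Groth.Agent.PnCoh Groth.Agent.PnCoh.Finite Groth.Agent.PnDual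

theorem nonempty_hom_tensor_twist (r : ℕ) (k : Type u) [Field k] (d : ℤ) (L ω L' : (CohB1.ProjSpace r k).Modules)
    (a : (SheafHomX.hom L).obj ω ≅ L') :
    Nonempty ((SheafHomX.hom (CohB1.tensorMod L (Twist.twistProjSpace r k d))).obj ω ≅
      CohB1.tensorMod L' (Twist.twistProjSpace r k (-d))) := by
  let N := Twist.twistProjSpace r k d
  let N' := Twist.twistProjSpace r k (-d)
  have hN : PicF.IsInvertible N := PnVan.invertible_twist _
  obtain ⟨f⟩ := twist_tensor_iso (coordsR k r) coordsR_mem coordsR_cover (-d) d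
  obtain ⟨z⟩ := PnVan.twist_zero (k := k) (r := r)
  let e : CohB1.tensorMod N' N ≅ Coh.structureModule (CohB1.ProjSpace r k) :=
    f ≪≫ eqToIso (by rw [neg_add_cancel]) ≪≫ z.symm
  obtain ⟨c⟩ := H23.PicMul.comm N L
  haveI : (SheafHomX.ten N).IsEquivalence := AmpleVan.isEquivalence_tw hN
  haveI : IsIso ((SheafHomX.adj N).counit.app L') := inferInstance
  -- `hom (L ⊗ N) = hom N ∘ hom L`
  let T : SheafHomX.ten N ⋙ SheafHomX.ten L ≅ SheafHomX.ten (CohB1.tensorMod L N) :=
    AmpleVan.twComp N L ≪≫ (DCoh.tensorBi (X := CohB1.ProjSpace r k)).flip.mapIso c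
  let u := (((SheafHomX.adj N).comp (SheafHomX.adj L)).ofNatIsoLeft T).rightAdjointUniq
    (SheafHomX.adj (CohB1.tensorMod L N))
  let v : (SheafHomX.hom N).obj L' ≅ CohB1.tensorMod L' N' :=
    (SheafHomX.ten N).preimageIso (asIso ((SheafHomX.adj N).counit.app L') ≪≫
      (AmpleVan.twUnit.app L').symm ≪≫ ((DCoh.tensorBi.obj L').mapIso e).symm ≪≫ ((AmpleVan.twComp N' N).app L').symm)
  exact ⟨(u.app ω).symm ≪≫ (SheafHomX.hom N).mapIso a ≪≫ v⟩

end Groth.Agent.ExtShX.Pair
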