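import Groth.Agent.Lib.PnDualExtPn
import Mathlib.Algebra.Homology.DerivedCategory.Ext.Map

/-!
# The Yoneda pairing and Serre duality, naturally
-/

set_option linter.style.haveILetI false
set_option linter.unusedSectionVars false
set_option backward.isDefEq.respectTransparency false
set_option backward.isDefEq.respectTransparency.types false
set_option maxHeartbeats 1000000

universe u

open CategoryTheory CategoryTheory.Limits AlgebraicGeometry TopologicalSpace Opposite

noncomputable section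

namespace Groth.Agent.ExtShX

variable {k : Type u} [Field k] {X : Scheme.{u}} [X.Over (Spec (CommRingCat.of k))] [HasExt.{u} X.Modules]

instance preservesFiniteColimits_toAb : PreservesFiniteColimits (QCoh.toAbFunctor X) :=
  Functor.preservesFiniteColimits_of_preservesHomology _

/-- `Ext` of modules to `Ext` of abelian sheaves. -/
def toAbExt {F G : X.Modules} {i : ℕ} (e : Abelian.Ext F G i) :
    Abelian.Ext ((QCoh.toAbFunctor X).obj F) ((QCoh.toAbFunctor X).obj G) i :=
  e.mapExactFunctor (QCoh.toAbFunctor X)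

/-- The cup product with an extension class. -/
def hmul {G ω : X.Modules} {p i N : ℕ} (x : Coh.HH X G p) (e : Abelian.Ext G ω i) (h : p + i = N) :
    Coh.HH X ω N :=
  Abelian.Ext.comp x (toAbExt e) h

theorem hmul_add_left {G ω : X.Modules} {p i N : ℕ} (x y : Coh.HH X G p) (e : Abelian.Ext G ω i) (h : p + i = N) :
    hmul (x + y) e h = hmul x e h + hmul y e h :=
  Abelian.Ext.add_comp x y (toAbExt e) h

theorem hmul_add_right {G ω : X.Modules} {p i N : ℕ} (x : Coh.HH X G p) (e e' : Abelian.Ext G ω i) (h : p + i = N) :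
    hmul x (e + e') h = hmul x e h + hmul x e' h := by
  show Abelian.Ext.comp x (toAbExt (e + e')) h = _
  rw [toAbExt, Abelian.Ext.mapExactFunctor_add]
  exact Abelian.Ext.comp_add _ _ _ _

theorem hmul_mk₀ {G G' ω : X.Modules} {p i N : ℕ} (x : Coh.HH X G p) (φ : G ⟶ G') (e : Abelian.Ext G' ω i)
    (h : p + i = N) :
    hmul x ((Abelian.Ext.mk₀ φ).comp e (zero_add i)) h = hmul (Canon.HHlin k φ p x) e h := by
  show Abelian.Ext.comp x (toAbExt ((Abelian.Ext.mk₀ φ).comp e (zero_add i))) h =
    Abelian.Ext.comp (Abelian.Ext.comp x (Abelian.Ext.mk₀ ((QCoh.toAbFunctor X).map φ)) (add_zero p)) (toAbExt e) h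
  rw [toAbExt, Abelian.Ext.mapExactFunctor_comp, Abelian.Ext.mapExactFunctor_mk₀,
    Abelian.Ext.comp_assoc_of_second_deg_zero]
  rfl

theorem hmul_zero_deg {G ω : X.Modules} {N : ℕ} (x : Coh.HH X G N) (φ : G ⟶ ω) :
    hmul x (Abelian.Ext.mk₀ φ) (add_zero N) = Canon.HHlin k φ N x := by
  show Abelian.Ext.comp x (toAbExt (Abelian.Ext.mk₀ φ)) (add_zero N) = _
  rw [toAbExt, Abelian.Ext.mapExactFunctor_mk₀]
  rfl

theorem toAb_smul (M : X.Modules) (a : k) :
    (QCoh.toAbFunctor X).map (Formal.smulMod k M a) =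
      Coh.smulAb M (Coh.toGlobal (X ↘ Spec (CommRingCat.of k)) a) := rfl

theorem hmul_smul_right {G ω : X.Modules} {p i N : ℕ} (a : k) (x : Coh.HH X G p) (e : Abelian.Ext G ω i)
    (h : p + i = N) : hmul x (a • e) h = hmul (a • x) e h := by
  have he : a • e = (Abelian.Ext.mk₀ (Formal.smulMod k G a)).comp e (zero_add i) := by
    rw [← KLin.smul_id, Abelian.Ext.mk₀_smul, Abelian.Ext.smul_comp, Abelian.Ext.mk₀_id_comp]
  rw [he, hmul_mk₀ (k := k)]
  rfl

theorem hmul_smul_left {G ω : X.Modules} {p i N : ℕ} (a : k) (x : Coh.HH X G p) (e : Abelian.Ext G ω i)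
    (h : p + i = N) : hmul (a • x) e h = a • hmul x e h := by
  rw [← hmul_smul_right]
  have he : a • e = e.comp (Abelian.Ext.mk₀ (Formal.smulMod k ω a)) (add_zero i) := by
    rw [← KLin.smul_id, Abelian.Ext.mk₀_smul, Abelian.Ext.comp_smul, Abelian.Ext.comp_mk₀_id]
  rw [he]
  show Abelian.Ext.comp x (toAbExt (e.comp (Abelian.Ext.mk₀ (Formal.smulMod k ω a)) (add_zero i))) h =
    Abelian.Ext.comp (Abelian.Ext.comp x (toAbExt e) h)
      (Abelian.Ext.mk₀ (Coh.smulAb ω (Coh.toGlobal (X ↘ Spec (CommRingCat.of k)) a))) (add_zero N)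
  rw [toAbExt, Abelian.Ext.mapExactFunctor_comp, Abelian.Ext.mapExactFunctor_mk₀, toAb_smul,
    Abelian.Ext.comp_assoc_of_third_deg_zero]
  rfl

variable {ω : X.Modules} {N : ℕ}

/-- The pairing `Ext^i(G, ω) → H^p(G)^*`. -/
def pair (t : Coh.HH X ω N →ₗ[k] k) (G : X.Modules) {p i : ℕ} (h : p + i = N) :
    Abelian.Ext G ω i →ₗ[k] Module.Dual k (Coh.HH X G p) where
  toFun e :=
    { toFun := fun x => t (hmul x e h)
      map_add' := fun x y => by rw [hmul_add_left, map_add]
      map_smul' := fun a x => by rw [hmul_smul_left, map_smul, RingHom.id_apply] }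
  map_add' e e' := LinearMap.ext fun x => (congrArg t (hmul_add_right x e e' h)).trans (map_add t _ _)
  map_smul' a e := LinearMap.ext fun x => by
    show t (hmul x (a • e) h) = a • t (hmul x e h)
    rw [hmul_smul_right, hmul_smul_left, map_smul]

theorem pair_natural (t : Coh.HH X ω N →ₗ[k] k) {G G' : X.Modules} (φ : G ⟶ G') {p i : ℕ} (h : p + i = N)
    (e : Abelian.Ext G' ω i) (x : Coh.HH X G p) :
    pair t G h ((Abelian.Ext.mk₀ φ).comp e (zero_add i)) x = pair t G' h e (Canon.HHlin k φ p x) :=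
  congrArg t (hmul_mk₀ x φ e h)

theorem pair_zero (t : Coh.HH X ω N →ₗ[k] k) (G : X.Modules) (φ : G ⟶ ω) :
    pair t G (add_zero N) (Abelian.Ext.mk₀ φ) = Canon.dualityMap k X N ω t G φ :=
  LinearMap.ext fun x => congrArg t (hmul_zero_deg x φ)

theorem pair_extClass (t : Coh.HH X ω N →ₗ[k] k) {S : ShortComplex X.Modules} (hS : S.ShortExact) {p i : ℕ}
    (h : p + (i + 1) = N) (h' : p + 1 + i = N) (y : Abelian.Ext S.X₁ ω i) (x : Coh.HH X S.X₃ p) :
    pair t S.X₃ h (PnDual.extDelta k hS i y) x = pair t S.X₁ h' y (PnCoh.Finite.deltaLin k hS p x) := by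
  refine congrArg t ?_
  show Abelian.Ext.comp x (toAbExt (hS.extClass.comp y (add_comm 1 i))) h =
    Abelian.Ext.comp (Abelian.Ext.comp x (QCoh.toAb_shortExact hS).extClass rfl) (toAbExt y) h'
  rw [toAbExt, Abelian.Ext.mapExactFunctor_comp, Abelian.Ext.mapExactFunctor_extClass,
    Abelian.Ext.comp_assoc _ _ _ rfl (add_comm 1 i) (by omega)]
  rfl

/-- What a presentation must satisfy for duality in the `s` degrees below the top. -/
structure IsDualPresUpTo (s : ℕ) (t : Coh.HH X ω N →ₗ[k] k) (S : ShortComplex X.Modules) : Prop where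
  shortExact : S.ShortExact
  ext : ∀ j, 0 < j → Subsingleton (Abelian.Ext.{u} S.X₂ ω j)
  coh : ∀ j, j < N → N ≤ j + s → Subsingleton (Coh.HH X S.X₂ j)
  dual : Function.Bijective (Canon.dualityMap k X N ω t S.X₂)

/-- Natural duality in the `s` degrees below the top, from duality in the top degree and presentations. -/
theorem bijective_pair_range (P : X.Modules → Prop) (t : Coh.HH X ω N →ₗ[k] k) (s : ℕ)
    (htop : ∀ F, P F → Function.Bijective (Canon.dualityMap k X N ω t F))
    (hpres : ∀ F, P F → ∃ S : ShortComplex X.Modules, S.X₃ = F ∧ P S.X₁ ∧ IsDualPresUpTo s t S) :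
    ∀ (i : ℕ), i ≤ s → ∀ (F : X.Modules), P F → ∀ (p : ℕ) (h : p + i = N), Function.Bijective (pair t F h) := by
  intro i
  induction i with
  | zero =>
    intro _ F hF p h
    obtain rfl : N = p := (h.symm.trans (Nat.add_zero p))
    have e : ∀ φ, pair t F h (Abelian.Ext.mk₀ φ) = Canon.dualityMap k X N ω t F φ := pair_zero t F
    refine ⟨fun u v huv => ?_, fun ψ => ?_⟩
    · obtain ⟨φ, rfl⟩ := (Abelian.Ext.mk₀_bijective _ _).2 u
      obtain ⟨φ', rfl⟩ := (Abelian.Ext.mk₀_bijective _ _).2 v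
      rw [e, e] at huv
      rw [(htop F hF).1 huv]
    · obtain ⟨φ, hφ⟩ := (htop F hF).2 ψ
      exact ⟨Abelian.Ext.mk₀ φ, (e φ).trans hφ⟩
  | succ i ih =>
    intro his F hF p h
    obtain ⟨S, rfl, hK, hS⟩ := hpres F hF
    have h' : p + 1 + i = N := by omega
    have hK' := ih (by omega) S.X₁ hK (p + 1) h'
    have hδ : Function.Injective (PnCoh.Finite.deltaLin k hS.shortExact p) :=
      (injective_iff_map_eq_zero _).2 fun x hx => by
        obtain ⟨y, rfl⟩ := PnCoh.Finite.exists_of_deltaLin_eq_zero k hS.shortExact p hx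
        rw [(hS.coh p (by omega) (by omega)).elim y 0, map_zero]
    have key : ∀ y, pair t S.X₃ h (PnDual.extDelta k hS.shortExact i y) =
        (PnCoh.Finite.deltaLin k hS.shortExact p).dualMap (pair t S.X₁ h' y) := fun y =>
      LinearMap.ext fun x => pair_extClass t hS.shortExact h h' y x
    refine ⟨(injective_iff_map_eq_zero _).2 fun e he => ?_, fun ψ => ?_⟩
    · obtain ⟨y, rfl⟩ := PnDual.extDelta_surjective k hS.shortExact i (hS.ext (i + 1) (Nat.succ_pos i)) e
      rw [key] at he
      rcases i with _ | i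
      · obtain ⟨φ, rfl⟩ := (Abelian.Ext.mk₀_bijective _ _).2 y
        obtain rfl : N = p + 1 := by omega
        rw [pair_zero] at he
        obtain ⟨g, hg⟩ : Canon.dualityMap k X (p + 1) ω t S.X₁ φ ∈
            LinearMap.range (Canon.HHlin k S.f (p + 1)).dualMap := by
          rw [LinearMap.range_dualMap_eq_dualAnnihilator_ker, Submodule.mem_dualAnnihilator]
          intro x hx
          obtain ⟨w, rfl⟩ := (PnDual.HHlin_f_eq_zero_iff hS.shortExact p x).1 (LinearMap.mem_ker.1 hx)
          exact LinearMap.congr_fun he w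
        obtain ⟨ψ, hψ⟩ := hS.dual.2 g
        have hφ : φ = S.f ≫ ψ := (htop _ hK).1 (LinearMap.ext fun z => by
          rw [PnDual.dualityMap_comp, hψ]
          exact (LinearMap.congr_fun hg z).symm)
        show hS.shortExact.extClass.comp (Abelian.Ext.mk₀ φ) (add_comm 1 0) = 0
        rw [hφ, ← Abelian.Ext.mk₀_comp_mk₀, ← Abelian.Ext.comp_assoc_of_second_deg_zero,
          hS.shortExact.extClass_comp, Abelian.Ext.zero_comp]
      · have h0 : pair t S.X₁ h' y = 0 := LinearMap.ext fun x => by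
          obtain ⟨w, rfl⟩ := (PnDual.HHlin_f_eq_zero_iff (k := k) hS.shortExact p x).1
            ((hS.coh (p + 1) (by omega) (by omega)).elim _ _)
          exact LinearMap.congr_fun he w
        rw [hK'.1 (h0.trans (map_zero _).symm), map_zero]
    · obtain ⟨ψ', rfl⟩ := LinearMap.dualMap_surjective_of_injective hδ ψ
      obtain ⟨y, rfl⟩ := hK'.2 ψ'
      exact ⟨PnDual.extDelta k hS.shortExact i y, key y⟩

/-- Natural duality from duality in the top degree and presentations. -/
theorem bijective_pair_induction (P : X.Modules → Prop) (t : Coh.HH X ω N →ₗ[k] k)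
    (htop : ∀ F, P F → Function.Bijective (Canon.dualityMap k X N ω t F))
    (hpres : ∀ F, P F → ∃ S : ShortComplex X.Modules, S.X₃ = F ∧ P S.X₁ ∧ PnDual.IsDualPres ω N t S)
    (i : ℕ) (F : X.Modules) (hF : P F) (p : ℕ) (h : p + i = N) : Function.Bijective (pair t F h) :=
  bijective_pair_range P t N htop (fun F hF => by
    obtain ⟨S, h3, hK, hS⟩ := hpres F hF
    exact ⟨S, h3, hK, hS.shortExact, hS.ext, fun j hj _ => hS.coh j hj, hS.dual⟩) i (by omega) F hF p h

/-- Natural Serre duality on projective space. -/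
theorem exists_trace_pn (k : Type u) [Field k] (N : ℕ) [HasExt.{u} (CohB1.ProjSpace N k).Modules] :
    ∃ t : Coh.HH (CohB1.ProjSpace N k) (Twist.twistProjSpace N k (-((N : ℤ) + 1))) N →ₗ[k] k,
      ∀ (F : (CohB1.ProjSpace N k).Modules), Coh.IsCoh F → ∀ (i p : ℕ) (h : p + i = N),
        Function.Bijective (pair t F h) := by
  obtain ⟨t⟩ := PnDual.exists_trace' (m := N) (R := k) (b := -((N : ℤ) + 1)) rfl
  exact ⟨t.toLinearMap, fun F hF i p h => bijective_pair_induction PnDual.GoodPn t.toLinearMap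
    (fun F hF => PnDual.bijective_top_pn t hF) (fun F hF => PnDual.exists_dualPres t hF) i F
    (PnDual.goodPn_of_isCoh hF) p h⟩

end Groth.Agent.ExtShX
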